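import Cfsg.Agent.Lib.Helper8.Sat2

set_option autoImplicit false

namespace Cfsg.Agent.Lib.Helper8.Alperin

open Cfsg
open Cfsg.Agent.Lib.Helper8.Fusion Cfsg.Agent.Lib.Helper8.GroupFusion Cfsg.Agent.Lib.Helper8.Sat
  Cfsg.Agent.Lib.Helper8.Sat2

variable {Ω : Type*} [Group Ω] {S : Subgroup Ω}

theorem card_range_eq (F : FusionSystem S) {P : Subgroup Ω} {φ : P →* Ω} (hφ : φ ∈ F.Hom P) :
    Nat.card φ.range = Nat.card P :=
  (Nat.card_congr (MonoidHom.ofInjective (F.injective_of_mem hφ)).toEquiv).symm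

theorem card_eq_of_isConj (F : FusionSystem S) {P Q : Subgroup Ω} (h : F.IsConj P Q) :
    Nat.card Q = Nat.card P := by
  obtain ⟨φ, hφ, rfl⟩ := h
  exact card_range_eq F hφ

theorem isConj_ge (F : FusionSystem S) {P Q : Subgroup Ω} (h : F.IsConj P Q) : P ≤ S := by
  obtain ⟨φ, hφ, -⟩ := h
  exact (F.le_of_mem hφ).1

/-- Alperin-type generation: a saturated fusion system is generated by the automorphism groups
of its fully normalized centric subgroups. -/
theorem le_of_autGroup_le [Finite S] {p : ℕ} [Fact p.Prime] (hS : IsPGroup p S)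
    (F : FusionSystem S) (hF : F.IsSaturated p) (E : FusionSystem S)
    (hE : ∀ R : Subgroup Ω, F.IsFullyNormalized R → F.IsCentric R →
      F.autGroup R ≤ E.autGroup R) : F ≤ E := by
  have main : ∀ (d : ℕ) (P : Subgroup Ω), Nat.card S - Nat.card P = d →
      ∀ φ ∈ F.Hom P, φ ∈ E.Hom P := by
    intro d
    induction d using Nat.strong_induction_on with
    | _ d ih =>
    intro P hd φ hφ
    have hPS : P ≤ S := (F.le_of_mem hφ).1
    have hbig : ∀ T : Subgroup Ω, T ≤ S → Nat.card P < Nat.card T →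
        ∀ θ ∈ F.Hom T, θ ∈ E.Hom T := by
      intro T hTS hlt θ hθ
      have h1 : Nat.card T ≤ Nat.card S := Subgroup.card_le_of_le hTS
      exact ih (Nat.card S - Nat.card T) (by omega) T rfl θ hθ
    have claimA : ∀ R : Subgroup Ω, F.IsFullyNormalized R → Nat.card R = Nat.card P →
        F.autGroup R ≤ E.autGroup R := by
      intro R hRn hRcard
      by_cases hRc : F.IsCentric R
      · exact hE R hRn hRc
      have hRS : R ≤ S := hRn.1
      have hRfc := (isFullyCentralized_and_isFullyAutomized hS F hF hRn).1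
      have hRrec := isReceptive_of_isFullyCentralized hS F hF hRfc
      have hnle : ¬ FusionSystem.centralizerIn S R ≤ R :=
        fun h => hRc (isCentric_of_isFullyCentralized F hRfc h)
      intro α hα
      have hφ₀ : R.subtype.comp α.toMonoidHom ∈ F.Hom R := (mem_autGroup_iff F hRS α).mp hα
      obtain ⟨ψb, hψb, hext⟩ := hRrec.2 R _ hφ₀ (range_subtype_comp_aut α)
      have hT : R ⊔ FusionSystem.centralizerIn S R ≤
          FusionSystem.extender S R (R.subtype.comp α.toMonoidHom) :=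
        sup_le (le_extender_self F hφ₀) (centralizerIn_le_extender R _)
      have hTS : R ⊔ FusionSystem.centralizerIn S R ≤ S := sup_le hRS inf_le_left
      have hfinT : Finite ↥(R ⊔ FusionSystem.centralizerIn S R) := finite_of_le hTS
      have hlt : Nat.card R < Nat.card ↥(R ⊔ FusionSystem.centralizerIn S R) := by
        by_contra hcon
        have hle' : R ≤ R ⊔ FusionSystem.centralizerIn S R := le_sup_left
        have h1 : R = R ⊔ FusionSystem.centralizerIn S R :=
          Subgroup.eq_of_le_of_card_ge hle' (not_lt.mp hcon)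
        apply hnle
        have hle'' : FusionSystem.centralizerIn S R ≤ R ⊔ FusionSystem.centralizerIn S R :=
          le_sup_right
        exact hle''.trans h1.ge
      have h2 := hbig _ hTS (hRcard ▸ hlt) _ (restrict_mem F hT hψb)
      have h3 := restrict_mem E (le_sup_left : R ≤ R ⊔ FusionSystem.centralizerIn S R) h2
      rw [mem_autGroup_iff E hRS]
      exact hom_congr E h3 (fun x => (hext x x.2 _).symm)
    have claimB : ∀ P' R : Subgroup Ω, Nat.card P' = Nat.card P → F.IsFullyNormalized R →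
        F.IsConj P' R → ∃ ψ, ψ ∈ E.Hom P' ∧ ψ ∈ F.Hom P' ∧ ψ.range = R := by
      intro P' R hcard hRn hconj
      have hP'S : P' ≤ S := isConj_ge F hconj
      have hRS : R ≤ S := hRn.1
      by_cases hP'eq : P' = S
      · have hReq : R = S := by
          apply Subgroup.eq_of_le_of_card_ge hRS
          rw [card_eq_of_isConj F hconj, hP'eq]
        refine ⟨P'.subtype, id_mem E hP'S, id_mem F hP'S, ?_⟩
        rw [Subgroup.range_subtype, hP'eq, hReq]
      have hP'lt : P' < S := lt_of_le_of_ne hP'S hP'eq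
      have hRfa := isFullyCentralized_and_isFullyAutomized hS F hF hRn
      have hRrec := isReceptive_of_isFullyCentralized hS F hF hRfa.1
      obtain ⟨ψb, hψb, -, hψbR⟩ := exists_normalizer_hom hS F hRfa.2 hRrec hconj
      have hlt := card_lt_card_normalizerIn hS hP'lt
      have h1 := hbig _ inf_le_left (hcard ▸ hlt) ψb hψb
      have hP'N : P' ≤ FusionSystem.normalizerIn S P' := le_normalizerIn_self hP'S
      refine ⟨ψb.comp (Subgroup.inclusion hP'N), restrict_mem E hP'N h1,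
        restrict_mem F hP'N hψb, ?_⟩
      rw [← hψbR]
      ext y
      constructor
      · rintro ⟨x, rfl⟩
        exact ⟨Subgroup.inclusion hP'N x, x.2, rfl⟩
      · rintro ⟨n, hn, rfl⟩
        exact ⟨⟨n, hn⟩, rfl⟩
    obtain ⟨R, hPR, hRn⟩ := exists_fullyNormalized_conj F hPS
    have hRS : R ≤ S := hRn.1
    have hQR : F.IsConj φ.range R := isConj_trans F (isConj_symm F ⟨φ, hφ, rfl⟩) hPR
    obtain ⟨ψ₁, hψ₁E, hψ₁F, hψ₁r⟩ := claimB P R rfl hRn hPR
    obtain ⟨ψ₂, hψ₂E, hψ₂F, hψ₂r⟩ := claimB φ.range R (card_range_eq F hφ) hRn hQR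
    obtain ⟨e₁, he₁⟩ : ∃ e₁ : P ≃* R, e₁ = isoOfHom ψ₁ (F.injective_of_mem hψ₁F) hψ₁r :=
      ⟨_, rfl⟩
    obtain ⟨e₂, he₂⟩ : ∃ e₂ : φ.range ≃* R,
        e₂ = isoOfHom ψ₂ (F.injective_of_mem hψ₂F) hψ₂r := ⟨_, rfl⟩
    obtain ⟨e₀, he₀⟩ : ∃ e₀ : P ≃* φ.range, e₀ = isoOfHom φ (F.injective_of_mem hφ) rfl :=
      ⟨_, rfl⟩
    have he₁coe : ∀ x : P, ((e₁ x : R) : Ω) = ψ₁ x := fun x => by rw [he₁, isoOfHom_coe]
    have he₂coe : ∀ x : φ.range, ((e₂ x : R) : Ω) = ψ₂ x := fun x => by rw [he₂, isoOfHom_coe]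
    have he₀coe : ∀ x : P, ((e₀ x : φ.range) : Ω) = φ x := fun x => by rw [he₀, isoOfHom_coe]
    obtain ⟨α, hα⟩ : ∃ α : MulAut R, α = e₁.symm.trans (e₀.trans e₂) := ⟨_, rfl⟩
    have hαapply : ∀ r : R, α r = e₂ (e₀ (e₁.symm r)) := fun r => by
      rw [hα]
      rfl
    have hαF : α ∈ F.autGroup R := by
      rw [mem_autGroup_iff F hRS]
      have h1 : P.subtype.comp e₁.symm.toMonoidHom ∈ F.Hom R := by
        rw [he₁]
        exact isoOfHom_symm_mem F hψ₁F hψ₁r
      have hv1 : ∀ r : R, (P.subtype.comp e₁.symm.toMonoidHom) r ∈ P := fun r => Subtype.property _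
      have h2 := F.comp_mem h1 hφ hv1
      have hv2 : ∀ r : R, (φ.comp ((P.subtype.comp e₁.symm.toMonoidHom).codRestrict P hv1)) r ∈
          φ.range := fun r => ⟨_, rfl⟩
      refine comp_mem' F h2 hψ₂F hv2 (fun r => ?_)
      show ((α r : R) : Ω) = _
      rw [hαapply, he₂coe]
      congr 1
      apply Subtype.ext
      rw [he₀coe]
      rfl
    have hαE : α ∈ E.autGroup R := claimA R hRn (card_eq_of_isConj F hPR) hαF
    have hαE' : R.subtype.comp α.toMonoidHom ∈ E.Hom R := (mem_autGroup_iff E hRS α).mp hαE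
    have hχ₂ : (φ.range).subtype.comp e₂.symm.toMonoidHom ∈ E.Hom R := by
      rw [he₂]
      exact isoOfHom_symm_mem E hψ₂E hψ₂r
    have hv3 : ∀ x : P, ψ₁ x ∈ R := fun x => hψ₁r.le ⟨x, rfl⟩
    have h4 := E.comp_mem hψ₁E hαE' hv3
    have hv4 : ∀ x : P, ((R.subtype.comp α.toMonoidHom).comp (ψ₁.codRestrict R hv3)) x ∈ R :=
      fun x => Subtype.property _
    refine comp_mem' E h4 hχ₂ hv4 (fun x => ?_)
    show φ x = ((e₂.symm (α ⟨ψ₁ x, hv3 x⟩) : φ.range) : Ω)
    have h5 : (⟨ψ₁ x, hv3 x⟩ : R) = e₁ x := Subtype.ext (he₁coe x).symm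
    rw [h5, hαapply, MulEquiv.symm_apply_apply, MulEquiv.symm_apply_apply, he₀coe]
  intro P φ hφ
  exact main _ P rfl φ hφ

theorem fusionSystem_ext {F E : FusionSystem S} (h : ∀ P : Subgroup Ω, F.Hom P = E.Hom P) :
    F = E := by
  cases F
  cases E
  congr
  funext P
  exact h P

theorem eq_innerFusionSystem [Finite S] {p : ℕ} [Fact p.Prime] (hS : IsPGroup p S)
    (F : FusionSystem S) (hF : F.IsSaturated p)
    (h : ∀ P : Subgroup Ω, P ≤ S → IsPGroup p (F.autGroup P)) : F = innerFusionSystem S := by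
  have h1 : F ≤ innerFusionSystem S := by
    apply le_of_autGroup_le hS F hF
    intro R hRn _
    have hRS : R ≤ S := hRn.1
    obtain ⟨-, R₀, hR₀⟩ := (isFullyCentralized_and_isFullyAutomized hS F hF hRn).2
    have htop : (R₀ : Subgroup (F.autGroup R)) = ⊤ :=
      (R₀.is_maximal' ((h R hRS).to_subgroup ⊤) le_top).symm
    rw [hR₀, Subgroup.subgroupOf_eq_top] at htop
    exact htop.trans (autInducedBy_le_autGroup (innerFusionSystem S) hRS)
  have h2 : innerFusionSystem S ≤ F := by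
    rintro P φ ⟨hP, g, hg, hφ⟩
    exact hom_congr F (F.conj_mem hP hg) hφ
  exact fusionSystem_ext (fun P => Set.Subset.antisymm (h1 P) (h2 P))

end Cfsg.Agent.Lib.Helper8.Alperin
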