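import Cfsg.Agent.Lib.Helper8.Alperin

set_option autoImplicit false

namespace Cfsg.Agent.Lib.Helper8.Central

open Cfsg
open Cfsg.Agent.Lib.Helper8.Fusion Cfsg.Agent.Lib.Helper8.GroupFusion Cfsg.Agent.Lib.Helper8.Sat
  Cfsg.Agent.Lib.Helper8.Sat2 Cfsg.Agent.Lib.Helper8.Alperin

variable {Ω : Type*} [Group Ω] {S : Subgroup Ω}

/-- The subsystem over `S` of maps that extend to maps fixing `Q` elementwise, for `Q ≤ Z(S)`. -/
def centralSubsystem (F : FusionSystem S) (Q : Subgroup Ω) (hQ : Q ≤ S)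
    (hQZ : Q ≤ Subgroup.centralizer (S : Set Ω)) : FusionSystem S where
  Hom P := {φ | φ ∈ F.Hom P ∧ ∃ ψ ∈ F.Hom (P ⊔ Q),
    (∀ x : P, ψ (Subgroup.inclusion le_sup_left x) = φ x) ∧
      ∀ x : Q, ψ (Subgroup.inclusion le_sup_right x) = x}
  le_of_mem h := F.le_of_mem h.1
  injective_of_mem h := F.injective_of_mem h.1
  conj_mem := by
    intro P g hPS hgS
    refine ⟨F.conj_mem hPS hgS, conjHom (P ⊔ Q) g,
      F.conj_mem (sup_le hPS hQ) hgS, fun x => rfl, fun x => ?_⟩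
    show g * (x : Ω) * g⁻¹ = x
    have h1 : g * (x : Ω) = (x : Ω) * g := hQZ x.2 g hgS
    rw [h1]
    group
  comp_mem := by
    rintro P R φ ψ ⟨hφ, φ', hφ', hφ'P, hφ'Q⟩ ⟨hψ, ψ', hψ', hψ'R, hψ'Q⟩ h
    refine ⟨F.comp_mem hφ hψ h, ?_⟩
    have hval : ∀ x : ↥(P ⊔ Q), φ' x ∈ R ⊔ Q := by
      apply forall_mem_of_sup
      · intro a
        rw [hφ'P]
        exact (le_sup_left : R ≤ R ⊔ Q) (h a)
      · intro b
        rw [hφ'Q]
        exact (le_sup_right : Q ≤ R ⊔ Q) b.2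
    refine ⟨ψ'.comp (φ'.codRestrict (R ⊔ Q) hval), F.comp_mem hφ' hψ' hval, fun x => ?_,
      fun x => ?_⟩
    · show ψ' ⟨φ' (Subgroup.inclusion le_sup_left x), _⟩ = ψ ⟨φ x, h x⟩
      rw [← hψ'R]
      congr 1
      exact Subtype.ext (hφ'P x)
    · show ψ' ⟨φ' (Subgroup.inclusion le_sup_right x), _⟩ = x
      rw [← hψ'Q x]
      congr 1
      exact Subtype.ext (hφ'Q x)
  inv_mem := by
    rintro P φ ⟨hφ, φ', hφ', hφ'P, hφ'Q⟩
    obtain ⟨χ, hχ, hχinv⟩ := F.inv_mem hφ'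
    have hle1 : φ.range ≤ φ'.range := by
      rintro _ ⟨x, rfl⟩
      exact ⟨Subgroup.inclusion le_sup_left x, hφ'P x⟩
    have hle2 : Q ≤ φ'.range := by
      intro q hq
      exact ⟨Subgroup.inclusion le_sup_right ⟨q, hq⟩, hφ'Q ⟨q, hq⟩⟩
    have hle : φ.range ⊔ Q ≤ φ'.range := sup_le hle1 hle2
    have hkey : ∀ x : P, χ ⟨φ x, hle1 ⟨x, rfl⟩⟩ = (x : Ω) := by
      intro x
      have h1 := hχinv (Subgroup.inclusion le_sup_left x)
      have h2 : (⟨φ x, hle1 ⟨x, rfl⟩⟩ : φ'.range) =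
          ⟨φ' (Subgroup.inclusion le_sup_left x), ⟨_, rfl⟩⟩ := Subtype.ext (hφ'P x).symm
      rw [h2]
      exact h1
    have hkey2 : ∀ x : Q, χ ⟨(x : Ω), hle2 x.2⟩ = (x : Ω) := by
      intro x
      have h1 := hχinv (Subgroup.inclusion le_sup_right x)
      have h2 : (⟨(x : Ω), hle2 x.2⟩ : φ'.range) =
          ⟨φ' (Subgroup.inclusion le_sup_right x), ⟨_, rfl⟩⟩ := Subtype.ext (hφ'Q x).symm
      rw [h2]
      exact h1
    exact ⟨χ.comp (Subgroup.inclusion hle1), ⟨restrict_mem F hle1 hχ,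
      χ.comp (Subgroup.inclusion hle), restrict_mem F hle hχ, fun x => rfl, fun x => hkey2 x⟩,
      fun x => hkey x⟩

theorem isCentral_iff [Finite S] {p : ℕ} [Fact p.Prime] (hS : IsPGroup p S)
    (F : FusionSystem S) (hF : F.IsSaturated p) (Q : Subgroup Ω) :
    F.IsCentral Q ↔ (Q ≤ S ∧ ∀ x ∈ Q, ∀ y : Ω, F.IsConjElt x y → y = x) := by
  constructor
  · rintro ⟨hQS, hQ⟩
    refine ⟨hQS, ?_⟩
    rintro x hx y ⟨φ, hφ, rfl⟩
    obtain ⟨ψ, -, hψ1, hψ2⟩ := hQ _ φ hφ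
    have h1 := hψ1 ⟨x, Subgroup.mem_zpowers x⟩
    have h2 := hψ2 ⟨x, hx⟩
    rw [← h1]
    exact h2
  · rintro ⟨hQS, hQ⟩
    have hQZ : Q ≤ Subgroup.centralizer (S : Set Ω) := by
      intro x hx
      rw [Subgroup.mem_centralizer_iff]
      intro s hs
      have hxS : Subgroup.zpowers x ≤ S := by
        rw [Subgroup.zpowers_le]
        exact hQS hx
      have h1 : s * x * s⁻¹ = x := hQ x hx _ ⟨conjHom _ s, F.conj_mem hxS hs, rfl⟩
      calc s * x = s * x * s⁻¹ * s := by group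
        _ = x * s := by rw [h1]
    have hle : F ≤ centralSubsystem F Q hQS hQZ := by
      apply le_of_autGroup_le hS F hF
      intro R hRn hRc
      have hRS : R ≤ S := hRn.1
      have hQR : Q ≤ R := by
        refine le_trans ?_ (hRc.2 R (isConj_refl F hRS))
        exact le_inf hQS (hQZ.trans (Subgroup.centralizer_le hRS))
      intro α hα
      have hαF : R.subtype.comp α.toMonoidHom ∈ F.Hom R := (mem_autGroup_iff F hRS α).mp hα
      rw [mem_autGroup_iff (centralSubsystem F Q hQS hQZ) hRS]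
      have hsup : R ⊔ Q ≤ R := sup_le le_rfl hQR
      refine ⟨hαF, (R.subtype.comp α.toMonoidHom).comp (Subgroup.inclusion hsup),
        restrict_mem F hsup hαF, fun x => rfl, fun x => ?_⟩
      have hxR : Subgroup.zpowers (x : Ω) ≤ R := by
        rw [Subgroup.zpowers_le]
        exact hQR x.2
      exact hQ x x.2 _ ⟨_, restrict_mem F hxR hαF, rfl⟩
    refine ⟨hQS, ?_⟩
    intro P φ hφ
    exact (hle P hφ).2

end Cfsg.Agent.Lib.Helper8.Central
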