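import Cfsg.Agent.Lib.Helper8.Morph2

set_option autoImplicit false

namespace Cfsg.Agent.Lib.Helper8.Hyp2

open Cfsg Cfsg.FusionSystem Cfsg.Agent.Lib.Helper8.Fusion Cfsg.Agent.Lib.Helper8.FactorSys
  Cfsg.Agent.Lib.Helper8.Sat Cfsg.Agent.Lib.Helper8.Sat2 Cfsg.Agent.Lib.Helper8.Alperin2
  Cfsg.Agent.Lib.Helper8.GroupSub Cfsg.Agent.Lib.Helper8.Morph Cfsg.Agent.Lib.Helper8.Focal

variable {Ω : Type*} [Group Ω] {S : Subgroup Ω}

theorem aut_mem_of_sc (F : FusionSystem S) {T : Subgroup Ω} (hT : F.StronglyClosed T)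
    {Q : Subgroup Ω} (hQS : Q ≤ S) (b : F.autGroup Q) (t : Q) (ht : (t : Ω) ∈ T) :
    ((((b : MulAut Q) t : Q)) : Ω) ∈ T :=
  map_mem_of_sc F hT ((mem_autGroup_iff F hQS (b : MulAut Q)).1 b.2) t ht

/-- Pairs `(a, b)` of automorphisms of `P` and `P T` agreeing modulo `T` on `P`. -/
def liftRel (F : FusionSystem S) {T : Subgroup Ω} (hT : F.StronglyClosed T) {P : Subgroup Ω}
    (hPS : P ≤ S) : Subgroup (F.autGroup P × F.autGroup (P ⊔ T)) where
  carrier := {ab | ∀ y : P, ((((ab.1 : MulAut P) y : P)) : Ω)⁻¹ *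
    ((((ab.2 : MulAut ↥(P ⊔ T)) (Subgroup.inclusion le_sup_left y) : ↥(P ⊔ T))) : Ω) ∈ T}
  one_mem' := fun y => by
    show (y : Ω)⁻¹ * (y : Ω) ∈ T
    rw [inv_mul_cancel]
    exact T.one_mem
  mul_mem' := fun {a b} ha hb y => by
    have hPT : P ⊔ T ≤ S := sup_le hPS hT.1
    obtain ⟨z, hz⟩ : ∃ z : P, z = (b.1 : MulAut P) y := ⟨_, rfl⟩
    obtain ⟨t, ht⟩ : ∃ t : ↥(P ⊔ T), t = (Subgroup.inclusion le_sup_left z)⁻¹ *
        (b.2 : MulAut ↥(P ⊔ T)) (Subgroup.inclusion le_sup_left y) := ⟨_, rfl⟩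
    have htT : (t : Ω) ∈ T := by rw [ht, hz]; exact hb y
    have h1 : (b.2 : MulAut ↥(P ⊔ T)) (Subgroup.inclusion le_sup_left y) =
        Subgroup.inclusion le_sup_left z * t := by rw [ht, mul_inv_cancel_left]
    have h2 := aut_mem_of_sc F hT hPT a.2 t htT
    have h3 := ha z
    show ((((a.1 : MulAut P) ((b.1 : MulAut P) y) : P)) : Ω)⁻¹ *
      ((((a.2 : MulAut ↥(P ⊔ T)) ((b.2 : MulAut ↥(P ⊔ T))
        (Subgroup.inclusion le_sup_left y)) : ↥(P ⊔ T))) : Ω) ∈ T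
    rw [h1, map_mul, ← hz, Subgroup.coe_mul, ← mul_assoc]
    exact T.mul_mem h3 h2
  inv_mem' := fun {a} ha y => by
    have hPT : P ⊔ T ≤ S := sup_le hPS hT.1
    obtain ⟨z, hz⟩ : ∃ z : P, z = (a.1 : MulAut P)⁻¹ y := ⟨_, rfl⟩
    have hzy : (a.1 : MulAut P) z = y := by rw [hz]; exact MulAut.apply_inv_self _ _ _
    obtain ⟨t, ht⟩ : ∃ t : ↥(P ⊔ T), t = (Subgroup.inclusion le_sup_left y)⁻¹ *
        (a.2 : MulAut ↥(P ⊔ T)) (Subgroup.inclusion le_sup_left z) := ⟨_, rfl⟩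
    have htT : (t : Ω) ∈ T := by rw [ht, ← hzy]; exact ha z
    have h1 : (a.2 : MulAut ↥(P ⊔ T)) (Subgroup.inclusion le_sup_left z) =
        Subgroup.inclusion le_sup_left y * t := by rw [ht, mul_inv_cancel_left]
    have h2 := aut_mem_of_sc F hT hPT a.2⁻¹ t htT
    have h3 : ((a.2 : MulAut ↥(P ⊔ T)))⁻¹ (Subgroup.inclusion le_sup_left y) =
        Subgroup.inclusion le_sup_left z * (((a.2 : MulAut ↥(P ⊔ T)))⁻¹ t)⁻¹ := by
      have h4 : ((a.2 : MulAut ↥(P ⊔ T)))⁻¹ ((a.2 : MulAut ↥(P ⊔ T))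
          (Subgroup.inclusion le_sup_left z)) = Subgroup.inclusion le_sup_left z :=
        MulAut.inv_apply_self _ _ _
      rw [h1, map_mul] at h4
      rw [← h4, mul_inv_cancel_right]
    show ((((a.1 : MulAut P)⁻¹ y : P)) : Ω)⁻¹ *
      (((((a.2 : MulAut ↥(P ⊔ T)))⁻¹ (Subgroup.inclusion le_sup_left y) : ↥(P ⊔ T))) : Ω) ∈ T
    rw [h3, ← hz, Subgroup.coe_mul]
    have h5 : ((Subgroup.inclusion le_sup_left z : ↥(P ⊔ T)) : Ω) = (z : Ω) := rfl
    rw [h5, inv_mul_cancel_left, Subgroup.coe_inv]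
    exact T.inv_mem h2

theorem exists_lift [Finite S] {p : ℕ} [Fact p.Prime] (hS : IsPGroup p S)
    (F : FusionSystem S) (hF : F.IsSaturated p) {T : Subgroup Ω} (hT : F.StronglyClosed T)
    {P : Subgroup Ω} (hPS : P ≤ S) (a : F.autGroup P) :
    ∃ b : F.autGroup (P ⊔ T), (a, b) ∈ liftRel F hT hPS := by
  have hPT : P ⊔ T ≤ S := sup_le hPS hT.1
  have hφ := (mem_autGroup_iff F hPS (a : MulAut P)).1 a.2
  obtain ⟨-, ψ, hψ, hψT⟩ := le_modSystem hS F hF hT P hφ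
  have hmem : ∀ w : ↥(P ⊔ T), ψ w ∈ P ⊔ T := by
    have h1 : P ⊔ T ≤ ((P ⊔ T).comap ψ).map (P ⊔ T).subtype := by
      apply sup_le
      · intro x hx
        refine ⟨Subgroup.inclusion le_sup_left ⟨x, hx⟩, ?_, rfl⟩
        show ψ _ ∈ P ⊔ T
        have h2 := hψT ⟨x, hx⟩
        have h3 : ψ (Subgroup.inclusion le_sup_left ⟨x, hx⟩) =
            (P.subtype.comp (a : MulAut P).toMonoidHom) ⟨x, hx⟩ *
              (((P.subtype.comp (a : MulAut P).toMonoidHom) ⟨x, hx⟩)⁻¹ *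
                ψ (Subgroup.inclusion le_sup_left ⟨x, hx⟩)) := by rw [mul_inv_cancel_left]
        rw [h3]
        exact Subgroup.mul_mem _ (Subgroup.mem_sup_left ((a : MulAut P) ⟨x, hx⟩).2)
          (Subgroup.mem_sup_right h2)
      · intro x hx
        refine ⟨Subgroup.inclusion le_sup_right ⟨x, hx⟩, ?_, rfl⟩
        show ψ _ ∈ P ⊔ T
        exact Subgroup.mem_sup_right (map_mem_of_sc F hT hψ _ hx)
    intro w
    obtain ⟨w', hw', hww⟩ := h1 w.2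
    have : w' = w := Subtype.ext hww
    rw [← this]
    exact hw'
  have hr := range_eq_of_forall_mem F hψ hmem
  obtain ⟨β, hβ⟩ : ∃ β : MulAut ↥(P ⊔ T), β = isoOfHom ψ (F.injective_of_mem hψ) hr :=
    ⟨_, rfl⟩
  have hβψ : ∀ w, ((β w : ↥(P ⊔ T)) : Ω) = ψ w := fun w => by
    rw [hβ]
    exact isoOfHom_coe _ _ _ w
  have hβA : β ∈ F.autGroup (P ⊔ T) := by
    rw [mem_autGroup_iff F hPT]
    exact hom_congr F hψ hβψ
  refine ⟨⟨β, hβA⟩, fun y => ?_⟩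
  show (((a : MulAut P) y : P) : Ω)⁻¹ *
    ((β (Subgroup.inclusion le_sup_left y) : ↥(P ⊔ T)) : Ω) ∈ T
  rw [hβψ]
  exact hψT y

theorem exists_lift_pResidual [Finite S] {p : ℕ} [Fact p.Prime] (hS : IsPGroup p S)
    (F : FusionSystem S) (hF : F.IsSaturated p) {T : Subgroup Ω} (hT : F.StronglyClosed T)
    {P : Subgroup Ω} (hPS : P ≤ S) {a : F.autGroup P} (ha : a ∈ pResidual p (F.autGroup P)) :
    ∃ b ∈ pResidual p (F.autGroup (P ⊔ T)), (a, b) ∈ liftRel F hT hPS := by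
  have hPT : P ⊔ T ≤ S := sup_le hPS hT.1
  have hfinP : Finite P := finite_of_le hPS
  have hfinPT : Finite ↥(P ⊔ T) := finite_of_le hPT
  have hfinA : Finite (F.autGroup P) := inferInstance
  have hfinB : Finite (F.autGroup (P ⊔ T)) := inferInstance
  have hfinR : Finite (liftRel F hT hPS) := inferInstance
  obtain ⟨f, hf⟩ : ∃ f : liftRel F hT hPS →* F.autGroup P,
      f = (MonoidHom.fst _ _).comp (liftRel F hT hPS).subtype := ⟨_, rfl⟩
  have hsurj : Function.Surjective f := by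
    intro a'
    obtain ⟨b, hb⟩ := exists_lift hS F hF hT hPS a'
    exact ⟨⟨(a', b), hb⟩, by rw [hf]; rfl⟩
  obtain ⟨r, hr, hra⟩ := HypGroup.pResidual_le_map (p := p) f hsurj ha
  refine ⟨(r : F.autGroup P × F.autGroup (P ⊔ T)).2,
    Hyp.map_mem_pResidual p ((MonoidHom.snd _ _).comp (liftRel F hT hPS).subtype) hr, ?_⟩
  have h1 : (r : F.autGroup P × F.autGroup (P ⊔ T)).1 = a := by rw [← hra, hf]; rfl
  rw [← h1]
  exact r.2

/-- Restriction of an automorphism of `Q ≥ T` to the strongly closed subgroup `T`. -/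
def resAut (F : FusionSystem S) {T : Subgroup Ω} (hT : F.StronglyClosed T) {Q : Subgroup Ω}
    (hTQ : T ≤ Q) (hQS : Q ≤ S) (b : F.autGroup Q) : MulAut T where
  toFun t := ⟨(((b : MulAut Q) (Subgroup.inclusion hTQ t) : Q) : Ω),
    aut_mem_of_sc F hT hQS b _ t.2⟩
  invFun t := ⟨((((b⁻¹ : F.autGroup Q) : MulAut Q) (Subgroup.inclusion hTQ t) : Q) : Ω),
    aut_mem_of_sc F hT hQS b⁻¹ _ t.2⟩
  left_inv t := by
    apply Subtype.ext
    have h1 : (Subgroup.inclusion hTQ ⟨(((b : MulAut Q) (Subgroup.inclusion hTQ t) : Q) : Ω),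
        aut_mem_of_sc F hT hQS b _ t.2⟩ : Q) = (b : MulAut Q) (Subgroup.inclusion hTQ t) :=
      Subtype.ext rfl
    show ((((b⁻¹ : F.autGroup Q) : MulAut Q) (Subgroup.inclusion hTQ ⟨_, _⟩) : Q) : Ω) = t
    rw [h1]
    have h2 : ((b⁻¹ : F.autGroup Q) : MulAut Q) ((b : MulAut Q) (Subgroup.inclusion hTQ t)) =
        Subgroup.inclusion hTQ t := MulAut.inv_apply_self _ _ _
    rw [h2]
    rfl
  right_inv t := by
    apply Subtype.ext
    have h1 : (Subgroup.inclusion hTQ ⟨((((b⁻¹ : F.autGroup Q) : MulAut Q)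
        (Subgroup.inclusion hTQ t) : Q) : Ω), aut_mem_of_sc F hT hQS b⁻¹ _ t.2⟩ : Q) =
        ((b⁻¹ : F.autGroup Q) : MulAut Q) (Subgroup.inclusion hTQ t) :=
      Subtype.ext rfl
    show (((b : MulAut Q) (Subgroup.inclusion hTQ ⟨_, _⟩) : Q) : Ω) = t
    rw [h1]
    have h2 : (b : MulAut Q) (((b⁻¹ : F.autGroup Q) : MulAut Q) (Subgroup.inclusion hTQ t)) =
        Subgroup.inclusion hTQ t := MulAut.apply_inv_self _ _ _
    rw [h2]
    rfl
  map_mul' t u := by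
    apply Subtype.ext
    show (((b : MulAut Q) (Subgroup.inclusion hTQ (t * u)) : Q) : Ω) = _ * _
    rw [map_mul, map_mul]
    rfl

theorem resAut_coe (F : FusionSystem S) {T : Subgroup Ω} (hT : F.StronglyClosed T)
    {Q : Subgroup Ω} (hTQ : T ≤ Q) (hQS : Q ≤ S) (b : F.autGroup Q) (t : T) :
    ((resAut F hT hTQ hQS b t : T) : Ω) = (((b : MulAut Q) (Subgroup.inclusion hTQ t) : Q) : Ω) :=
  rfl

theorem resAut_mem (F : FusionSystem S) {T : Subgroup Ω} (hT : F.StronglyClosed T)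
    {Q : Subgroup Ω} (hTQ : T ≤ Q) (hQS : Q ≤ S) (b : F.autGroup Q) :
    resAut F hT hTQ hQS b ∈ F.autGroup T := by
  rw [mem_autGroup_iff F hT.1]
  exact hom_congr F (restrict_mem F hTQ ((mem_autGroup_iff F hQS (b : MulAut Q)).1 b.2))
    (fun x => rfl)

/-- The restriction homomorphism `Aut_F(Q) → Aut_F(T)`. -/
def resHom (F : FusionSystem S) {T : Subgroup Ω} (hT : F.StronglyClosed T) {Q : Subgroup Ω}
    (hTQ : T ≤ Q) (hQS : Q ≤ S) : F.autGroup Q →* F.autGroup T where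
  toFun b := ⟨resAut F hT hTQ hQS b, resAut_mem F hT hTQ hQS b⟩
  map_one' := by
    apply Subtype.ext
    apply MulEquiv.ext
    intro t
    rfl
  map_mul' a b := by
    apply Subtype.ext
    apply MulEquiv.ext
    intro t
    rfl

theorem resAut_conj (F : FusionSystem S) {T : Subgroup Ω} (hT : F.StronglyClosed T)
    {Q : Subgroup Ω} (hTQ : T ≤ Q) (hQS : Q ≤ S) (b : F.autGroup Q) (y : Q)
    (hN : S ≤ Subgroup.normalizer (T : Set Ω)) (t : T) :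
    resAut F hT hTQ hQS b (T.normalizerMonoidHom ⟨y, hN (hQS y.2)⟩ t) =
      T.normalizerMonoidHom ⟨(((b : MulAut Q) y : Q) : Ω), hN (hQS (Subtype.property _))⟩
        (resAut F hT hTQ hQS b t) := by
  apply Subtype.ext
  have h1 : Subgroup.inclusion hTQ (T.normalizerMonoidHom ⟨y, hN (hQS y.2)⟩ t) =
      y * Subgroup.inclusion hTQ t * y⁻¹ := Subtype.ext rfl
  show (((b : MulAut Q) (Subgroup.inclusion hTQ (T.normalizerMonoidHom ⟨y, hN (hQS y.2)⟩ t)) :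
    Q) : Ω) = _
  rw [h1, map_mul, map_mul, map_inv]
  rfl

/-- Elements of the hyperfocal subgroup act on a strongly closed subgroup `T` as elements of
`O^p(Aut_F(T)) Inn(T)`. -/
theorem hyperfocal_conj [Finite S] {p : ℕ} [Fact p.Prime] (hS : IsPGroup p S)
    (F : FusionSystem S) (hF : F.IsSaturated p) (T : Subgroup Ω) (hT : F.StronglyClosed T) :
    ∀ x ∈ F.hyperfocalSubgroup p, ∃ α ∈ ((Cfsg.pResidual p ↥(F.autGroup T)).map
      (F.autGroup T).subtype ⊔ Cfsg.Inn ↥T : Subgroup (MulAut ↥T)),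
      ∀ t : ↥T, ((α t : ↥T) : Ω) = x * (t : Ω) * x⁻¹ := by
  have hN := le_normalizer_of_sc F hT
  obtain ⟨N, hNdef⟩ : ∃ N : Subgroup (MulAut T), N = (Cfsg.pResidual p ↥(F.autGroup T)).map
    (F.autGroup T).subtype ⊔ Cfsg.Inn ↥T := ⟨_, rfl⟩
  rw [← hNdef]
  have key : F.hyperfocalSubgroup p ≤
      (N.comap T.normalizerMonoidHom).map (Subgroup.normalizer (T : Set Ω)).subtype := by
    rw [FusionSystem.hyperfocalSubgroup, Subgroup.closure_le]
    rintro _ ⟨P, a, y, hPS, ha, rfl⟩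
    obtain ⟨b, hb, hab⟩ := exists_lift_pResidual hS F hF hT hPS ha
    have hPT : P ⊔ T ≤ S := sup_le hPS hT.1
    obtain ⟨y₁, hy₁⟩ : ∃ y₁ : Subgroup.normalizer (T : Set Ω),
        y₁ = ⟨(y : Ω), hN (hPS y.2)⟩ := ⟨_, rfl⟩
    obtain ⟨y₂, hy₂⟩ : ∃ y₂ : Subgroup.normalizer (T : Set Ω),
        y₂ = ⟨(((a : MulAut P) y : P) : Ω), hN (hPS (Subtype.property _))⟩ := ⟨_, rfl⟩
    obtain ⟨y₃, hy₃⟩ : ∃ y₃ : Subgroup.normalizer (T : Set Ω),
        y₃ = ⟨((((b : MulAut ↥(P ⊔ T)) (Subgroup.inclusion le_sup_left y) : ↥(P ⊔ T))) : Ω),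
          hN (hPT (Subtype.property _))⟩ := ⟨_, rfl⟩
    obtain ⟨t₀, ht₀⟩ : ∃ t₀ : T, t₀ = ⟨_, hab y⟩ := ⟨_, rfl⟩
    obtain ⟨t₁, ht₁⟩ : ∃ t₁ : Subgroup.normalizer (T : Set Ω),
        t₁ = ⟨(t₀ : Ω), hN (hT.1 t₀.2)⟩ := ⟨_, rfl⟩
    have h1 : y₃ = y₂ * t₁ := by
      apply Subtype.ext
      rw [hy₃, hy₂, ht₁, ht₀]
      show _ = _ * (_⁻¹ * _)
      rw [mul_inv_cancel_left]
    refine ⟨y₁⁻¹ * y₂, ?_, by rw [hy₁, hy₂]; rfl⟩
    show T.normalizerMonoidHom (y₁⁻¹ * y₂) ∈ N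
    have h2 : y₂ = y₃ * t₁⁻¹ := by rw [h1, mul_inv_cancel_right]
    obtain ⟨ρ, hρ⟩ : ∃ ρ : F.autGroup T, ρ = resHom F hT le_sup_right hPT b := ⟨_, rfl⟩
    have hρres : ρ ∈ pResidual p (F.autGroup T) := by
      rw [hρ]
      exact Hyp.map_mem_pResidual p _ hb
    have h3 : T.normalizerMonoidHom y₃ =
        (ρ : MulAut T) * T.normalizerMonoidHom y₁ * (ρ : MulAut T)⁻¹ := by
      rw [eq_mul_inv_iff_mul_eq]
      apply MulEquiv.ext
      intro t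
      rw [hρ, hy₃, hy₁]
      exact (resAut_conj F hT le_sup_right hPT b (Subgroup.inclusion le_sup_left y) hN t).symm
    have hκA : T.normalizerMonoidHom y₁ ∈ F.autGroup T := by
      apply autInducedBy_le_autGroup F hT.1
      exact mem_autInducedBy_iff.mpr ⟨(y : Ω), hPS y.2, fun t => by rw [hy₁]; rfl⟩
    obtain ⟨c, hc⟩ : ∃ c : F.autGroup T, c = ⟨_, hκA⟩ := ⟨_, rfl⟩
    have hcc : (c : MulAut T) = T.normalizerMonoidHom y₁ := by rw [hc]
    have h4 : T.normalizerMonoidHom (y₁⁻¹ * y₂) =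
        ((c⁻¹ * ρ * c⁻¹⁻¹ * ρ⁻¹ : F.autGroup T) : MulAut T) *
          (T.normalizerMonoidHom t₁)⁻¹ := by
      rw [h2, map_mul, map_mul, map_inv, map_inv, h3, ← hcc]
      simp only [Subgroup.coe_mul, Subgroup.coe_inv, inv_inv, mul_assoc]
    rw [h4, hNdef]
    apply Subgroup.mul_mem
    · apply Subgroup.mem_sup_left
      refine ⟨c⁻¹ * ρ * c⁻¹⁻¹ * ρ⁻¹, ?_, rfl⟩
      exact Subgroup.mul_mem _ ((pResidual_normal p _).conj_mem _ hρres _)
        (Subgroup.inv_mem _ hρres)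
    · apply Subgroup.mem_sup_right
      apply Subgroup.inv_mem
      refine ⟨t₀, ?_⟩
      apply MulEquiv.ext
      intro t
      apply Subtype.ext
      rw [ht₁]
      rfl
  intro x hx
  obtain ⟨w, hw, rfl⟩ := key hx
  exact ⟨T.normalizerMonoidHom w, hw, fun t => rfl⟩

end Cfsg.Agent.Lib.Helper8.Hyp2
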