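import Cfsg.Agent.Lib.Helper8.GroupFusion
import Cfsg.Prelude.Def_FusionReduction

set_option autoImplicit false

namespace Cfsg.Agent.Lib.Helper8.Involve

open Cfsg Cfsg.FusionSystem Cfsg.Agent.Lib.Helper8.GroupFusion

/-- A quotient of a group that embeds in `A` is involved in `A`. -/
theorem involves_of_quotient_injective {P Q A : Type*} [Group P] [Group Q] [Group A]
    (f : P →* Q) (hf : Function.Surjective f) (j : P →* A) (hj : Function.Injective j) :
    Involves Q A := by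
  obtain ⟨e₁, he₁⟩ : ∃ e₁ : P ≃* j.range, ∀ x, ((e₁ x : j.range) : A) = j x :=
    ⟨MonoidHom.ofInjective hj, fun x => rfl⟩
  have he : f.ker.map (e₁ : P →* j.range) = (f.ker.map j).subgroupOf j.range := by
    ext y
    constructor
    · rintro ⟨x, hx, rfl⟩
      exact Subgroup.mem_subgroupOf.2 ⟨x, hx, (he₁ x).symm⟩
    · intro hy
      obtain ⟨x, hx, hxy⟩ := Subgroup.mem_subgroupOf.1 hy
      exact ⟨x, hx, Subtype.ext ((he₁ x).trans hxy)⟩
  have hn : ((f.ker.map j).subgroupOf j.range).Normal := by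
    rw [← he]
    exact Subgroup.Normal.map inferInstance _ e₁.surjective
  exact ⟨j.range, f.ker.map j, hn,
    ⟨(QuotientGroup.congr f.ker _ e₁ he).symm.trans
      (QuotientGroup.quotientKerEquivOfSurjective f hf)⟩⟩

/-- A `p`-subgroup of a group involved in `L` is involved in every group containing a copy of
a Sylow `p`-subgroup of `L`. -/
theorem involves_of_sylow_embedding {L H A : Type*} [Group L] [Finite L] [Group H] [Group A]
    {p : ℕ} [Fact p.Prime] (T : Sylow p L) (i : (T : Subgroup L) →* A)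
    (hi : Function.Injective i) (Q : Subgroup H) (hQ : IsPGroup p Q) (h : Involves H L) :
    Involves Q A := by
  obtain ⟨K, R, hn, ⟨e⟩⟩ := h
  obtain ⟨f, hf⟩ : ∃ f : K →* H, Function.Surjective f :=
    ⟨e.toMonoidHom.comp (QuotientGroup.mk' (R.subgroupOf K)),
      e.surjective.comp (QuotientGroup.mk'_surjective _)⟩
  obtain ⟨f', hf'⟩ : ∃ f' : ↥(Q.comap f) →* Q, Function.Surjective f' :=
    ⟨f.subgroupComap Q, f.subgroupComap_surjective_of_surjective Q hf⟩
  obtain ⟨P₁⟩ : Nonempty (Sylow p ↥(Q.comap f)) := inferInstance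
  have h1 : ((P₁.mapSurjective hf' : Sylow p Q) : Subgroup Q) = ⊤ :=
    ((P₁.mapSurjective hf').is_maximal' (hQ.to_subgroup ⊤) le_top).symm
  rw [Sylow.coe_mapSurjective] at h1
  have hf'' : Function.Surjective (f'.comp (P₁ : Subgroup ↥(Q.comap f)).subtype) := by
    intro y
    have hy : y ∈ (P₁ : Subgroup ↥(Q.comap f)).map f' := h1 ▸ Subgroup.mem_top y
    obtain ⟨x, hx, rfl⟩ := hy
    exact ⟨⟨x, hx⟩, rfl⟩
  obtain ⟨j₀, hj₀⟩ : ∃ j₀ : ↥(P₁ : Subgroup ↥(Q.comap f)) →* L, Function.Injective j₀ :=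
    ⟨K.subtype.comp ((Q.comap f).subtype.comp (P₁ : Subgroup ↥(Q.comap f)).subtype),
      K.subtype_injective.comp ((Q.comap f).subtype_injective.comp
        (P₁ : Subgroup ↥(Q.comap f)).subtype_injective)⟩
  have hp : IsPGroup p j₀.range :=
    P₁.isPGroup'.of_surjective j₀.rangeRestrict j₀.rangeRestrict_surjective
  obtain ⟨g, hg⟩ := exists_conj_le_sylow T hp
  obtain ⟨j₁, hj₁⟩ : ∃ j₁ : ↥(P₁ : Subgroup ↥(Q.comap f)) →* (T : Subgroup L),
      ∀ x, ((j₁ x : (T : Subgroup L)) : L) = g * j₀ x * g⁻¹ :=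
    ⟨((MulAut.conj g).toMonoidHom.comp j₀).codRestrict (T : Subgroup L)
      (fun x => hg ⟨j₀ x, ⟨x, rfl⟩, rfl⟩), fun x => rfl⟩
  have hj₁inj : Function.Injective j₁ := by
    intro a b hab
    have h2 : g * j₀ a * g⁻¹ = g * j₀ b * g⁻¹ := by rw [← hj₁, ← hj₁, hab]
    exact hj₀ (mul_left_cancel (mul_right_cancel h2))
  exact involves_of_quotient_injective _ hf'' (i.comp j₁) (hi.comp hj₁inj)

universe u

theorem isSectionFree_of_not_involves {Ω : Type u} [Group Ω] {S : Subgroup Ω} (p : ℕ)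
    [Fact p.Prime] (F : FusionSystem S) (H : Type*) [Group H] (Q : Subgroup H)
    (hQ : IsPGroup p Q) (hfree : ¬ Involves (↥Q) (↥S)) : F.IsSectionFree p H := by
  intro Q' hQ'n hQ'c N hN L instL ι hmodel hinv
  obtain ⟨hfin, hreal, ⟨T, hT⟩, -⟩ := hmodel
  apply hfree
  obtain ⟨e, -⟩ : ∃ e : ↥(FusionSystem.normalizerIn S Q') ≃* ι.range, True :=
    ⟨MonoidHom.ofInjective hreal.1, trivial⟩
  obtain ⟨i, hi⟩ : ∃ i : (T : Subgroup L) →* S, Function.Injective i :=
    ⟨(Subgroup.inclusion (inf_le_left : FusionSystem.normalizerIn S Q' ≤ S)).comp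
      (e.symm.toMonoidHom.comp (MulEquiv.subgroupCongr hT).toMonoidHom),
      (Subgroup.inclusion_injective (inf_le_left : FusionSystem.normalizerIn S Q' ≤ S)).comp
        (e.symm.injective.comp (MulEquiv.subgroupCongr hT).injective)⟩
  exact involves_of_sylow_embedding T i hi Q hQ hinv

end Cfsg.Agent.Lib.Helper8.Involve
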