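import Cfsg.Agent.Lib.Helper8.PLen1

set_option autoImplicit false
set_option linter.unusedSectionVars false
set_option linter.unusedVariables false

namespace Cfsg.Agent.Lib.Helper8.PPrimeP

open Cfsg
open Cfsg.Agent.Lib.Helper8.ClassicAlperin Cfsg.Agent.Lib.Helper8.ConjFam
  Cfsg.Agent.Lib.Helper8.WellPlaced Cfsg.Agent.Lib.Helper8.Cfun Cfsg.Agent.Lib.Helper8.CfunFam
  Cfsg.Agent.Lib.Helper8.Centric Cfsg.Agent.Lib.Helper8.AG1 Cfsg.Agent.Lib.Helper8.AG2
  Cfsg.Agent.Lib.Helper8.PLen1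
open scoped Pointwise

variable {G : Type*} [Group G] [Finite G] {p : ℕ} [Fact p.Prime]

/-- A `p`-subgroup has index prime to `p` in its product with a normal `p'`-subgroup. -/
theorem not_dvd_relIndex_sup (D R : Subgroup G) (hDn : D.Normal) (hD : (Nat.card D).Coprime p)
    (hR : IsPGroup p R) : ¬ p ∣ R.relIndex (D ⊔ R) := by
  have hp : p.Prime := Fact.out
  have hbot : D ⊓ R = ⊥ := by
    rw [eq_bot_iff]
    intro x hx
    obtain ⟨k, hk⟩ := hR ⟨x, hx.2⟩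
    have h5 : x ^ (p ^ k) = 1 := by
      have h0 := congrArg Subtype.val hk
      simpa using h0
    have h6 : orderOf x ∣ Nat.card D := by
      have h0 := orderOf_dvd_natCard (⟨_, hx.1⟩ : ↥D)
      rwa [Subgroup.orderOf_mk] at h0
    exact Subgroup.mem_bot.mpr (eq_one_of_pow_of_coprime h5 h6 hD)
  have h1 : Nat.card D * D.relIndex (D ⊔ R) = Nat.card ↥(D ⊔ R) := by
    have h0 := Subgroup.relIndex_mul_relIndex ⊥ D (D ⊔ R) bot_le le_sup_left
    rwa [Subgroup.relIndex_bot_left, Subgroup.relIndex_bot_left] at h0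
  have h2 : D.relIndex (D ⊔ R) = Nat.card R := by
    rw [Subgroup.relIndex_sup_left, ← Subgroup.inf_relIndex_right, hbot,
      Subgroup.relIndex_bot_left]
  have h3 : Nat.card R * R.relIndex (D ⊔ R) = Nat.card ↥(D ⊔ R) := by
    have h0 := Subgroup.relIndex_mul_relIndex ⊥ R (D ⊔ R) bot_le le_sup_right
    rwa [Subgroup.relIndex_bot_left, Subgroup.relIndex_bot_left] at h0
  rw [h2] at h1
  have h4 : Nat.card R * R.relIndex (D ⊔ R) = Nat.card R * Nat.card D := by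
    rw [h3, ← h1, mul_comm]
  have h5 : R.relIndex (D ⊔ R) = Nat.card D :=
    Nat.eq_of_mul_eq_mul_left Nat.card_pos h4
  rw [h5]
  exact (Nat.Prime.coprime_iff_not_dvd hp).mp hD.symm

theorem comm' {D H : Subgroup G} (hDn : D.Normal) (hD : (Nat.card D).Coprime p)
    (hH : IsPGroup p H) {d a : G} (hd : d ∈ D) (ha : a ∈ H) (hda : d * a * d⁻¹ ∈ H) :
    d * a = a * d := by
  have h1 : d * a * d⁻¹ * a⁻¹ ∈ H := mul_mem hda (inv_mem ha)
  have h2 : d * a * d⁻¹ * a⁻¹ ∈ D := by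
    have h3 : a * d⁻¹ * a⁻¹ ∈ D := hDn.conj_mem _ (inv_mem hd) a
    have e : d * a * d⁻¹ * a⁻¹ = d * (a * d⁻¹ * a⁻¹) := by group
    rw [e]
    exact mul_mem hd h3
  obtain ⟨k, hk⟩ := hH ⟨_, h1⟩
  have h5 : (d * a * d⁻¹ * a⁻¹) ^ (p ^ k) = 1 := by
    have h0 := congrArg Subtype.val hk
    simpa using h0
  have h6 : orderOf (d * a * d⁻¹ * a⁻¹) ∣ Nat.card D := by
    have h0 := orderOf_dvd_natCard (⟨_, h2⟩ : ↥D)
    rwa [Subgroup.orderOf_mk] at h0
  have h7 := eq_one_of_pow_of_coprime h5 h6 hD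
  calc d * a = (d * a * d⁻¹ * a⁻¹) * (a * d) := by group
    _ = a * d := by rw [h7, one_mul]

theorem isPGroup_zpowers {y : G} (hy : ∃ k : ℕ, orderOf y = p ^ k) :
    IsPGroup p (Subgroup.zpowers y) := by
  obtain ⟨k, hk⟩ := hy
  exact IsPGroup.of_card (n := k) (by rw [Nat.card_zpowers, hk])

section Main

variable (P : Sylow p G)

theorem sylow_inf (P : Sylow p G) :
    ¬ p ∣ ((P : Subgroup G) ⊓ pPrimePCore p G).relIndex (pPrimePCore p G) := by
  have hn : (pPrimePCore p G).Normal := pPrimePCore_normal p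
  refine sylow_inf_normal ⊤ (pPrimePCore p G) (P : Subgroup G) le_top ?_ P.2 (relIndex_top_sylow P)
  intro g _
  exact mem_normalizer_of_cm_eq (cm_of_normal hn g)

theorem dec (P : Sylow p G) : ∀ m ∈ pPrimePCore p G, ∃ o ∈ pPrimeCore p G,
    ∃ s ∈ (P : Subgroup G) ⊓ pPrimePCore p G, m = o * s := by
  intro m hm
  obtain ⟨o, ho, s, hs, hsM, hmos⟩ := mem_pPrimePCore_decomp P hm
  exact ⟨o, ho, s, ⟨hs, hsM⟩, hmos⟩

theorem frattini' (P : Sylow p G) (x : G) : ∃ d ∈ pPrimeCore p G,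
    ∃ n ∈ Subgroup.normalizer ((((P : Subgroup G) ⊓ pPrimePCore p G : Subgroup G)) : Set G),
      x = d * n := by
  have hn : (pPrimePCore p G).Normal := pPrimePCore_normal p
  have hi := sylow_inf P
  obtain ⟨H, hH⟩ : ∃ H : Subgroup G, H = (P : Subgroup G) ⊓ pPrimePCore p G := ⟨_, rfl⟩
  rw [← hH] at hi ⊢
  have hHM : H ≤ pPrimePCore p G := by rw [hH]; exact inf_le_right
  have hHp : IsPGroup p H := by rw [hH]; exact P.2.to_le inf_le_left
  have hcmU : cm x (pPrimePCore p G) = pPrimePCore p G := cm_of_normal hn x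
  have hx : cm x H ≤ pPrimePCore p G := (cm_mono hHM x).trans (le_of_eq hcmU)
  have hi' : ¬ p ∣ (cm x H).relIndex (pPrimePCore p G) := by
    have h1 := cm_relIndex x H (pPrimePCore p G)
    rw [hcmU] at h1
    rw [h1]
    exact hi
  obtain ⟨m, hmU, hm⟩ := exists_cm_eq (pPrimePCore p G) (cm x H) H hx (hHp.map _) hi' hHM hHp hi
  rw [cm_mul] at hm
  have hmx := mem_normalizer_of_cm_eq hm
  obtain ⟨o, ho, s, hs, hos⟩ := dec P m⁻¹ (inv_mem hmU)
  have hsH : s ∈ H := by rw [hH]; exact hs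
  refine ⟨o, ho, s * (m * x), mul_mem (Subgroup.le_normalizer hsH) hmx, ?_⟩
  calc x = m⁻¹ * (m * x) := by group
    _ = o * s * (m * x) := by rw [← hos]
    _ = o * (s * (m * x)) := by group

theorem partA (P : Sylow p G) (y : G)
    (hyN : y ∈ Subgroup.normalizer ((((P : Subgroup G) ⊓ pPrimePCore p G : Subgroup G)) : Set G))
    (hy : ∃ k : ℕ, orderOf y = p ^ k) (d : G) (hd : d ∈ pPrimeCore p G)
    (hdy : d⁻¹ * y * d ∈
      Subgroup.normalizer ((((P : Subgroup G) ⊓ pPrimePCore p G : Subgroup G)) : Set G)) :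
    ∃ d₁ ∈ pPrimeCore p G ⊓ Subgroup.centralizer ({y} : Set G),
      ∃ d₂ ∈ pPrimeCore p G ⊓ Subgroup.centralizer
        ((((P : Subgroup G) ⊓ pPrimePCore p G : Subgroup G)) : Set G), d = d₁ * d₂ := by
  have hDn : (pPrimeCore p G).Normal := pPrimeCore_normal p G
  have hDc : (Nat.card (pPrimeCore p G)).Coprime p := pPrimeCore_coprime p
  have hMn : (pPrimePCore p G).Normal := pPrimePCore_normal p
  have hi := sylow_inf P
  obtain ⟨H, hH⟩ : ∃ H : Subgroup G, H = (P : Subgroup G) ⊓ pPrimePCore p G := ⟨_, rfl⟩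
  rw [← hH] at hi hyN hdy ⊢
  have hHM : H ≤ pPrimePCore p G := by rw [hH]; exact inf_le_right
  have hHp : IsPGroup p H := by rw [hH]; exact P.2.to_le inf_le_left
  obtain ⟨y', hy'⟩ : ∃ y' : G, y' = d⁻¹ * y * d := ⟨_, rfl⟩
  rw [← hy'] at hdy
  have hy'o : ∃ k : ℕ, orderOf y' = p ^ k := by
    obtain ⟨k, hk⟩ := hy
    refine ⟨k, ?_⟩
    rw [hy', ← hk]
    have h0 := orderOf_injective (MulAut.conj d⁻¹).toMonoidHom (MulAut.conj d⁻¹).injective y
    have e : (MulAut.conj d⁻¹).toMonoidHom y = d⁻¹ * y * d := by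
      show d⁻¹ * y * d⁻¹⁻¹ = d⁻¹ * y * d
      rw [inv_inv]
    rw [e] at h0
    exact h0
  -- the two `p`-subgroups
  have hRp : IsPGroup p ↥(H ⊔ Subgroup.zpowers y) :=
    hHp.to_sup_of_normal_left' (isPGroup_zpowers hy) (Subgroup.zpowers_le.mpr hyN)
  have hR'p : IsPGroup p ↥(H ⊔ Subgroup.zpowers y') :=
    hHp.to_sup_of_normal_left' (isPGroup_zpowers hy'o) (Subgroup.zpowers_le.mpr hdy)
  have hyR : y ∈ H ⊔ Subgroup.zpowers y := le_sup_right (a := H) (Subgroup.mem_zpowers y)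
  have hy'R' : y' ∈ H ⊔ Subgroup.zpowers y' := le_sup_right (a := H) (Subgroup.mem_zpowers y')
  have hX : pPrimeCore p G ⊔ (H ⊔ Subgroup.zpowers y') =
      pPrimeCore p G ⊔ (H ⊔ Subgroup.zpowers y) := by
    apply le_antisymm
    · refine sup_le le_sup_left (sup_le (le_sup_of_le_right le_sup_left) ?_)
      rw [Subgroup.zpowers_le, hy']
      exact mul_mem (mul_mem (le_sup_left (a := pPrimeCore p G) (inv_mem hd))
        (le_sup_right (a := pPrimeCore p G) hyR)) (le_sup_left (a := pPrimeCore p G) hd)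
    · refine sup_le le_sup_left (sup_le (le_sup_of_le_right le_sup_left) ?_)
      rw [Subgroup.zpowers_le]
      have e : y = d * y' * d⁻¹ := by rw [hy']; group
      rw [e]
      exact mul_mem (mul_mem (le_sup_left (a := pPrimeCore p G) hd)
        (le_sup_right (a := pPrimeCore p G) hy'R')) (le_sup_left (a := pPrimeCore p G) (inv_mem hd))
  have hRi := not_dvd_relIndex_sup (pPrimeCore p G) (H ⊔ Subgroup.zpowers y) hDn hDc hRp
  have hR'i := not_dvd_relIndex_sup (pPrimeCore p G) (H ⊔ Subgroup.zpowers y') hDn hDc hR'p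
  rw [hX] at hR'i
  obtain ⟨k, hkX, hk⟩ := exists_cm_eq (pPrimeCore p G ⊔ (H ⊔ Subgroup.zpowers y))
    (H ⊔ Subgroup.zpowers y) (H ⊔ Subgroup.zpowers y') le_sup_right hRp hRi
    (by rw [← hX]; exact le_sup_right) hR'p hR'i
  -- `k = e r`
  have hk' : k ∈ ((pPrimeCore p G ⊔ (H ⊔ Subgroup.zpowers y) : Subgroup G) : Set G) := hkX
  rw [Subgroup.normal_mul] at hk'
  obtain ⟨e, he, r, hr, her⟩ := Set.mem_mul.mp hk'
  have he' : e ∈ pPrimeCore p G := he
  have hr' : r ∈ H ⊔ Subgroup.zpowers y := hr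
  have hke : cm e (H ⊔ Subgroup.zpowers y) = H ⊔ Subgroup.zpowers y' := by
    rw [← hk, ← her, ← cm_mul, cm_of_mem hr']
  -- `e` normalizes `H`
  have hHR' : H = (H ⊔ Subgroup.zpowers y') ⊓ pPrimePCore p G :=
    eq_of_le_of_not_dvd (le_inf le_sup_left hHM) inf_le_right (hR'p.to_le inf_le_left) hi
  have heH : cm e H ≤ H := by
    have h1 : cm e H ≤ H ⊔ Subgroup.zpowers y' :=
      (cm_mono le_sup_left e).trans (le_of_eq hke)
    have h2 : cm e H ≤ pPrimePCore p G :=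
      (cm_mono hHM e).trans (le_of_eq (cm_of_normal hMn e))
    exact (le_inf h1 h2).trans (le_of_eq hHR'.symm)
  have heC : e ∈ Subgroup.centralizer ((H : Subgroup G) : Set G) := by
    rw [Subgroup.mem_centralizer_iff]
    intro h hh
    exact (comm' hDn hDc hHp he' hh (heH (mem_cm_of_mem hh e))).symm
  -- `y' = e y e⁻¹`
  have heyR' : e * y * e⁻¹ ∈ H ⊔ Subgroup.zpowers y' := by
    rw [← hke]
    exact mem_cm_of_mem hyR e
  have hw : y'⁻¹ * (e * y * e⁻¹) = 1 := by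
    have h1 : y'⁻¹ * (e * y * e⁻¹) ∈ H ⊔ Subgroup.zpowers y' := mul_mem (inv_mem hy'R') heyR'
    have h2 : y'⁻¹ * (e * y * e⁻¹) ∈ pPrimeCore p G := by
      have h3 : y⁻¹ * (d * e) * y⁻¹⁻¹ ∈ pPrimeCore p G := hDn.conj_mem _ (mul_mem hd he') y⁻¹
      have e1 : y'⁻¹ * (e * y * e⁻¹) = d⁻¹ * (y⁻¹ * (d * e) * y⁻¹⁻¹) * e⁻¹ := by
        rw [hy']
        group
      rw [e1]
      exact mul_mem (mul_mem (inv_mem hd) h3) (inv_mem he')
    obtain ⟨j, hj⟩ := hR'p ⟨_, h1⟩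
    have h5 : (y'⁻¹ * (e * y * e⁻¹)) ^ (p ^ j) = 1 := by
      have h0 := congrArg Subtype.val hj
      simpa using h0
    have h6 : orderOf (y'⁻¹ * (e * y * e⁻¹)) ∣ Nat.card (pPrimeCore p G) := by
      have h0 := orderOf_dvd_natCard (⟨_, h2⟩ : ↥(pPrimeCore p G))
      rwa [Subgroup.orderOf_mk] at h0
    exact eq_one_of_pow_of_coprime h5 h6 hDc
  have hyy : d⁻¹ * y * d = e * y * e⁻¹ := by
    rw [← hy']
    calc y' = y' * (y'⁻¹ * (e * y * e⁻¹)) := by rw [hw, mul_one]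
      _ = e * y * e⁻¹ := by group
  refine ⟨d * e, Subgroup.mem_inf.mpr ⟨mul_mem hd he', ?_⟩, e⁻¹,
    Subgroup.mem_inf.mpr ⟨inv_mem he', inv_mem heC⟩, by group⟩
  rw [Subgroup.mem_centralizer_iff]
  intro h hh
  rw [Set.mem_singleton_iff] at hh
  rw [hh]
  calc y * (d * e) = d * (d⁻¹ * y * d) * e := by group
    _ = d * (e * y * e⁻¹) * e := by rw [hyy]
    _ = d * e * y := by group

theorem partB (P : Sylow p G) (x y : G) (hx : x ∈ (P : Subgroup G)) (hy : y ∈ (P : Subgroup G))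
    (hxy : IsConj x y) :
    ∃ n ∈ Subgroup.normalizer ((((P : Subgroup G) ⊓ pPrimePCore p G : Subgroup G)) : Set G),
      n * x * n⁻¹ = y := by
  have hp : p.Prime := Fact.out
  have hMn : (pPrimePCore p G).Normal := pPrimePCore_normal p
  obtain ⟨g, hg⟩ := isConj_iff.mp hxy
  obtain ⟨d, hd, n, hn, hgd⟩ := frattini' P g
  have hPN : (P : Subgroup G) ≤
      Subgroup.normalizer ((((P : Subgroup G) ⊓ pPrimePCore p G : Subgroup G)) : Set G) := by
    intro a ha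
    apply mem_normalizer_of_cm_eq
    rw [cm_inf, cm_of_normal hMn, cm_of_mem ha]
  have hyo : ∃ k : ℕ, orderOf y = p ^ k := by
    obtain ⟨k, hk⟩ := P.2 ⟨y, hy⟩
    have h5 : y ^ (p ^ k) = 1 := by
      have h0 := congrArg Subtype.val hk
      simpa using h0
    obtain ⟨j, _, hj⟩ := (Nat.dvd_prime_pow hp).mp (orderOf_dvd_of_pow_eq_one h5)
    exact ⟨j, hj⟩
  have hx' : d⁻¹ * y * d = n * x * n⁻¹ := by
    rw [← hg, hgd]
    group
  have hdy : d⁻¹ * y * d ∈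
      Subgroup.normalizer ((((P : Subgroup G) ⊓ pPrimePCore p G : Subgroup G)) : Set G) := by
    rw [hx']
    exact mul_mem (mul_mem hn (hPN hx)) (inv_mem hn)
  obtain ⟨d₁, hd₁, d₂, hd₂, hdd⟩ := partA P y (hPN hy) hyo d hd hdy
  have hd₁y : y * d₁ = d₁ * y := (Subgroup.mem_centralizer_iff.mp hd₁.2) y rfl
  refine ⟨d₂ * n, mul_mem (Subgroup.centralizer_le_normalizer _ hd₂.2) hn, ?_⟩
  calc d₂ * n * x * (d₂ * n)⁻¹ = d₂ * (n * x * n⁻¹) * d₂⁻¹ := by group
    _ = d₂ * (d⁻¹ * y * d) * d₂⁻¹ := by rw [hx']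
    _ = d₁⁻¹ * (y * d₁) := by rw [hdd]; group
    _ = y := by rw [hd₁y]; group

end Main

end Cfsg.Agent.Lib.Helper8.PPrimeP
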