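import Cfsg.Agent.Lib.Helper8.Extremal
import Cfsg.Agent.Lib.Helper8.AG2
import Cfsg.Agent.Lib.Helper8.PPrimeP

set_option autoImplicit false
set_option linter.unusedSectionVars false
set_option linter.style.haveILetI false

namespace Cfsg.Agent.Lib.Helper8.IsoPt

open Cfsg
open Cfsg.Agent.Lib.Helper8.WellPlaced Cfsg.Agent.Lib.Helper8.Cfun

variable {G : Type*} [Group G]

/-- `a` is isolated at `g`: it lies in `k H k⁻¹` exactly for `k ∈ gH`. -/
def Iso (H : Subgroup G) (a g : G) : Prop := ∀ k : G, a ∈ cm k H ↔ g⁻¹ * k ∈ H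

theorem iso_conj {H : Subgroup G} {a g : G} (h : Iso H a g) (x : G) :
    Iso H (x * a * x⁻¹) (x * g) := by
  intro k
  have h1 := h (x⁻¹ * k)
  rw [mem_cm] at h1 ⊢
  have e1 : k⁻¹ * (x * a * x⁻¹) * k = (x⁻¹ * k)⁻¹ * a * (x⁻¹ * k) := by group
  have e2 : (x * g)⁻¹ * k = g⁻¹ * (x⁻¹ * k) := by group
  rw [e1, e2]; exact h1

theorem iso_mem {H : Subgroup G} {a g : G} (h : Iso H a g) : g⁻¹ * a * g ∈ H := by
  have h1 := (h g).mpr (by rw [inv_mul_cancel]; exact H.one_mem)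
  rwa [mem_cm] at h1

theorem iso_unique {H : Subgroup G} {a g g' : G} (h : Iso H a g) (h' : Iso H a g') :
    g⁻¹ * g' ∈ H :=
  (h g').mp ((h' g').mpr (by rw [inv_mul_cancel]; exact H.one_mem))

theorem iso_commute {H : Subgroup G} {a g : G} (h : Iso H a g) (x : G) (hx : x * a = a * x) :
    g⁻¹ * x * g ∈ H := by
  have h1 := iso_conj h x
  have e : x * a * x⁻¹ = a := by rw [hx]; group
  rw [e] at h1
  have h2 := iso_unique h h1
  rwa [← mul_assoc] at h2

theorem isConj_mul_pow {z a b : G} (ha : a * a = 1) (hb : b * b = 1) (hza : IsConj z a)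
    (hzb : IsConj z b) : ∀ m : ℕ, IsConj z (a * (a * b) ^ m) := by
  have hb' : b⁻¹ = b := inv_eq_of_mul_eq_one_right hb
  have key : ∀ m : ℕ, IsConj z (a * (a * b) ^ m) ∧ IsConj z (a * (a * b) ^ (m + 1)) := by
    intro m
    induction m with
    | zero =>
      refine ⟨by simpa using hza, ?_⟩
      have e : a * (a * b) ^ (0 + 1) = b := by rw [zero_add, pow_one, ← mul_assoc, ha, one_mul]
      rw [e]; exact hzb
    | succ m ih =>
      refine ⟨ih.2, ?_⟩
      have e : a * (a * b) ^ (m + 1 + 1) = (a * b)⁻¹ * (a * (a * b) ^ m) * (a * b)⁻¹⁻¹ := by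
        calc a * (a * b) ^ (m + 1 + 1) = a * a * b * (a * b) ^ (m + 1) := by
              rw [pow_succ' (a * b) (m + 1)]; simp only [mul_assoc]
          _ = b⁻¹ * (a * b) ^ (m + 1) := by rw [ha, one_mul, hb']
          _ = (a * b)⁻¹ * (a * (a * b) ^ m) * (a * b)⁻¹⁻¹ := by
              rw [pow_succ (a * b) m, inv_inv, mul_inv_rev]
              simp only [mul_assoc, inv_mul_cancel_left]
      rw [e]
      exact ih.1.trans (isConj_iff.mpr ⟨(a * b)⁻¹, rfl⟩)
  exact fun m => (key m).1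

theorem conj_inv_of_sq {a b : G} (ha : a * a = 1) (hb : b * b = 1) :
    a * (a * b) * a⁻¹ = (a * b)⁻¹ ∧ b * (a * b) * b⁻¹ = (a * b)⁻¹ := by
  have ha' : a⁻¹ = a := inv_eq_of_mul_eq_one_right ha
  have hb' : b⁻¹ = b := inv_eq_of_mul_eq_one_right hb
  constructor
  · calc a * (a * b) * a⁻¹ = (a * a) * b * a⁻¹ := by group
      _ = b * a := by rw [ha, one_mul, ha']
      _ = (a * b)⁻¹ := by rw [mul_inv_rev, ha', hb']
  · calc b * (a * b) * b⁻¹ = b * a := by group
      _ = (a * b)⁻¹ := by rw [mul_inv_rev, ha', hb']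

theorem swap_spec {a b : G} (ha : a * a = 1) (hb : b * b = 1) (hodd : Odd (orderOf (a * b))) :
    (a * (a * b) ^ ((orderOf (a * b) + 1) / 2)) * a *
        (a * (a * b) ^ ((orderOf (a * b) + 1) / 2)) = b ∧
      (a * (a * b) ^ ((orderOf (a * b) + 1) / 2)) *
        (a * (a * b) ^ ((orderOf (a * b) + 1) / 2)) = 1 := by
  obtain ⟨j, hj⟩ := hodd
  have hk : (orderOf (a * b) + 1) / 2 = j + 1 := by omega
  rw [hk]
  obtain ⟨σ, hσ⟩ : ∃ σ, σ = (a * b) ^ (j + 1) := ⟨_, rfl⟩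
  rw [← hσ]
  have hσ2 : σ * σ = a * b := by
    rw [hσ, ← pow_add]
    have e : j + 1 + (j + 1) = orderOf (a * b) + 1 := by omega
    rw [e, pow_succ, pow_orderOf_eq_one, one_mul]
  have hainv : a⁻¹ = a := inv_eq_of_mul_eq_one_right ha
  have haσ : a * σ * a = σ⁻¹ := by
    have e1 : a * σ * a⁻¹ = (a * (a * b) * a⁻¹) ^ (j + 1) := by rw [hσ, conj_pow]
    rw [(conj_inv_of_sq ha hb).1, inv_pow, ← hσ, hainv] at e1
    exact e1
  constructor
  · calc a * σ * a * (a * σ) = a * σ * (a * a) * σ := by group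
      _ = a * (σ * σ) := by rw [ha]; group
      _ = b := by rw [hσ2, ← mul_assoc, ha, one_mul]
  · calc a * σ * (a * σ) = (a * σ * a) * σ := by group
      _ = 1 := by rw [haσ, inv_mul_cancel]

theorem swap_unique {a r : G} (ha : a * a = 1) (hodd : Odd (orderOf (a * r))) :
    r = a * (a * (r * a * r)) ^ ((orderOf (a * (r * a * r)) + 1) / 2) := by
  have e : a * (r * a * r) = (a * r) ^ 2 := by rw [pow_two]; group
  have hord : orderOf ((a * r) ^ 2) = orderOf (a * r) :=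
    (Nat.coprime_two_right.mpr hodd).orderOf_pow
  rw [e, hord]
  obtain ⟨j, hj⟩ := hodd
  have hk : (orderOf (a * r) + 1) / 2 = j + 1 := by omega
  rw [hk, ← pow_mul]
  have e2 : 2 * (j + 1) = orderOf (a * r) + 1 := by omega
  rw [e2, pow_succ, pow_orderOf_eq_one, one_mul, ← mul_assoc, ha, one_mul]

theorem even_card_of_involution {α : Type*} (s : Finset α) (ι : α → α)
    (hmem : ∀ a ∈ s, ι a ∈ s) (hinv : ∀ a ∈ s, ι (ι a) = a) (hne : ∀ a ∈ s, ι a ≠ a) :
    Even s.card := by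
  have h : ∑ _x ∈ s, (1 : ZMod 2) = 0 :=
    Finset.sum_involution (fun a _ => ι a) (fun a ha => by decide) (fun a ha _ => hne a ha)
      (fun a ha => hmem a ha) (fun a ha => hinv a ha)
  rw [Finset.sum_const, nsmul_eq_mul, mul_one] at h
  exact ZMod.natCast_eq_zero_iff_even.mp h

variable {z : G} {H : Subgroup G}

theorem h1_conj (h1 : ∀ t : G, IsConj z t → t ≠ z → t * z = z * t → Iso H (z * t) 1)
    {a g b : G} (ha : a = g * z * g⁻¹) (hzb : IsConj z b) (hne : b ≠ a)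
    (hcomm : b * a = a * b) : Iso H (a * b) g := by
  have ht : IsConj z (g⁻¹ * b * g) := hzb.trans (isConj_iff.mpr ⟨g⁻¹, by rw [inv_inv]⟩)
  have hne' : g⁻¹ * b * g ≠ z := by
    intro h; apply hne; rw [ha, ← h]; group
  have hc' : g⁻¹ * b * g * z = z * (g⁻¹ * b * g) := by
    have e1 : g⁻¹ * b * g * z = g⁻¹ * (b * a) * g := by rw [ha]; group
    have e2 : z * (g⁻¹ * b * g) = g⁻¹ * (a * b) * g := by rw [ha]; group
    rw [e1, e2, hcomm]
  have h2 := iso_conj (h1 _ ht hne' hc') g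
  have e : g * (z * (g⁻¹ * b * g)) * g⁻¹ = a * b := by rw [ha]; group
  rw [e, mul_one] at h2
  exact h2

theorem sq_of_conj (hz2 : z * z = 1) {a g : G} (ha : a = g * z * g⁻¹) : a * a = 1 := by
  rw [ha]
  calc g * z * g⁻¹ * (g * z * g⁻¹) = g * (z * z) * g⁻¹ := by group
    _ = 1 := by rw [hz2]; group

theorem odd_orderOf [Finite G] (hz2 : z * z = 1) (h0 : Iso H z 1)
    (h1 : ∀ t : G, IsConj z t → t ≠ z → t * z = z * t → Iso H (z * t) 1)
    {a b g g' : G} (ha : a = g * z * g⁻¹) (hb : b = g' * z * g'⁻¹) (hgg : g⁻¹ * g' ∉ H) :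
    Odd (orderOf (a * b)) := by
  have haa : a * a = 1 := sq_of_conj hz2 ha
  have hbb : b * b = 1 := sq_of_conj hz2 hb
  have hza : IsConj z a := isConj_iff.mpr ⟨g, ha.symm⟩
  have hzb : IsConj z b := isConj_iff.mpr ⟨g', hb.symm⟩
  by_contra hodd
  rw [Nat.not_odd_iff_even] at hodd
  obtain ⟨m, hm⟩ := hodd
  have hpos : 0 < orderOf (a * b) := orderOf_pos _
  have hm0 : 0 < m := by omega
  obtain ⟨w, hw⟩ : ∃ w, w = (a * b) ^ m := ⟨_, rfl⟩
  have hw1 : w ≠ 1 := by
    rw [hw]; exact pow_ne_one_of_lt_orderOf hm0.ne' (by omega)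
  have hww : w * w = 1 := by
    rw [hw, ← pow_add, ← hm]; exact pow_orderOf_eq_one _
  have hwinv : w⁻¹ = w := inv_eq_of_mul_eq_one_right hww
  have hwa : w * a = a * w := by
    have e1 : a * w * a⁻¹ = (a * (a * b) * a⁻¹) ^ m := by rw [hw, conj_pow]
    rw [(conj_inv_of_sq haa hbb).1, inv_pow, ← hw, hwinv] at e1
    calc w * a = a * w * a⁻¹ * a := by rw [e1]
      _ = a * w := by group
  have hwb : w * b = b * w := by
    have e1 : b * w * b⁻¹ = (b * (a * b) * b⁻¹) ^ m := by rw [hw, conj_pow]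
    rw [(conj_inv_of_sq haa hbb).2, inv_pow, ← hw, hwinv] at e1
    calc w * b = b * w * b⁻¹ * b := by rw [e1]
      _ = b * w := by group
  have hconj : IsConj z (a * w) := by rw [hw]; exact isConj_mul_pow haa hbb hza hzb m
  have hne : a * w ≠ a := fun h => hw1 (mul_eq_left.mp h)
  have hcomm : a * w * a = a * (a * w) := by rw [mul_assoc, hwa]
  have hiso : Iso H (a * (a * w)) g := h1_conj h1 ha hconj hne hcomm
  have e : a * (a * w) = w := by rw [← mul_assoc, haa, one_mul]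
  rw [e] at hiso
  have hb_iso : Iso H b (g' * 1) := by rw [hb]; exact iso_conj h0 g'
  rw [mul_one] at hb_iso
  have h3 : g'⁻¹ * w * g' ∈ H := iso_commute hb_iso w hwb
  have h4 : w ∈ cm g' H := mem_cm.mpr h3
  exact hgg ((hiso g').mp h4)

theorem odd_card_conj [Finite G] (hz2 : z * z = 1) (hH : H ≠ ⊤) (h0 : Iso H z 1)
    (h1 : ∀ t : G, IsConj z t → t ≠ z → t * z = z * t → Iso H (z * t) 1) :
    ¬ 2 ∣ {a : G | IsConj z a}.ncard := by
  classical
  haveI : Fintype G := Fintype.ofFinite G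
  obtain ⟨g₀, hg₀⟩ : ∃ g₀ : G, g₀ ∉ H := by
    by_contra hcon
    apply hH
    rw [eq_top_iff]
    intro x _
    by_contra hx
    exact hcon ⟨x, hx⟩
  obtain ⟨s₀, hs₀⟩ : ∃ s₀, s₀ = g₀ * z * g₀⁻¹ := ⟨_, rfl⟩
  obtain ⟨s₁, hs₁⟩ : ∃ s₁, s₁ = s₀ * z * s₀⁻¹ := ⟨_, rfl⟩
  have hzH : z ∈ H := by simpa using iso_mem h0
  have hs₀sq : s₀ * s₀ = 1 := sq_of_conj hz2 hs₀
  have hs₀inv : s₀⁻¹ = s₀ := inv_eq_of_mul_eq_one_right hs₀sq
  have hs₁sq : s₁ * s₁ = 1 := sq_of_conj hz2 hs₁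
  have hiso_of : ∀ {a g : G}, a = g * z * g⁻¹ → Iso H a g := by
    intro a g ha
    have h := iso_conj h0 g
    rwa [mul_one, ← ha] at h
  have hs₀iso : Iso H s₀ g₀ := hiso_of hs₀
  have hs₁iso : Iso H s₁ s₀ := hiso_of hs₁
  have hnot_of : ∀ {a g : G}, Iso H a g → a ∈ H → g ∈ H := by
    intro a g hiso haH
    have h2 : a ∈ cm 1 H := by rw [cm_one]; exact haH
    have h3 := (hiso 1).mp h2
    rw [mul_one] at h3
    simpa using H.inv_mem h3
  have hs₀H : s₀ ∉ H := fun h => hg₀ (hnot_of hs₀iso h)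
  have hzs₀ : IsConj z s₀ := isConj_iff.mpr ⟨g₀, hs₀.symm⟩
  have hzs₁ : IsConj z s₁ := isConj_iff.mpr ⟨s₀, hs₁.symm⟩
  have hΔ : ∀ a, IsConj z a → a ∈ H → ∃ h ∈ H, a = h * z * h⁻¹ := by
    intro a hza haH
    obtain ⟨h, hh⟩ := isConj_iff.mp hza
    exact ⟨h, hnot_of (hiso_of hh.symm) haH, hh.symm⟩
  have hout : ∀ r, IsConj z r → r ∉ H → ∃ k, k ∉ H ∧ r = k * z * k⁻¹ := by
    intro r hzr hrH
    obtain ⟨k, hk⟩ := isConj_iff.mp hzr
    refine ⟨k, fun hkH => hrH ?_, hk.symm⟩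
    rw [← hk]
    exact H.mul_mem (H.mul_mem hkH hzH) (H.inv_mem hkH)
  have hinvol : ∀ r, IsConj z r → r * r = 1 := by
    intro r hzr
    obtain ⟨k, hk⟩ := isConj_iff.mp hzr
    exact sq_of_conj hz2 hk.symm
  obtain ⟨Z, hZ⟩ : ∃ Z : Finset G, Z = Finset.univ.filter (fun a => IsConj z a) := ⟨_, rfl⟩
  obtain ⟨Δ, hΔdef⟩ : ∃ Δ : Finset G, Δ = Finset.univ.filter (fun a => IsConj z a ∧ a ∈ H) :=
    ⟨_, rfl⟩
  obtain ⟨I, hIdef⟩ : ∃ I : Finset G,
      I = Finset.univ.filter (fun r => IsConj z r ∧ s₀⁻¹ * r ∈ H) := ⟨_, rfl⟩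
  have hmemZ : ∀ a, a ∈ Z ↔ IsConj z a := by
    intro a; rw [hZ, Finset.mem_filter]; exact ⟨fun h => h.2, fun h => ⟨Finset.mem_univ _, h⟩⟩
  have hmemΔ : ∀ a, a ∈ Δ ↔ IsConj z a ∧ a ∈ H := by
    intro a; rw [hΔdef, Finset.mem_filter]; exact ⟨fun h => h.2, fun h => ⟨Finset.mem_univ _, h⟩⟩
  have hmemI : ∀ r, r ∈ I ↔ IsConj z r ∧ s₀⁻¹ * r ∈ H := by
    intro a; rw [hIdef, Finset.mem_filter]; exact ⟨fun h => h.2, fun h => ⟨Finset.mem_univ _, h⟩⟩
  -- facts on elements of Δ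
  have hΔfacts : ∀ a, a ∈ Δ → a * a = 1 ∧ Odd (orderOf (a * s₁)) ∧
      ∃ h ∈ H, a = h * z * h⁻¹ := by
    intro a ha
    obtain ⟨hza, haH⟩ := (hmemΔ a).mp ha
    obtain ⟨h, hhH, hah⟩ := hΔ a hza haH
    refine ⟨sq_of_conj hz2 hah, odd_orderOf hz2 h0 h1 hah hs₁ ?_, h, hhH, hah⟩
    intro hcon
    apply hs₀H
    have e : s₀ = h * (h⁻¹ * s₀) := by group
    rw [e]; exact H.mul_mem hhH hcon
  have hcard1 : Δ.card = I.card := by
    apply Finset.card_bij (fun a _ => a * (a * s₁) ^ ((orderOf (a * s₁) + 1) / 2))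
    · intro a ha
      obtain ⟨haa, hodd, h, hhH, hah⟩ := hΔfacts a ha
      obtain ⟨hza, haH⟩ := (hmemΔ a).mp ha
      obtain ⟨hr1, hr2⟩ := swap_spec haa hs₁sq hodd
      obtain ⟨r, hr⟩ : ∃ r, r = a * (a * s₁) ^ ((orderOf (a * s₁) + 1) / 2) := ⟨_, rfl⟩
      rw [← hr] at hr1 hr2 ⊢
      have hzr : IsConj z r := by rw [hr]; exact isConj_mul_pow haa hs₁sq hza hzs₁ _
      have hrinv : r⁻¹ = r := inv_eq_of_mul_eq_one_right hr2
      have hi1 : Iso H (r * a * r⁻¹) (r * h) := iso_conj (hiso_of hah) r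
      rw [hrinv, hr1] at hi1
      have h5 := iso_unique hi1 hs₁iso
      have e : s₀⁻¹ * r = ((r * h)⁻¹ * s₀)⁻¹ * h⁻¹ := by group
      rw [hmemI]
      refine ⟨hzr, ?_⟩
      rw [e]
      exact H.mul_mem (H.inv_mem h5) (H.inv_mem hhH)
    · intro a₁ ha₁ a₂ ha₂ heq
      obtain ⟨haa₁, hodd₁, -⟩ := hΔfacts a₁ ha₁
      obtain ⟨haa₂, hodd₂, -⟩ := hΔfacts a₂ ha₂
      have hr1 := (swap_spec haa₁ hs₁sq hodd₁).1
      have hr2 := (swap_spec haa₂ hs₁sq hodd₂).1
      obtain ⟨r₁, hr₁def⟩ : ∃ r₁, r₁ = a₁ * (a₁ * s₁) ^ ((orderOf (a₁ * s₁) + 1) / 2) :=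
        ⟨_, rfl⟩
      obtain ⟨r₂, hr₂def⟩ : ∃ r₂, r₂ = a₂ * (a₂ * s₁) ^ ((orderOf (a₂ * s₁) + 1) / 2) :=
        ⟨_, rfl⟩
      rw [← hr₁def] at hr1
      rw [← hr₂def] at hr2
      have heq' : r₁ = r₂ := by rw [hr₁def, hr₂def]; exact heq
      rw [heq'] at hr1
      exact mul_left_cancel (mul_right_cancel (hr1.trans hr2.symm))
    · intro r hr
      obtain ⟨hzr, hrI⟩ := (hmemI r).mp hr
      have hrr : r * r = 1 := hinvol r hzr
      have hrinv : r⁻¹ = r := inv_eq_of_mul_eq_one_right hrr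
      have hrH : r ∉ H := by
        intro h
        apply hs₀H
        have e : s₀ = r * (s₀⁻¹ * r)⁻¹ := by group
        rw [e]; exact H.mul_mem h (H.inv_mem hrI)
      obtain ⟨k, hkH, hrk⟩ := hout r hzr hrH
      have hrs₀ : r * s₀ ∈ H := by
        have e : r * s₀ = (s₀⁻¹ * r)⁻¹ := by rw [mul_inv_rev, inv_inv, hrinv]
        rw [e]; exact H.inv_mem hrI
      obtain ⟨a, ha⟩ : ∃ a, a = r * s₁ * r := ⟨_, rfl⟩
      have haform : a = (r * s₀) * z * (r * s₀)⁻¹ := by
        have e : r * s₁ * r = r * s₁ * r⁻¹ := by rw [hrinv]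
        rw [ha, e, hs₁]; group
      have hza : IsConj z a := isConj_iff.mpr ⟨r * s₀, haform.symm⟩
      have haH : a ∈ H := by
        rw [haform]; exact H.mul_mem (H.mul_mem hrs₀ hzH) (H.inv_mem hrs₀)
      have haa : a * a = 1 := sq_of_conj hz2 haform
      have hodd' : Odd (orderOf (a * r)) := by
        refine odd_orderOf hz2 h0 h1 haform hrk ?_
        intro hcon
        apply hkH
        have e : k = (r * s₀) * ((r * s₀)⁻¹ * k) := by group
        rw [e]; exact H.mul_mem hrs₀ hcon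
      have hu := swap_unique (a := a) (r := r) haa hodd'
      have e : r * a * r = s₁ := by
        rw [ha]
        calc r * (r * s₁ * r) * r = (r * r) * s₁ * (r * r) := by group
          _ = s₁ := by rw [hrr, one_mul, mul_one]
      rw [e] at hu
      exact ⟨a, (hmemΔ a).mpr ⟨hza, haH⟩, hu.symm⟩
  have hs₀I : s₀ ∈ I := (hmemI s₀).mpr ⟨hzs₀, by rw [inv_mul_cancel]; exact H.one_mem⟩
  have hIodd : ¬ 2 ∣ I.card := by
    have hev : Even (I.erase s₀).card := by
      apply even_card_of_involution (I.erase s₀) (fun r => s₀ * r * s₀⁻¹)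
      · intro r hr
        rw [Finset.mem_erase] at hr ⊢
        obtain ⟨hne, hrI⟩ := hr
        obtain ⟨hzr, hrH⟩ := (hmemI r).mp hrI
        have hrinv : r⁻¹ = r := inv_eq_of_mul_eq_one_right (hinvol r hzr)
        refine ⟨?_, (hmemI _).mpr ⟨hzr.trans (isConj_iff.mpr ⟨s₀, rfl⟩), ?_⟩⟩
        · intro h
          apply hne
          have e : r = s₀⁻¹ * (s₀ * r * s₀⁻¹) * s₀ := by group
          rw [e, h]; group
        · have e : s₀⁻¹ * (s₀ * r * s₀⁻¹) = (s₀⁻¹ * r)⁻¹ := by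
            calc s₀⁻¹ * (s₀ * r * s₀⁻¹) = r * s₀⁻¹ := by group
              _ = r⁻¹ * s₀ := by rw [hs₀inv, hrinv]
              _ = (s₀⁻¹ * r)⁻¹ := by group
          rw [e]; exact H.inv_mem hrH
      · intro r _
        calc s₀ * (s₀ * r * s₀⁻¹) * s₀⁻¹ = (s₀ * s₀) * r * (s₀ * s₀)⁻¹ := by group
          _ = r := by rw [hs₀sq]; group
      · intro r hr h
        rw [Finset.mem_erase] at hr
        obtain ⟨hne, hrI⟩ := hr
        obtain ⟨hzr, hrH⟩ := (hmemI r).mp hrI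
        have hcomm : r * s₀ = s₀ * r := by
          calc r * s₀ = (s₀ * r * s₀⁻¹) * s₀ := by rw [h]
            _ = s₀ * r := by group
        have hiso : Iso H (s₀ * r) g₀ := h1_conj h1 hs₀ hzr hne hcomm
        have h2 : s₀ * r ∈ H := by
          have h9 := hrH
          rwa [hs₀inv] at h9
        exact hg₀ (hnot_of hiso h2)
    have hc := Finset.card_erase_add_one hs₀I
    obtain ⟨j, hj⟩ := hev
    omega
  have hZodd : ¬ 2 ∣ Z.card := by
    have hsplit := Finset.card_filter_add_card_filter_not (s := Z) (fun a => a ∈ H)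
    have e1 : Z.filter (fun a => a ∈ H) = Δ := by
      ext a
      rw [Finset.mem_filter, hmemZ, hmemΔ]
    have hev : Even (Z.filter (fun a => ¬ a ∈ H)).card := by
      apply even_card_of_involution _ (fun a => z * a * z⁻¹)
      · intro a ha
        rw [Finset.mem_filter] at ha ⊢
        obtain ⟨haZ, haH⟩ := ha
        have hza := (hmemZ a).mp haZ
        refine ⟨(hmemZ _).mpr (hza.trans (isConj_iff.mpr ⟨z, rfl⟩)), fun h => haH ?_⟩
        have e : a = z⁻¹ * (z * a * z⁻¹) * z := by group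
        rw [e]
        exact H.mul_mem (H.mul_mem (H.inv_mem hzH) h) hzH
      · intro a _
        calc z * (z * a * z⁻¹) * z⁻¹ = (z * z) * a * (z * z)⁻¹ := by group
          _ = a := by rw [hz2]; group
      · intro a ha h
        rw [Finset.mem_filter] at ha
        apply ha.2
        have hc : a * z = z * a := by
          calc a * z = (z * a * z⁻¹) * z := by rw [h]
            _ = z * a := by group
        have h3 := iso_commute h0 a hc
        simpa using h3
    rw [e1, hcard1] at hsplit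
    obtain ⟨j, hj⟩ := hev
    omega
  have hset : {a : G | IsConj z a} = (Z : Set G) := by
    ext a
    rw [Finset.mem_coe, hmemZ]
    rfl
  rw [hset, Set.ncard_coe_finset]
  exact hZodd

theorem mem_smul_sylow {p : ℕ} (P : Sylow p G) (c x : G) :
    x ∈ ((c • P : Sylow p G) : Subgroup G) ↔ c⁻¹ * x * c ∈ (P : Subgroup G) := by
  rw [Sylow.coe_subgroup_smul, Subgroup.mem_pointwise_smul_iff_inv_smul_mem, ← map_inv,
    MulAut.smul_def, MulAut.conj_apply, inv_inv]

theorem central_of_odd [Finite G] (hz2 : z * z = 1)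
    (hodd : ¬ 2 ∣ {a : G | IsConj z a}.ncard) :
    ∃ P : Sylow 2 G, z ∈ (Subgroup.center ↥(P : Subgroup G)).map (P : Subgroup G).subtype := by
  haveI : Fact (Nat.Prime 2) := ⟨Nat.prime_two⟩
  obtain ⟨P⟩ : Nonempty (Sylow 2 G) := inferInstance
  letI : MulAction ↥(P : Subgroup G) G :=
    MulAction.compHom G ((MulAut.conj : G →* MulAut G).comp (P : Subgroup G).subtype)
  have hsm : ∀ (s : ↥(P : Subgroup G)) (a : G), s • a = (s : G) * a * (s : G)⁻¹ := fun s a => rfl
  obtain ⟨a, hza, hfix⟩ := Extremal.exists_fixed_of_not_dvd (P := ↥(P : Subgroup G)) P.2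
    (fun a : G => IsConj z a)
    (fun s a ha => by rw [hsm]; exact ha.trans (isConj_iff.mpr ⟨(s : G), rfl⟩)) hodd
  obtain ⟨c, hc⟩ := isConj_iff.mp hza
  have hcomm : ∀ s ∈ (P : Subgroup G), a * s = s * a := by
    intro s hs
    have h := hfix ⟨s, hs⟩
    rw [hsm] at h
    calc a * s = (s * a * s⁻¹) * s := by rw [h]
      _ = s * a := by group
  have haa : a * a = 1 := sq_of_conj hz2 hc.symm
  have haP : a ∈ (P : Subgroup G) := by
    have h2 : IsPGroup 2 (Subgroup.zpowers a) := by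
      apply PPrimeP.isPGroup_zpowers
      have hd : orderOf a ∣ 2 := orderOf_dvd_of_pow_eq_one (by rw [pow_two]; exact haa)
      rcases (Nat.dvd_prime Nat.prime_two).mp hd with h | h
      · exact ⟨0, by rw [h, pow_zero]⟩
      · exact ⟨1, by rw [h, pow_one]⟩
    have hnorm : Subgroup.zpowers a ≤ Subgroup.normalizer ((P : Subgroup G) : Set G) := by
      rw [Subgroup.zpowers_le, Subgroup.mem_normalizer_iff]
      intro x
      constructor
      · intro hx
        have e : a * x * a⁻¹ = x := by rw [hcomm x hx]; group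
        rw [e]; exact hx
      · intro hx
        have e : x = a * x * a⁻¹ := by
          have h3 := hcomm _ hx
          calc x = a⁻¹ * ((a * x * a⁻¹) * a) := by group
            _ = a⁻¹ * (a * (a * x * a⁻¹)) := by rw [h3]
            _ = a * x * a⁻¹ := by group
        rw [e]; exact hx
    have hsup : IsPGroup 2 ↥((P : Subgroup G) ⊔ Subgroup.zpowers a) :=
      IsPGroup.to_sup_of_normal_left' P.2 h2 hnorm
    have hmax := P.is_maximal' hsup le_sup_left
    have h4 : a ∈ (P : Subgroup G) ⊔ Subgroup.zpowers a :=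
      (le_sup_right : Subgroup.zpowers a ≤ _) (Subgroup.mem_zpowers a)
    rw [hmax] at h4
    exact h4
  refine ⟨c⁻¹ • P, ⟨⟨z, ?_⟩, ?_, rfl⟩⟩
  · rw [mem_smul_sylow, inv_inv, hc]; exact haP
  · refine Subgroup.mem_center_iff.mpr ?_
    rintro ⟨y, hy⟩
    apply Subtype.ext
    show y * z = z * y
    have hy' : c⁻¹⁻¹ * y * c⁻¹ ∈ (P : Subgroup G) := (mem_smul_sylow P c⁻¹ y).mp hy
    rw [inv_inv] at hy'
    have h3 := hcomm _ hy'
    rw [← hc] at h3
    have h5 : c * (z * y) * c⁻¹ = c * (y * z) * c⁻¹ := by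
      calc c * (z * y) * c⁻¹ = c * z * c⁻¹ * (c * y * c⁻¹) := by group
        _ = c * y * c⁻¹ * (c * z * c⁻¹) := h3
        _ = c * (y * z) * c⁻¹ := by group
    exact (mul_left_cancel (mul_right_cancel h5)).symm

/-- The two conditions on an isolated point involution are equivalent. -/
theorem isolated_iff [Finite G] (z : G) (hz : orderOf z = 2) (H : Subgroup G) (hH : H ≠ ⊤)
    (h0 : ∀ g : G, z ∈ H.map (MulAut.conj g).toMonoidHom ↔ g ∈ H) :
    (∀ t : G, IsConj z t → t ≠ z → t * z = z * t →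
        ∀ g : G, z * t ∈ H.map (MulAut.conj g).toMonoidHom ↔ g ∈ H) ↔
      ((∃ P : Sylow 2 G, z ∈ (Subgroup.center ↥(P : Subgroup G)).map (P : Subgroup G).subtype) ∧
        ∀ t : G, IsConj z t → t ≠ z → t * z = z * t →
          Subgroup.centralizer ({z * t} : Set G) ≤ H) := by
  have hz2 : z * z = 1 := by rw [← pow_two, ← hz]; exact pow_orderOf_eq_one z
  have h0' : Iso H z 1 := fun k => by rw [inv_one, one_mul]; exact h0 k
  have hzH : z ∈ H := by simpa using iso_mem h0'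
  constructor
  · intro h1
    have h1' : ∀ t : G, IsConj z t → t ≠ z → t * z = z * t → Iso H (z * t) 1 :=
      fun t ht hne hc k => by rw [inv_one, one_mul]; exact h1 t ht hne hc k
    refine ⟨central_of_odd hz2 (odd_card_conj hz2 hH h0' h1'), ?_⟩
    intro t ht hne hc x hx
    have hx' : x * (z * t) = (z * t) * x :=
      (Subgroup.mem_centralizer_iff.mp hx (z * t) (Set.mem_singleton _)).symm
    have h3 := iso_commute (h1' t ht hne hc) x hx'
    simpa using h3
  · rintro ⟨⟨P, hzP⟩, hC⟩ t ht hne hc g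
    haveI : Fact (Nat.Prime 2) := ⟨Nat.prime_two⟩
    obtain ⟨⟨z', hz'P⟩, hz'c, hz'⟩ := hzP
    have hz'' : z' = z := hz'
    subst hz''
    have hzc : ∀ s ∈ (P : Subgroup G), s * z' = z' * s := by
      intro s hs
      have h2 := Subgroup.mem_center_iff.mp hz'c ⟨s, hs⟩
      exact congrArg Subtype.val h2
    have htH : t ∈ H := by simpa using iso_commute h0' t hc
    have hPH : (P : Subgroup G) ≤ H := by
      intro s hs
      simpa using iso_commute h0' s (hzc s hs)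
    constructor
    · intro hu
      obtain ⟨k, hk⟩ := isConj_iff.mp ht
      have htt : t * t = 1 := sq_of_conj hz2 hk.symm
      obtain ⟨u, hu_def⟩ : ∃ u, u = z' * t := ⟨_, rfl⟩
      rw [← hu_def] at hu
      have huu : u * u = 1 := by
        rw [hu_def]
        calc z' * t * (z' * t) = z' * (t * z') * t := by group
          _ = z' * (z' * t) * t := by rw [hc]
          _ = (z' * z') * (t * t) := by group
          _ = 1 := by rw [hz2, htt, one_mul]
      have hB : IsPGroup 2 (Subgroup.zpowers u) := by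
        apply PPrimeP.isPGroup_zpowers
        have hd : orderOf u ∣ 2 := orderOf_dvd_of_pow_eq_one (by rw [pow_two]; exact huu)
        rcases (Nat.dvd_prime Nat.prime_two).mp hd with h | h
        · exact ⟨0, by rw [h, pow_zero]⟩
        · exact ⟨1, by rw [h, pow_one]⟩
      have hA : IsPGroup 2 (cm g (P : Subgroup G)) := P.2.map _
      have hBN : Subgroup.zpowers u ≤ cm g H := by rw [Subgroup.zpowers_le]; exact hu
      have hAi : ¬ 2 ∣ (cm g (P : Subgroup G)).relIndex (cm g H) := by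
        rw [cm_relIndex]
        intro h
        exact P.not_dvd_index (h.trans (Subgroup.relIndex_dvd_index_of_le hPH))
      obtain ⟨y, hyN, hy⟩ := AG2.exists_conj_le (cm g H) (cm g (P : Subgroup G))
        (Subgroup.zpowers u) hA hB hBN hAi
      have h1 : y * u * y⁻¹ ∈ cm g (P : Subgroup G) :=
        hy (mem_cm_of_mem (Subgroup.mem_zpowers u) y)
      rw [mem_cm] at h1 hyN
      have h2 := hzc _ h1
      obtain ⟨g₁, hg₁⟩ : ∃ g₁, g₁ = y⁻¹ * g := ⟨_, rfl⟩
      have h3 : (g₁ * z' * g₁⁻¹) * u = u * (g₁ * z' * g₁⁻¹) := by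
        have e1 : g₁ * z' * g₁⁻¹ * u = g₁ * (z' * (g⁻¹ * (y * u * y⁻¹) * g)) * g₁⁻¹ := by
          rw [hg₁]; group
        have e2 : u * (g₁ * z' * g₁⁻¹) = g₁ * ((g⁻¹ * (y * u * y⁻¹) * g) * z') * g₁⁻¹ := by
          rw [hg₁]; group
        rw [e1, e2, h2]
      have h4 : g₁ * z' * g₁⁻¹ ∈ Subgroup.centralizer ({z' * t} : Set G) := by
        rw [Subgroup.mem_centralizer_iff]
        intro x hx
        rw [Set.mem_singleton_iff] at hx
        rw [hx, ← hu_def]; exact h3.symm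
      have h5 : g₁ * z' * g₁⁻¹ ∈ H := hC t ht hne hc h4
      have hiso : Iso H (g₁ * z' * g₁⁻¹) (g₁ * 1) := iso_conj h0' g₁
      have h6 : g₁ * z' * g₁⁻¹ ∈ cm 1 H := by rw [cm_one]; exact h5
      have h7 := (hiso 1).mp h6
      have h8 : g₁ ∈ H := by simpa using H.inv_mem h7
      have e : g = g₁ * (g⁻¹ * y * g) := by rw [hg₁]; group
      rw [e]; exact H.mul_mem h8 hyN
    · intro hg
      have h9 : z' * t ∈ cm g H := by
        rw [mem_cm]
        exact H.mul_mem (H.mul_mem (H.inv_mem hg) (H.mul_mem hzH htH)) hg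
      exact h9

end Cfsg.Agent.Lib.Helper8.IsoPt
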