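import Cfsg.Agent.Lib.Helper8.GroupFusion

set_option autoImplicit false

namespace Cfsg.Agent.Lib.Helper8.Lift

open Cfsg
open Cfsg.Agent.Lib.Helper8.Fusion Cfsg.Agent.Lib.Helper8.GroupFusion

/-- Fusion lifts from the quotient by a normal subgroup `N`: if `γ ∈ G/N` conjugates the image
of `P ≤ S` into the image of the Sylow subgroup `S`, some lift of `γ` conjugates `P` into
`S`. -/
theorem exists_lift_conj {G : Type*} [Group G] [Finite G] {p : ℕ} [Fact p.Prime]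
    (N : Subgroup G) [hN : N.Normal] (S : Sylow p G) (P : Subgroup G)
    (hP : P ≤ (S : Subgroup G)) (γ : G ⧸ N)
    (hγ : ∀ x ∈ P, γ * QuotientGroup.mk x * γ⁻¹ ∈
      ((S : Subgroup G).map (QuotientGroup.mk' N))) :
    ∃ g : G, ∀ x ∈ P, g * x * g⁻¹ ∈ S ∧
      (QuotientGroup.mk (g * x * g⁻¹) : G ⧸ N) = γ * QuotientGroup.mk x * γ⁻¹ := by
  obtain ⟨h, rfl⟩ := QuotientGroup.mk_surjective γ
  have h1 : ∀ x ∈ P, h * x * h⁻¹ ∈ (S : Subgroup G) ⊔ N := by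
    intro x hx
    obtain ⟨s, hs, hsx⟩ := hγ x hx
    have h2 : (QuotientGroup.mk s : G ⧸ N) = QuotientGroup.mk (h * x * h⁻¹) := by
      rw [QuotientGroup.mk_mul, QuotientGroup.mk_mul, QuotientGroup.mk_inv]
      exact hsx
    have h3 : s⁻¹ * (h * x * h⁻¹) ∈ N := QuotientGroup.eq.mp h2
    have h4 : h * x * h⁻¹ = s * (s⁻¹ * (h * x * h⁻¹)) := by group
    rw [h4]
    exact Subgroup.mul_mem_sup hs h3
  have hSK : (S : Subgroup G) ≤ (S : Subgroup G) ⊔ N := le_sup_left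
  have hP'K : P.map (MulAut.conj h).toMonoidHom ≤ (S : Subgroup G) ⊔ N := by
    rintro _ ⟨x, hx, rfl⟩
    exact h1 x hx
  have hP'p : IsPGroup p ((P.map (MulAut.conj h).toMonoidHom).subgroupOf
      ((S : Subgroup G) ⊔ N)) :=
    ((S.isPGroup'.to_le hP).map _).comap_subtype
  obtain ⟨m, hm⟩ := exists_conj_le_sylow (S.subtype hSK) hP'p
  obtain ⟨s, hs, n, hn, hsn⟩ := Subgroup.mem_sup_of_normal_right.mp m.2
  have key : ∀ x ∈ P, (m : G) * (h * x * h⁻¹) * (m : G)⁻¹ ∈ (S : Subgroup G) := by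
    intro x hx
    have hxK : h * x * h⁻¹ ∈ (S : Subgroup G) ⊔ N := h1 x hx
    have h5 : (MulAut.conj m).toMonoidHom ⟨h * x * h⁻¹, hxK⟩ ∈
        ((P.map (MulAut.conj h).toMonoidHom).subgroupOf ((S : Subgroup G) ⊔ N)).map
          (MulAut.conj m).toMonoidHom :=
      ⟨⟨h * x * h⁻¹, hxK⟩, Subgroup.mem_subgroupOf.mpr ⟨x, hx, rfl⟩, rfl⟩
    have h6 := hm h5
    exact h6
  refine ⟨n * h, fun x hx => ⟨?_, ?_⟩⟩
  · have h7 := key x hx
    rw [← hsn] at h7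
    have h8 : n * h * x * (n * h)⁻¹ = s⁻¹ * (s * n * (h * x * h⁻¹) * (s * n)⁻¹) * s := by group
    rw [h8]
    exact Subgroup.mul_mem _ (Subgroup.mul_mem _ (Subgroup.inv_mem _ hs) h7) hs
  · have h9 : (QuotientGroup.mk n : G ⧸ N) = 1 := (QuotientGroup.eq_one_iff n).mpr hn
    rw [QuotientGroup.mk_mul, QuotientGroup.mk_mul, QuotientGroup.mk_inv, QuotientGroup.mk_mul,
      h9, one_mul]

end Cfsg.Agent.Lib.Helper8.Lift
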