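import Mathlib

set_option autoImplicit false
set_option linter.unusedVariables false
set_option linter.unusedSectionVars false
set_option maxHeartbeats 400000

universe u

namespace Cfsg.Agent.Lib.Helper8.OnePt

theorem exists_emb {X : Type u} {k : ℕ} (hk : 2 ≤ k) (e : Fin k ↪ X) (z1 z2 : X)
    (hz : z1 ≠ z2) :
    ∃ a : Fin k ↪ X, a ⟨0, by omega⟩ = z1 ∧ a ⟨1, by omega⟩ = z2 := by
  classical
  have hne : e ⟨0, by omega⟩ ≠ e ⟨1, by omega⟩ := by
    intro h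
    have h' := e.injective h
    simp at h'
  obtain ⟨σ1, h1⟩ : ∃ σ1 : Equiv.Perm X, σ1 (e ⟨0, by omega⟩) = z1 :=
    ⟨Equiv.swap (e ⟨0, by omega⟩) z1, Equiv.swap_apply_left _ _⟩
  have h2 : σ1 (e ⟨1, by omega⟩) ≠ z1 :=
    fun h => hne (σ1.injective (h.trans h1.symm)).symm
  obtain ⟨σ2, h3, h4⟩ : ∃ σ2 : Equiv.Perm X,
      σ2 (σ1 (e ⟨1, by omega⟩)) = z2 ∧ σ2 z1 = z1 :=
    ⟨Equiv.swap (σ1 (e ⟨1, by omega⟩)) z2, Equiv.swap_apply_left _ _,
      Equiv.swap_apply_of_ne_of_ne (Ne.symm h2) hz⟩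
  refine ⟨(e.trans σ1.toEmbedding).trans σ2.toEmbedding, ?_, ?_⟩
  · show σ2 (σ1 (e ⟨0, by omega⟩)) = z1
    rw [h1, h4]
  · show σ2 (σ1 (e ⟨1, by omega⟩)) = z2
    exact h3

theorem main {X : Type u} (G : Subgroup (Equiv.Perm (Option X)))
    (hfix : ∀ f ∈ G, f none = none)
    (k : ℕ) (hk : 2 ≤ k) (hkX : Nonempty (Fin k ↪ X))
    (htrans : ∀ a b : Fin k ↪ X, ∃ f ∈ G, ∀ i, f (some (a i)) = some (b i))
    (h g : Equiv.Perm (Option X)) (hg : g ∈ G) (x y : X)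
    (h1 : h none = some x) (h2 : h (some x) = none) (h3 : h (some y) = some y)
    (h4 : g (some x) = some y) (h5 : g (some y) = some x)
    (h6 : (g * h) ^ 3 ∈ G) (h7 : h ^ 2 ∈ G)
    (h8 : ∀ f ∈ G, f (some x) = some x → h * f * h ∈ G ∧ (h * f * h) (some x) = some x) :
    (∀ f ∈ Subgroup.closure ((G : Set (Equiv.Perm (Option X))) ∪ {h}),
        f none = none ↔ f ∈ G) ∧
      MulAction.IsMultiplyPretransitive
        (Subgroup.closure ((G : Set (Equiv.Perm (Option X))) ∪ {h})) (Option X) (k + 1) := by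
  have hxy : x ≠ y := by
    intro hxy
    rw [hxy, h3] at h2
    cases h2
  have T2 : ∀ z1 z2 w1 w2 : X, z1 ≠ z2 → w1 ≠ w2 →
      ∃ f ∈ G, f (some z1) = some w1 ∧ f (some z2) = some w2 := by
    intro z1 z2 w1 w2 hz hw
    obtain ⟨e⟩ := hkX
    obtain ⟨a, ha0, ha1⟩ := exists_emb hk e z1 z2 hz
    obtain ⟨b, hb0, hb1⟩ := exists_emb hk e w1 w2 hw
    obtain ⟨f, hf, hfab⟩ := htrans a b
    refine ⟨f, hf, ?_, ?_⟩
    · have h0 := hfab ⟨0, by omega⟩
      rw [ha0, hb0] at h0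
      exact h0
    · have h0 := hfab ⟨1, by omega⟩
      rw [ha1, hb1] at h0
      exact h0
  have T1 : ∀ z w : X, ∃ f ∈ G, f (some z) = some w := by
    intro z w
    by_cases hzw : z = w
    · exact ⟨1, G.one_mem, by subst hzw; rfl⟩
    · obtain ⟨f, hf, hf1, -⟩ := T2 z w w z hzw (Ne.symm hzw)
      exact ⟨f, hf, hf1⟩
  have dc : ∀ f ∈ G, f (some x) ≠ some x → ∃ f1 ∈ G, ∃ f2 ∈ G,
      f1 (some x) = some x ∧ f2 (some x) = some x ∧ f = f1 * g * f2 := by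
    intro f hf hfx
    have hne : f (some x) ≠ none := by
      intro hn
      rw [← hfix f hf] at hn
      exact Option.some_ne_none x (f.injective hn)
    obtain ⟨w, hw⟩ := Option.ne_none_iff_exists'.mp hne
    have hwx : x ≠ w := by
      intro hxw
      apply hfx
      rw [hw, hxw]
    obtain ⟨f1, hf1, hf1x, hf1y⟩ := T2 x y x w hxy hwx
    have e1 : f1⁻¹ (some w) = some y := by
      rw [Equiv.Perm.inv_eq_iff_eq]
      exact hf1y.symm
    have e2 : g⁻¹ (some y) = some x := by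
      rw [Equiv.Perm.inv_eq_iff_eq]
      exact h4.symm
    refine ⟨f1, hf1, g⁻¹ * f1⁻¹ * f,
      G.mul_mem (G.mul_mem (G.inv_mem hg) (G.inv_mem hf1)) hf, hf1x, ?_, by group⟩
    show g⁻¹ (f1⁻¹ (f (some x))) = some x
    rw [hw, e1, e2]
  have ht3 : g * h * g * h * g * h = (g * h) ^ 3 := by
    rw [pow_three']
    simp only [mul_assoc]
  obtain ⟨t3, ht3G, ht3e⟩ : ∃ t3 ∈ G, g * h * g * h * g * h = t3 := ⟨_, h6, ht3⟩
  have D1 : ∀ f ∈ G, (h * f * h ∈ G) ∨ ∃ a ∈ G, ∃ b ∈ G, h * f * h = a * h * b := by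
    intro f hf
    by_cases hfx : f (some x) = some x
    · exact Or.inl (h8 f hf hfx).1
    · obtain ⟨f1, hf1, f2, hf2, hf1x, hf2x, rfl⟩ := dc f hf hfx
      refine Or.inr ⟨(h * f1 * h) * ((h ^ 2)⁻¹ * g⁻¹ * t3),
        G.mul_mem (h8 f1 hf1 hf1x).1 (G.mul_mem (G.mul_mem (G.inv_mem h7) (G.inv_mem hg)) ht3G),
        ((h ^ 2)⁻¹ * g⁻¹ * (h ^ 2)⁻¹) * (h * f2 * h),
        G.mul_mem (G.mul_mem (G.mul_mem (G.inv_mem h7) (G.inv_mem hg)) (G.inv_mem h7))
          (h8 f2 hf2 hf2x).1, ?_⟩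
      rw [← ht3e]
      group
  have D2 : ∀ a b : Equiv.Perm (Option X),
      (a ∈ G ∨ ∃ a1 ∈ G, ∃ a2 ∈ G, a = a1 * h * a2) →
      (b ∈ G ∨ ∃ b1 ∈ G, ∃ b2 ∈ G, b = b1 * h * b2) →
      (a * b ∈ G ∨ ∃ c1 ∈ G, ∃ c2 ∈ G, a * b = c1 * h * c2) := by
    intro a b ha hb
    rcases ha with ha | ⟨a1, ha1, a2, ha2, rfl⟩
    · rcases hb with hb | ⟨b1, hb1, b2, hb2, rfl⟩
      · exact Or.inl (G.mul_mem ha hb)
      · exact Or.inr ⟨a * b1, G.mul_mem ha hb1, b2, hb2, by group⟩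
    · rcases hb with hb | ⟨b1, hb1, b2, hb2, rfl⟩
      · exact Or.inr ⟨a1, ha1, a2 * b, G.mul_mem ha2 hb, by group⟩
      · have e : a1 * h * a2 * (b1 * h * b2) = a1 * (h * (a2 * b1) * h) * b2 := by group
        rcases D1 (a2 * b1) (G.mul_mem ha2 hb1) with hm | ⟨c1, hc1, c2, hc2, hm⟩
        · refine Or.inl ?_
          rw [e]
          exact G.mul_mem (G.mul_mem ha1 hm) hb2
        · refine Or.inr ⟨a1 * c1, G.mul_mem ha1 hc1, c2 * b2, G.mul_mem hc2 hb2, ?_⟩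
          rw [e, hm]
          group
  have D3 : ∀ a : Equiv.Perm (Option X),
      (a ∈ G ∨ ∃ a1 ∈ G, ∃ a2 ∈ G, a = a1 * h * a2) →
      (a⁻¹ ∈ G ∨ ∃ c1 ∈ G, ∃ c2 ∈ G, a⁻¹ = c1 * h * c2) := by
    intro a ha
    rcases ha with ha | ⟨a1, ha1, a2, ha2, rfl⟩
    · exact Or.inl (G.inv_mem ha)
    · exact Or.inr ⟨a2⁻¹, G.inv_mem ha2, (h ^ 2)⁻¹ * a1⁻¹,
        G.mul_mem (G.inv_mem h7) (G.inv_mem ha1), by group⟩
  obtain ⟨K, hK⟩ : ∃ K : Subgroup (Equiv.Perm (Option X)),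
      ∀ f, f ∈ K ↔ (f ∈ G ∨ ∃ a ∈ G, ∃ b ∈ G, f = a * h * b) := by
    refine ⟨{ carrier := {f | f ∈ G ∨ ∃ a ∈ G, ∃ b ∈ G, f = a * h * b}
              mul_mem' := ?_
              one_mem' := Or.inl G.one_mem
              inv_mem' := ?_ }, fun f => Iff.rfl⟩
    · intro a b ha hb
      exact D2 a b ha hb
    · intro a ha
      exact D3 a ha
  have hcl : Subgroup.closure ((G : Set (Equiv.Perm (Option X))) ∪ {h}) ≤ K := by
    rw [Subgroup.closure_le]
    intro f hf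
    rcases hf with hf | hf
    · exact (hK f).mpr (Or.inl hf)
    · rw [Set.mem_singleton_iff] at hf
      rw [hf]
      exact (hK h).mpr (Or.inr ⟨1, G.one_mem, 1, G.one_mem, by group⟩)
  have part1 : ∀ f ∈ Subgroup.closure ((G : Set (Equiv.Perm (Option X))) ∪ {h}),
      f none = none ↔ f ∈ G := by
    intro f hf
    constructor
    · intro hfn
      rcases (hK f).mp (hcl hf) with hfG | ⟨a, ha, b, hb, rfl⟩
      · exact hfG
      · exfalso
        have e : (a * h * b) none = a (some x) := by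
          show a (h (b none)) = a (some x)
          rw [hfix b hb, h1]
        rw [e, ← hfix a ha] at hfn
        exact Option.some_ne_none x (a.injective hfn)
    · intro hfG
      exact hfix f hfG
  have hGle : ∀ f ∈ G, f ∈ Subgroup.closure ((G : Set (Equiv.Perm (Option X))) ∪ {h}) :=
    fun f hf => Subgroup.subset_closure (Or.inl hf)
  have hhmem : h ∈ Subgroup.closure ((G : Set (Equiv.Perm (Option X))) ∪ {h}) :=
    Subgroup.subset_closure (Or.inr rfl)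
  have P1 : ∀ a : Fin (k + 1) ↪ Option X,
      ∃ t ∈ Subgroup.closure ((G : Set (Equiv.Perm (Option X))) ∪ {h}), ∃ a' : Fin k ↪ X,
        t (a (Fin.last k)) = none ∧ ∀ i : Fin k, t (a (Fin.castSucc i)) = some (a' i) := by
    intro a
    have ht : ∃ t ∈ Subgroup.closure ((G : Set (Equiv.Perm (Option X))) ∪ {h}),
        t (a (Fin.last k)) = none := by
      rcases hu : a (Fin.last k) with _ | z
      · exact ⟨1, Subgroup.one_mem _, rfl⟩
      · obtain ⟨f1, hf1, hf1z⟩ := T1 z x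
        refine ⟨h * f1, Subgroup.mul_mem _ hhmem (hGle f1 hf1), ?_⟩
        show h (f1 (some z)) = none
        rw [hf1z, h2]
    obtain ⟨t, htH, hta⟩ := ht
    have hne : ∀ i : Fin k, ∃ z, t (a (Fin.castSucc i)) = some z := by
      intro i
      apply Option.ne_none_iff_exists'.mp
      intro hn
      rw [← hta] at hn
      exact Fin.castSucc_ne_last i (a.injective (t.injective hn))
    choose a' ha' using hne
    refine ⟨t, htH, ⟨a', ?_⟩, hta, ha'⟩
    intro i j hij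
    have e : t (a (Fin.castSucc i)) = t (a (Fin.castSucc j)) := by
      rw [ha' i, ha' j, hij]
    exact Fin.castSucc_injective k (a.injective (t.injective e))
  refine ⟨part1, ?_⟩
  refine (MulAction.isPretransitive_iff _ _).mpr ?_
  intro a b
  obtain ⟨t, htH, a', hta, ha'⟩ := P1 a
  obtain ⟨s, hsH, b', hsb, hb'⟩ := P1 b
  obtain ⟨f, hf, hfab⟩ := htrans a' b'
  refine ⟨⟨s⁻¹ * f * t,
    Subgroup.mul_mem _ (Subgroup.mul_mem _ (Subgroup.inv_mem _ hsH) (hGle f hf)) htH⟩,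
    Function.Embedding.ext fun i => ?_⟩
  show s⁻¹ (f (t (a i))) = b i
  rcases Fin.eq_castSucc_or_eq_last i with ⟨j, rfl⟩ | rfl
  · rw [ha' j, hfab j, Equiv.Perm.inv_eq_iff_eq]
    exact (hb' j).symm
  · rw [hta, hfix f hf, Equiv.Perm.inv_eq_iff_eq]
    exact hsb.symm

end Cfsg.Agent.Lib.Helper8.OnePt
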