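import Cfsg.Agent.Lib.Helper8.AG2

set_option autoImplicit false
set_option linter.unusedSectionVars false
set_option linter.unusedVariables false

namespace Cfsg.Agent.Lib.Helper8.PLen1

open Cfsg
open Cfsg.Agent.Lib.Helper8.ClassicAlperin Cfsg.Agent.Lib.Helper8.ConjFam
  Cfsg.Agent.Lib.Helper8.WellPlaced Cfsg.Agent.Lib.Helper8.Cfun Cfsg.Agent.Lib.Helper8.CfunFam
  Cfsg.Agent.Lib.Helper8.Centric Cfsg.Agent.Lib.Helper8.AG1 Cfsg.Agent.Lib.Helper8.AG2
open scoped commutatorElement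

variable {G : Type*} [Group G]

theorem cm_of_normal {U : Subgroup G} (hU : U.Normal) (x : G) : cm x U = U := by
  ext g
  rw [mem_cm]
  constructor
  · intro h
    have h1 := hU.conj_mem _ h x
    have e : x * (x⁻¹ * g * x) * x⁻¹ = g := by group
    rw [e] at h1
    exact h1
  · intro h
    have h1 := hU.conj_mem _ h x⁻¹
    rw [inv_inv] at h1
    exact h1

/-- The abstract setting: `D` is a normal `p'`-subgroup, `U` is normal, `S ≤ U = D S`. -/
structure Setup (p : ℕ) (S D U : Subgroup G) : Prop where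
  Dn : D.Normal
  Un : U.Normal
  SU : S ≤ U
  cop : ∃ n : ℕ, n.Coprime p ∧ ∀ x ∈ D, orderOf x ∣ n
  dec : ∀ m ∈ U, ∃ o ∈ D, ∃ s ∈ S, m = o * s

variable [Finite G] {p : ℕ} [Fact p.Prime]

theorem comm (S : Sylow p G) {D U : Subgroup G} (h : Setup p (S : Subgroup G) D U) {d a : G}
    (hd : d ∈ D) (ha : a ∈ (S : Subgroup G)) (hda : d * a * d⁻¹ ∈ (S : Subgroup G)) :
    d * a = a * d := by
  obtain ⟨n, hn, hord⟩ := h.cop
  have h1 : d * a * d⁻¹ * a⁻¹ ∈ (S : Subgroup G) := mul_mem hda (inv_mem ha)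
  have h2 : d * a * d⁻¹ * a⁻¹ ∈ D := by
    have h3 : a * d⁻¹ * a⁻¹ ∈ D := h.Dn.conj_mem _ (inv_mem hd) a
    have e : d * a * d⁻¹ * a⁻¹ = d * (a * d⁻¹ * a⁻¹) := by group
    rw [e]
    exact mul_mem hd h3
  obtain ⟨k, hk⟩ := S.2 ⟨_, h1⟩
  have h5 : (d * a * d⁻¹ * a⁻¹) ^ (p ^ k) = 1 := by
    have h0 := congrArg Subtype.val hk
    simpa using h0
  have h7 := eq_one_of_pow_of_coprime h5 (hord _ h2) hn
  calc d * a = (d * a * d⁻¹ * a⁻¹) * (a * d) := by group
    _ = a * d := by rw [h7, one_mul]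

theorem frattini (S : Sylow p G) {D U : Subgroup G} (h : Setup p (S : Subgroup G) D U) (x : G) :
    ∃ d ∈ D, ∃ n ∈ Subgroup.normalizer ((S : Subgroup G) : Set G), x = d * n := by
  have hi : ¬ p ∣ (S : Subgroup G).relIndex U := fun hdvd =>
    S.not_dvd_index (dvd_trans hdvd (Subgroup.relIndex_dvd_index_of_le h.SU))
  have hcmU : cm x U = U := cm_of_normal h.Un x
  have hx : cm x (S : Subgroup G) ≤ U := (cm_mono h.SU x).trans (le_of_eq hcmU)
  have hi' : ¬ p ∣ (cm x (S : Subgroup G)).relIndex U := by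
    have h1 := cm_relIndex x (S : Subgroup G) U
    rw [hcmU] at h1
    rw [h1]
    exact hi
  obtain ⟨m, hmU, hm⟩ := exists_cm_eq U (cm x (S : Subgroup G)) (S : Subgroup G) hx (S.2.map _) hi'
    h.SU S.2 hi
  rw [cm_mul] at hm
  have hmx := mem_normalizer_of_cm_eq hm
  obtain ⟨o, ho, s, hs, hos⟩ := h.dec m⁻¹ (inv_mem hmU)
  refine ⟨o, ho, s * (m * x), mul_mem (Subgroup.le_normalizer hs) hmx, ?_⟩
  calc x = m⁻¹ * (m * x) := by group
    _ = o * s * (m * x) := by rw [← hos]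
    _ = o * (s * (m * x)) := by group

theorem part2 (S : Sylow p G) {D U : Subgroup G} (h : Setup p (S : Subgroup G) D U)
    (Y : Set G) (x : G) (hY : Y ⊆ ((S : Subgroup G) : Set G))
    (hYx : (fun y => x * y * x⁻¹) '' Y ⊆ ((S : Subgroup G) : Set G)) :
    ∃ g ∈ Subgroup.normalizer ((S : Subgroup G) : Set G), ∃ c ∈ Subgroup.centralizer Y,
      g * c = x := by
  obtain ⟨d, hd, n, hn, hx⟩ := frattini S h x
  refine ⟨n, hn, n⁻¹ * d * n, ?_, by rw [hx]; group⟩
  rw [Subgroup.mem_centralizer_iff]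
  intro y hy
  have h1 : n * y * n⁻¹ ∈ (S : Subgroup G) := (Subgroup.mem_normalizer_iff.mp hn y).mp (hY hy)
  have h2 : d * (n * y * n⁻¹) * d⁻¹ ∈ (S : Subgroup G) := by
    have h3 : x * y * x⁻¹ ∈ (S : Subgroup G) := hYx ⟨y, hy, rfl⟩
    have e : x * y * x⁻¹ = d * (n * y * n⁻¹) * d⁻¹ := by
      rw [hx]
      group
    rw [e] at h3
    exact h3
  have h4 := comm S h hd h1 h2
  calc y * (n⁻¹ * d * n) = n⁻¹ * (n * y * n⁻¹ * d) * n := by group
    _ = n⁻¹ * (d * (n * y * n⁻¹)) * n := by rw [h4]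
    _ = n⁻¹ * d * n * y := by group

theorem part1 (S : Sylow p G) {D U : Subgroup G} (h : Setup p (S : Subgroup G) D U)
    (hS : (S : Subgroup G) ≤ commutator G) :
    (S : Subgroup G) ≤ ⁅Subgroup.normalizer ((S : Subgroup G) : Set G),
      Subgroup.normalizer ((S : Subgroup G) : Set G)⁆ := by
  have h1 : (S : Subgroup G) ⊓ ⁅(⊤ : Subgroup G), ⊤⁆ ≤
      ⁅Subgroup.normalizer ((S : Subgroup G) : Set G),
        Subgroup.normalizer ((S : Subgroup G) : Set G)⁆ := by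
    apply focal_le
    intro x hx u hu
    obtain ⟨g, hg, c, hc, hgc⟩ := part2 S h {x} u
      (by
        intro a ha
        rw [Set.mem_singleton_iff] at ha
        rw [ha]
        exact hx)
      (by
        rintro _ ⟨a, ha, rfl⟩
        rw [Set.mem_singleton_iff] at ha
        rw [ha]
        exact hu)
    have hcx : x * c = c * x := (Subgroup.mem_centralizer_iff.mp hc) x rfl
    have e : x * (u * x * u⁻¹)⁻¹ = ⁅x, g⁆ := by
      rw [← hgc, commutatorElement_def]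
      have e1 : g * c * x * (g * c)⁻¹ = g * (c * x) * c⁻¹ * g⁻¹ := by group
      rw [e1, ← hcx]
      group
    rw [e]
    exact Subgroup.commutator_mem_commutator (Subgroup.le_normalizer hx) hg
  rw [commutator_def] at hS
  exact (le_inf le_rfl hS).trans h1

theorem part3 (S : Sylow p G) {D U : Subgroup G} (h : Setup p (S : Subgroup G) D U)
    (Q : Subgroup G) (hQ : IsPGroup p Q) :
    ∃ x ∈ Subgroup.centralizer ((Q ⊓ (S : Subgroup G) : Subgroup G) : Set G),
      Q.map (MulAut.conj x).toMonoidHom ≤ (S : Subgroup G) := by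
  have hi : ¬ p ∣ (S : Subgroup G).relIndex U := fun hdvd =>
    S.not_dvd_index (dvd_trans hdvd (Subgroup.relIndex_dvd_index_of_le h.SU))
  have hiT : ¬ p ∣ (S : Subgroup G).relIndex ⊤ := relIndex_top_sylow S
  -- `Q ≤ U`
  obtain ⟨y₀, _, hy₀⟩ := exists_conj_le ⊤ (S : Subgroup G) Q S.2 hQ le_top hiT
  have hQU : Q ≤ U := by
    intro q hq
    have h1 : y₀ * q * y₀⁻¹ ∈ U := h.SU (hy₀ (mem_cm_of_mem hq y₀))
    have h2 := h.Un.conj_mem _ h1 y₀⁻¹
    have e : y₀⁻¹ * (y₀ * q * y₀⁻¹) * y₀⁻¹⁻¹ = q := by group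
    rw [e] at h2
    exact h2
  obtain ⟨y, hyU, hy⟩ := exists_conj_le U (S : Subgroup G) Q S.2 hQ hQU hi
  obtain ⟨o, ho, s, hs, hos⟩ := h.dec y⁻¹ (inv_mem hyU)
  -- `y = s⁻¹ o⁻¹`
  have hyd : y = s⁻¹ * o⁻¹ := by
    have e : y = (y⁻¹)⁻¹ := by group
    rw [e, hos]
    group
  have hdQ : cm o⁻¹ Q ≤ (S : Subgroup G) := by
    rintro _ ⟨q, hq, rfl⟩
    have h1 : y * q * y⁻¹ ∈ (S : Subgroup G) := hy (mem_cm_of_mem hq y)
    have h2 : s * (y * q * y⁻¹) * s⁻¹ ∈ (S : Subgroup G) :=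
      mul_mem (mul_mem hs h1) (inv_mem hs)
    have e : s * (y * q * y⁻¹) * s⁻¹ = o⁻¹ * q * o⁻¹⁻¹ := by
      rw [hyd]
      group
    rw [e] at h2
    exact h2
  refine ⟨o⁻¹, ?_, hdQ⟩
  rw [Subgroup.mem_centralizer_iff]
  intro q hq
  have h1 : o⁻¹ * q * o⁻¹⁻¹ ∈ (S : Subgroup G) := hdQ (mem_cm_of_mem hq.1 o⁻¹)
  exact (comm S h (inv_mem ho) hq.2 h1).symm

/-- The setting holds in a group of `p`-length one. -/
theorem setup_of_plength (hpl : PLengthLE p 1 G) (S : Sylow p G) :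
    Setup p (S : Subgroup G) (upperPSeries p G 1).1 (upperPSeries p G 2).1 := by
  refine ⟨(upperPSeries p G 1).2, (upperPSeries p G 2).2, ?_, ?_, ?_⟩
  · -- `S ≤ U₂`
    intro s hs
    have h3 : s ∈ (upperPSeries p G 3).1 := by
      have h0 : (upperPSeries p G 3).1 = ⊤ := hpl
      rw [h0]
      exact Subgroup.mem_top s
    have h4 : QuotientGroup.mk' (upperPSeries p G 2).1 s ∈
        pPrimeCore p (G ⧸ (upperPSeries p G 2).1) := h3
    obtain ⟨k, hk⟩ := S.2 ⟨s, hs⟩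
    have h5 : s ^ (p ^ k) = 1 := by
      have h0 := congrArg Subtype.val hk
      simpa using h0
    have h6 : (QuotientGroup.mk' (upperPSeries p G 2).1 s) ^ (p ^ k) = 1 := by
      rw [← map_pow, h5, map_one]
    have h7 : orderOf (QuotientGroup.mk' (upperPSeries p G 2).1 s) ∣
        Nat.card (pPrimeCore p (G ⧸ (upperPSeries p G 2).1)) := by
      have h0 := orderOf_dvd_natCard (⟨_, h4⟩ : ↥(pPrimeCore p (G ⧸ (upperPSeries p G 2).1)))
      rwa [Subgroup.orderOf_mk] at h0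
    have h8 := eq_one_of_pow_of_coprime h6 h7 (pPrimeCore_coprime p)
    rw [QuotientGroup.mk'_apply, QuotientGroup.eq_one_iff] at h8
    exact h8
  · refine ⟨Nat.card (pPrimeCore p (G ⧸ (upperPSeries p G 0).1)), pPrimeCore_coprime p, ?_⟩
    intro x hx
    have h4 : QuotientGroup.mk' (upperPSeries p G 0).1 x ∈
        pPrimeCore p (G ⧸ (upperPSeries p G 0).1) := hx
    have h7 : orderOf (QuotientGroup.mk' (upperPSeries p G 0).1 x) ∣
        Nat.card (pPrimeCore p (G ⧸ (upperPSeries p G 0).1)) := by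
      have h0 := orderOf_dvd_natCard (⟨_, h4⟩ : ↥(pPrimeCore p (G ⧸ (upperPSeries p G 0).1)))
      rwa [Subgroup.orderOf_mk] at h0
    have hinj : Function.Injective (QuotientGroup.mk' (upperPSeries p G 0).1) := by
      rw [← MonoidHom.ker_eq_bot_iff, QuotientGroup.ker_mk']
      rfl
    rw [orderOf_injective _ hinj] at h7
    exact h7
  · intro m hm
    have hsurj := QuotientGroup.mk'_surjective (upperPSeries p G 1).1
    have h1 : QuotientGroup.mk' (upperPSeries p G 1).1 m ∈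
        pCore p (G ⧸ (upperPSeries p G 1).1) := hm
    have hn : (pCore p (G ⧸ (upperPSeries p G 1).1)).Normal :=
      Cfsg.Agent.Lib.Helper8.AG1.pCore_normal p
    have h2 : pCore p (G ⧸ (upperPSeries p G 1).1) ≤ ((Sylow.mapSurjective hsurj S : Sylow p _) :
        Subgroup (G ⧸ (upperPSeries p G 1).1)) :=
      (pCore_isPGroup p).le_sylow_of_normal _
    have h3 := h2 h1
    rw [Sylow.coe_mapSurjective] at h3
    obtain ⟨s, hs, hsm⟩ := h3
    refine ⟨m * s⁻¹, ?_, s, hs, by group⟩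
    have h4 : QuotientGroup.mk' (upperPSeries p G 1).1 (m * s⁻¹) = 1 := by
      rw [map_mul, map_inv, hsm, mul_inv_cancel]
    rw [QuotientGroup.mk'_apply, QuotientGroup.eq_one_iff] at h4
    exact h4

theorem plength_one (hpl : PLengthLE p 1 G) (S : Sylow p G) :
    ((S : Subgroup G) ≤ commutator G →
      (S : Subgroup G) ≤ ⁅Subgroup.normalizer ((S : Subgroup G) : Set G),
        Subgroup.normalizer ((S : Subgroup G) : Set G)⁆) ∧
    (∀ (Y : Set G) (x : G), Y ⊆ ((S : Subgroup G) : Set G) →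
      (fun y => x * y * x⁻¹) '' Y ⊆ ((S : Subgroup G) : Set G) →
      ∃ g ∈ Subgroup.normalizer ((S : Subgroup G) : Set G), ∃ c ∈ Subgroup.centralizer Y,
        g * c = x) ∧
    ∀ Q : Subgroup G, IsPGroup p Q →
      ∃ x ∈ Subgroup.centralizer ((Q ⊓ (S : Subgroup G) : Subgroup G) : Set G),
        Q.map (MulAut.conj x).toMonoidHom ≤ (S : Subgroup G) :=
  ⟨part1 S (setup_of_plength hpl S), part2 S (setup_of_plength hpl S),
    part3 S (setup_of_plength hpl S)⟩

end Cfsg.Agent.Lib.Helper8.PLen1
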