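import Cfsg.Agent.Lib.Helper8.Quasi
import Cfsg.Agent.Lib.Helper8.Morph2
import Cfsg.Agent.Lib.Helper8.Central
import Cfsg.Agent.Lib.Helper8.Abelian2

set_option autoImplicit false

namespace Cfsg.Agent.Lib.Helper8.Quasi2

open Cfsg Cfsg.FusionSystem Cfsg.Agent.Lib.Helper8.Fusion Cfsg.Agent.Lib.Helper8.FactorSys
  Cfsg.Agent.Lib.Helper8.Sat Cfsg.Agent.Lib.Helper8.Sat2 Cfsg.Agent.Lib.Helper8.Morph
  Cfsg.Agent.Lib.Helper8.Morph2 Cfsg.Agent.Lib.Helper8.Quasi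

variable {Ω : Type*} [Group Ω] {S : Subgroup Ω}

theorem eq_self_of_isCentral (F : FusionSystem S) {Q : Subgroup Ω} (hQ : F.IsCentral Q)
    {P : Subgroup Ω} {φ : P →* Ω} (hφ : φ ∈ F.Hom P) (x : P) (hx : (x : Ω) ∈ Q) :
    φ x = x := by
  obtain ⟨ψ, -, h1, h2⟩ := hQ.2 P φ hφ
  have h3 : Subgroup.inclusion (le_sup_left : P ≤ P ⊔ Q) x =
      Subgroup.inclusion (le_sup_right : Q ≤ P ⊔ Q) ⟨x, hx⟩ := Subtype.ext rfl
  rw [← h1 x, h3, h2]

theorem cent1 {G : Type*} [Group G] {a z w : G} (hzw : z * w = w * z) :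
    (a * z) * w * (a * z)⁻¹ = a * w * a⁻¹ := by
  calc (a * z) * w * (a * z)⁻¹ = a * (z * w) * z⁻¹ * a⁻¹ := by group
    _ = a * (w * z) * z⁻¹ * a⁻¹ := by rw [hzw]
    _ = a * w * a⁻¹ := by group

theorem cent2 {G : Type*} [Group G] {a z w : G} (hza : z * a⁻¹ = a⁻¹ * z) :
    a * (w * z) * a⁻¹ = a * w * a⁻¹ * z := by
  calc a * (w * z) * a⁻¹ = a * w * (z * a⁻¹) := by group
    _ = a * w * (a⁻¹ * z) := by rw [hza]
    _ = a * w * a⁻¹ * z := by group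

theorem cent3 {G : Type*} [Group G] {a z₁ z₂ w : G} (h1 : z₁ * (w * z₂) = (w * z₂) * z₁)
    (h2 : z₂ * a⁻¹ = a⁻¹ * z₂) (h3 : (w⁻¹ * (a * w * a⁻¹)) * z₂ = z₂ * (w⁻¹ * (a * w * a⁻¹))) :
    (w * z₂)⁻¹ * (a * z₁) * (w * z₂) * (a * z₁)⁻¹ = w⁻¹ * a * w * a⁻¹ := by
  calc (w * z₂)⁻¹ * (a * z₁) * (w * z₂) * (a * z₁)⁻¹
      = (w * z₂)⁻¹ * ((a * z₁) * (w * z₂) * (a * z₁)⁻¹) := by group
    _ = (w * z₂)⁻¹ * (a * (w * z₂) * a⁻¹) := by rw [cent1 h1]
    _ = (w * z₂)⁻¹ * (a * w * a⁻¹ * z₂) := by rw [cent2 h2]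
    _ = z₂⁻¹ * ((w⁻¹ * (a * w * a⁻¹)) * z₂) := by group
    _ = z₂⁻¹ * (z₂ * (w⁻¹ * (a * w * a⁻¹))) := by rw [h3]
    _ = w⁻¹ * a * w * a⁻¹ := by group

variable {Ω' : Type*} [Group Ω'] {S' : Subgroup Ω'}

/-- Maps of `F` move preimages of central elements of `F/Z(F)` only by elements of `Z(F)`. -/
theorem theta_map_eq [Finite S] {p : ℕ} [Fact p.Prime] (hS : IsPGroup p S)
    (F : FusionSystem S) (hF : F.IsSaturated p) (θ : S →* Ω') (E : FusionSystem S')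
    (hE : F.IsFactorSystem F.center θ E) (P : Subgroup Ω) (φ : P →* Ω) (hφ : φ ∈ F.Hom P)
    (x : P) (hx : (x : Ω) ∈ S) (hxW : θ ⟨x, hx⟩ ∈ E.center) (hφx : φ x ∈ S) :
    θ ⟨φ x, hφx⟩ = θ ⟨x, hx⟩ := by
  have hZsc : F.StronglyClosed F.center := stronglyClosed_center F
  have hM := isMorphism_of_isFactorSystem hS F hF hZsc θ E hE
  have hfin' : Finite S' := finite_target θ hE.2.2.1
  have hEc : E.IsCentral E.center := isCentral_center E
  obtain ⟨P₀, hP₀⟩ : ∃ P₀ : Subgroup Ω, P₀ = Subgroup.zpowers (x : Ω) := ⟨_, rfl⟩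
  have hP₀P : P₀ ≤ P := by
    rw [hP₀, Subgroup.zpowers_le]
    exact x.2
  have hP₀S : P₀ ≤ S := hP₀P.trans (F.le_of_mem hφ).1
  have hφ₀ := restrict_mem F hP₀P hφ
  obtain ⟨φ', hφ', hind⟩ := hM.2 P₀ _ hφ₀
  have hxP₀ : (x : Ω) ∈ P₀ := by
    rw [hP₀]
    exact Subgroup.mem_zpowers _
  have h1 := induced_apply θ hind ⟨x, hxP₀⟩ hx (map_mem_image θ hP₀S ⟨x, hxP₀⟩) hφx
  have h2 := eq_self_of_isCentral E hEc hφ' ⟨θ ⟨x, hx⟩, map_mem_image θ hP₀S ⟨x, hxP₀⟩⟩ hxW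
  rw [h2] at h1
  exact h1.symm

theorem comm_invariant [Finite S] {p : ℕ} [Fact p.Prime] (hS : IsPGroup p S)
    (F : FusionSystem S) (hF : F.IsSaturated p) (θ : S →* Ω') (E : FusionSystem S')
    (hE : F.IsFactorSystem F.center θ E) (P : Subgroup Ω) (φ : P →* Ω) (hφ : φ ∈ F.Hom P)
    (x : P) (w : Ω) (hw : w ∈ S) (hwW : θ ⟨w, hw⟩ ∈ E.center) :
    w⁻¹ * φ x * w * (φ x)⁻¹ = w⁻¹ * x * w * (x : Ω)⁻¹ := by
  have hZc : F.IsCentral F.center := isCentral_center F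
  have hZsc : F.StronglyClosed F.center := stronglyClosed_center F
  have hM := isMorphism_of_isFactorSystem hS F hF hZsc θ E hE
  obtain ⟨hZS, hker, hr, hHom⟩ := id hE
  have hfin' : Finite S' := finite_target θ hr
  have hEc : E.IsCentral E.center := isCentral_center E
  have hZcent : F.center ≤ Subgroup.centralizer (S : Set Ω) := F.center_le_centralizer
  have hcomm : ∀ z ∈ F.center, ∀ s ∈ S, z * s = s * z := fun z hz s hs =>
    (Subgroup.mem_centralizer_iff.mp (hZcent hz) s hs).symm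
  have hPS : P ≤ S := (F.le_of_mem hφ).1
  have hφS := (F.le_of_mem hφ).2
  obtain ⟨φ', hφ', hind⟩ := hM.2 P φ hφ
  obtain ⟨χ', hχ', hχ'1, hχ'2⟩ := hEc.2 _ φ' hφ'
  obtain ⟨-, χ, hχ, hindχ⟩ := (hHom _ χ').1 hχ'
  have hχS := (F.le_of_mem hχ).2
  have hxR : (x : Ω) ∈ preimageAlong θ (imageAlong θ P ⊔ E.center) :=
    (mem_pre θ _ _).2 ⟨hPS x.2, Subgroup.mem_sup_left (map_mem_image θ hPS x)⟩
  have hwR : w ∈ preimageAlong θ (imageAlong θ P ⊔ E.center) :=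
    (mem_pre θ _ _).2 ⟨hw, Subgroup.mem_sup_right hwW⟩
  -- χ x ≡ φ x modulo the centre
  have h1 : θ ⟨χ ⟨x, hxR⟩, hχS _⟩ = θ ⟨φ x, hφS x⟩ := by
    have e1 := induced_apply θ hindχ ⟨x, hxR⟩ (hPS x.2)
      (Subgroup.mem_sup_left (map_mem_image θ hPS x)) (hχS _)
    have e2 := induced_apply θ hind x (hPS x.2) (map_mem_image θ hPS x) (hφS x)
    rw [← e1, ← e2, ← hχ'1 ⟨θ ⟨x, hPS x.2⟩, map_mem_image θ hPS x⟩]
    rfl
  have h2 : θ ⟨χ ⟨w, hwR⟩, hχS _⟩ = θ ⟨w, hw⟩ :=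
    theta_map_eq hS F hF θ E hE _ χ hχ ⟨w, hwR⟩ hw hwW (hχS _)
  obtain ⟨z₁, hz₁⟩ : ∃ z₁ : Ω, z₁ = (φ x)⁻¹ * χ ⟨x, hxR⟩ := ⟨_, rfl⟩
  obtain ⟨z₂, hz₂⟩ : ∃ z₂ : Ω, z₂ = w⁻¹ * χ ⟨w, hwR⟩ := ⟨_, rfl⟩
  have hz₁Z : z₁ ∈ F.center := by
    have h3 : θ (⟨φ x, hφS x⟩⁻¹ * ⟨χ ⟨x, hxR⟩, hχS _⟩) = 1 := by
      rw [map_mul, map_inv, h1, inv_mul_cancel]
    rw [hz₁]
    exact (hker _).1 h3
  have hz₂Z : z₂ ∈ F.center := by
    have h3 : θ (⟨w, hw⟩⁻¹ * ⟨χ ⟨w, hwR⟩, hχS _⟩) = 1 := by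
      rw [map_mul, map_inv, h2, inv_mul_cancel]
    rw [hz₂]
    exact (hker _).1 h3
  have hχx : χ ⟨x, hxR⟩ = φ x * z₁ := by rw [hz₁]; group
  have hχw : χ ⟨w, hwR⟩ = w * z₂ := by rw [hz₂]; group
  -- u = w⁻¹ x w x⁻¹ lies in the centre
  obtain ⟨u, hu⟩ : ∃ u : Ω, u = w⁻¹ * x * w * (x : Ω)⁻¹ := ⟨_, rfl⟩
  have huZ : u ∈ F.center := by
    have hxS : (x : Ω) ∈ S := hPS x.2
    have hc := theta_map_eq hS F hF θ E hE S (conjHom S x) (F.conj_mem le_rfl hxS) ⟨w, hw⟩ hw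
      hwW (S.mul_mem (S.mul_mem hxS hw) (S.inv_mem hxS))
    have h3 : θ (⟨w, hw⟩⁻¹ * ⟨(x : Ω) * w * (x : Ω)⁻¹,
        S.mul_mem (S.mul_mem hxS hw) (S.inv_mem hxS)⟩) = 1 := by
      rw [map_mul, map_inv]
      have hc' : θ ⟨(x : Ω) * w * (x : Ω)⁻¹,
        S.mul_mem (S.mul_mem hxS hw) (S.inv_mem hxS)⟩ = θ ⟨w, hw⟩ := hc
      rw [hc', inv_mul_cancel]
    have h4 := (hker _).1 h3
    have h5 : u = w⁻¹ * ((x : Ω) * w * (x : Ω)⁻¹) := by rw [hu]; group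
    rw [h5]
    exact h4
  have huR : u ∈ preimageAlong θ (imageAlong θ P ⊔ E.center) :=
    ker_le_pre θ hZS hker _ huZ
  have hχu : χ ⟨u, huR⟩ = u := eq_self_of_isCentral F hZc hχ ⟨u, huR⟩ huZ
  have huR' : (⟨u, huR⟩ : ↥(preimageAlong θ (imageAlong θ P ⊔ E.center))) =
      ⟨w, hwR⟩⁻¹ * ⟨x, hxR⟩ * ⟨w, hwR⟩ * ⟨x, hxR⟩⁻¹ := Subtype.ext hu
  rw [huR', map_mul, map_mul, map_mul, map_inv, map_inv, hχx, hχw] at hχu
  rw [← hu, ← hχu]
  have hwS' : w * z₂ ∈ S := S.mul_mem hw (hZS hz₂Z)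
  have hφxS : φ x ∈ S := hφS x
  symm
  apply cent3
  · exact hcomm z₁ hz₁Z _ hwS'
  · exact hcomm z₂ hz₂Z _ (S.inv_mem hφxS)
  · exact (hcomm z₂ hz₂Z _ (S.mul_mem (S.inv_mem hw)
      (S.mul_mem (S.mul_mem hφxS hw) (S.inv_mem hφxS)))).symm

theorem pre_center_le_centralizer [Finite S] {p : ℕ} [Fact p.Prime] (hS : IsPGroup p S)
    (F : FusionSystem S) (hF : F.IsSaturated p) (hperf : F.hyperfocalSubgroup p = S)
    (θ : S →* Ω') (E : FusionSystem S')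
    (hE : F.IsFactorSystem F.center θ E) (w : Ω) (hw : w ∈ S) (hwW : θ ⟨w, hw⟩ ∈ E.center) :
    w ∈ Subgroup.centralizer (S : Set Ω) := by
  have h1 : F.hyperfocalSubgroup p ≤ Subgroup.centralizer ({w} : Set Ω) := by
    rw [FusionSystem.hyperfocalSubgroup, Subgroup.closure_le]
    rintro y ⟨P, α, x, hPS, -, rfl⟩
    have hφ := (mem_autGroup_iff F hPS (α : MulAut P)).1 α.2
    have h2 := comm_invariant hS F hF θ E hE P _ hφ x w hw hwW
    rw [SetLike.mem_coe, Subgroup.mem_centralizer_iff]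
    intro h hh
    rw [Set.mem_singleton_iff] at hh
    subst hh
    obtain ⟨a, ha⟩ : ∃ a : Ω, a = (((α : MulAut P) x : P) : Ω) := ⟨_, rfl⟩
    have h3 : a * h * a⁻¹ = x * h * (x : Ω)⁻¹ := by
      have h2' : h⁻¹ * a * h * a⁻¹ = h⁻¹ * x * h * (x : Ω)⁻¹ := by rw [ha]; exact h2
      calc a * h * a⁻¹ = h * (h⁻¹ * a * h * a⁻¹) := by group
        _ = h * (h⁻¹ * x * h * (x : Ω)⁻¹) := by rw [h2']
        _ = x * h * (x : Ω)⁻¹ := by group
    rw [← ha]
    calc h * ((x : Ω)⁻¹ * a) = (x : Ω)⁻¹ * (x * h * (x : Ω)⁻¹) * a := by group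
      _ = (x : Ω)⁻¹ * (a * h * a⁻¹) * a := by rw [h3]
      _ = (x : Ω)⁻¹ * a * h := by group
  rw [hperf] at h1
  rw [Subgroup.mem_centralizer_iff]
  intro s hs
  have h2 := h1 hs
  rw [Subgroup.mem_centralizer_iff] at h2
  exact (h2 w rfl).symm

/-- If `F = O^p(F)` (hyperfocal subgroup all of `S`) then `F/Z(F)` has trivial centre. -/
theorem center_factor_eq_bot [Finite S] {p : ℕ} [Fact p.Prime] (hS : IsPGroup p S)
    (F : FusionSystem S) (hF : F.IsSaturated p) (hperf : F.hyperfocalSubgroup p = S)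
    (θ : S →* Ω') (E : FusionSystem S')
    (hE : F.IsFactorSystem F.center θ E) : E.center = ⊥ := by
  have hp : p.Prime := Fact.out
  have hZc : F.IsCentral F.center := isCentral_center F
  obtain ⟨hZS, hker, hr, hHom⟩ := id hE
  have hfin' : Finite S' := finite_target θ hr
  obtain ⟨W, hW⟩ : ∃ W : Subgroup Ω, W = preimageAlong θ E.center := ⟨_, rfl⟩
  have hWS : W ≤ S := hW ▸ pre_le θ _
  have hmemW : ∀ w, w ∈ W ↔ ∃ h : w ∈ S, θ ⟨w, h⟩ ∈ E.center := fun w => by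
    rw [hW]
    exact mem_pre θ _ w
  have hWcent : W ≤ Subgroup.centralizer (S : Set Ω) := by
    intro w hw
    obtain ⟨hwS, hwW⟩ := (hmemW w).1 hw
    exact pre_center_le_centralizer hS F hF hperf θ E hE w hwS hwW
  have hWsc : F.StronglyClosed W := by
    refine ⟨hWS, fun R hR φ hφ x => ?_⟩
    obtain ⟨hxS, hxW⟩ := (hmemW _).1 (hR x.2)
    have hφx := (F.le_of_mem hφ).2 x
    refine (hmemW _).2 ⟨hφx, ?_⟩
    rw [theta_map_eq hS F hF θ E hE R φ hφ x hxS hxW hφx]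
    exact hxW
  have hWcomm : IsMulCommutative W :=
    ⟨⟨fun a b => Subtype.ext (Subgroup.mem_centralizer_iff.mp (hWcent b.2) a (hWS a.2))⟩⟩
  have hWn : F.IsNormal W := Chain2.isNormal_of_abelian_stronglyClosed hS F hF hWcomm hWsc
  have hCW : FusionSystem.centralizerIn S W = S := by
    apply le_antisymm inf_le_left
    intro s hs
    refine ⟨hs, ?_⟩
    show s ∈ Subgroup.centralizer (W : Set Ω)
    rw [Subgroup.mem_centralizer_iff]
    intro w hw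
    exact (Subgroup.mem_centralizer_iff.mp (hWcent hw) s hs).symm
  have hWfc : F.IsFullyCentralized W := by
    refine ⟨hWS, fun Q _ => ?_⟩
    rw [hCW]
    exact Subgroup.card_le_of_le inf_le_left
  have hWrec := isReceptive_of_isFullyCentralized hS F hF hWfc
  have hfixA : ∀ σ : MulAut S, σ ∈ F.autGroup S → ∀ w : S, θ w ∈ E.center → σ w = w := by
    obtain ⟨-, R₀, hR₀⟩ := ((isSaturated_iff' hS F).1 hF).1
    have hres : ∀ τ : F.autGroup S, τ ∈ pResidual p (F.autGroup S) →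
        ∀ w : S, θ w ∈ E.center → (τ : MulAut S) w = w := by
      obtain ⟨K, hK⟩ : ∃ K : Subgroup (F.autGroup S),
          ∀ τ, τ ∈ K ↔ ∀ w : S, θ w ∈ E.center → (τ : MulAut S) w = w :=
        ⟨{ carrier := {τ | ∀ w : S, θ w ∈ E.center → (τ : MulAut S) w = w}
           one_mem' := fun w _ => rfl
           mul_mem' := fun {a b} ha hb w hw => by
             show (a : MulAut S) ((b : MulAut S) w) = w
             rw [hb w hw, ha w hw]
           inv_mem' := fun {a} ha w hw => by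
             show (a : MulAut S)⁻¹ w = w
             conv_lhs => rw [← ha w hw]
             exact MulAut.inv_apply_self _ _ _ }, fun τ => Iff.rfl⟩
      have hle : pResidual p (F.autGroup S) ≤ K := by
        rw [pResidual, Subgroup.closure_le]
        intro τ hτ
        rw [SetLike.mem_coe, hK]
        intro w hw
        have hτF := (mem_autGroup_iff F le_rfl (τ : MulAut S)).1 τ.2
        obtain ⟨z, hz⟩ : ∃ z : S, z = w⁻¹ * (τ : MulAut S) w := ⟨_, rfl⟩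
        have hzZ : (z : Ω) ∈ F.center := by
          have h1 := theta_map_eq hS F hF θ E hE S _ hτF w w.2 hw ((τ : MulAut S) w).2
          have h2 : θ (w⁻¹ * (τ : MulAut S) w) = 1 := by
            rw [map_mul, map_inv]
            have h1' : θ ((τ : MulAut S) w) = θ w := h1
            rw [h1', inv_mul_cancel]
          rw [hz]
          exact (hker _).1 h2
        have hτz : (τ : MulAut S) z = z :=
          Subtype.ext (eq_self_of_isCentral F hZc hτF z hzZ)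
        have hτw : (τ : MulAut S) w = w * z := by rw [hz]; group
        have hpow : ∀ k : ℕ, ((τ ^ k : F.autGroup S) : MulAut S) w = w * z ^ k := by
          intro k
          induction k with
          | zero => simp
          | succ k ih =>
            rw [pow_succ', Subgroup.coe_mul, MulAut.mul_apply, ih, map_mul, map_pow, hτz, hτw,
              pow_succ', mul_assoc]
        have h3 : z ^ orderOf τ = 1 := by
          have h4 := hpow (orderOf τ)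
          rw [pow_orderOf_eq_one] at h4
          have h5 : w = w * z ^ orderOf τ := h4
          exact (mul_eq_left.mp h5.symm)
        obtain ⟨a, ha⟩ := hS z
        have hcop : Nat.Coprime (orderOf τ) (p ^ a) := Nat.Coprime.pow_right a hτ
        have hz1 : z = 1 := by
          have h4 : orderOf z ∣ orderOf τ := orderOf_dvd_of_pow_eq_one h3
          have h5 : orderOf z ∣ p ^ a := orderOf_dvd_of_pow_eq_one ha
          have h6 : orderOf z = 1 := Nat.eq_one_of_dvd_coprimes hcop h4 h5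
          exact orderOf_eq_one_iff.1 h6
        rw [hτw, hz1, mul_one]
      intro τ hτ
      exact (hK τ).1 (hle hτ)
    intro σ hσ w hw
    have hfinS : Finite (F.autGroup S) := inferInstance
    obtain ⟨β, hβ, γ, hγ, hσβγ⟩ := Focal.exists_mul_of_sylow R₀ (⟨σ, hσ⟩ : F.autGroup S)
    have hγ' : (γ : MulAut S) ∈ autInducedBy S S := by
      have h1 : γ ∈ (R₀ : Subgroup (F.autGroup S)) := hγ
      rw [hR₀] at h1
      exact h1
    obtain ⟨g, hgS, hg⟩ := mem_autInducedBy_iff.mp hγ'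
    have hwW : (w : Ω) ∈ W := (hmemW _).2 ⟨w.2, hw⟩
    have hγw : (γ : MulAut S) w = w := by
      apply Subtype.ext
      rw [hg]
      exact Abelian.conj_eq_self_of_comm (Subgroup.mem_centralizer_iff.mp (hWcent hwW) g hgS)
    have h1 : σ = (β : MulAut S) * (γ : MulAut S) := congrArg Subtype.val hσβγ
    rw [h1, MulAut.mul_apply, hγw]
    exact hres β hβ w hw
  have hWcentral : F.IsCentral W := by
    rw [Central.isCentral_iff hS F hF]
    refine ⟨hWS, ?_⟩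
    rintro x hx y ⟨φ, hφ, rfl⟩
    obtain ⟨ψ, hψ, hψφ, hψW⟩ := hWn.2 _ φ hφ
    have hψ_W := restrict_mem F (le_sup_right : W ≤ Subgroup.zpowers x ⊔ W) hψ
    have hrange : (ψ.comp (Subgroup.inclusion
        (le_sup_right : W ≤ Subgroup.zpowers x ⊔ W))).range = W := by
      rw [MonoidHom.range_comp, Subgroup.inclusion_range]
      exact hψW
    obtain ⟨ψb, hψb, hext⟩ := hWrec.2 W _ hψ_W hrange
    have hSext : S ≤ FusionSystem.extender S W
        (ψ.comp (Subgroup.inclusion (le_sup_right : W ≤ Subgroup.zpowers x ⊔ W))) := by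
      have h0 := centralizerIn_le_extender (S := S) W
        (ψ.comp (Subgroup.inclusion (le_sup_right : W ≤ Subgroup.zpowers x ⊔ W)))
      rwa [hCW] at h0
    have hσ₀ := restrict_mem F hSext hψb
    have hrangeσ := range_eq_of_forall_mem F hσ₀ (F.le_of_mem hσ₀).2
    obtain ⟨σ, hσdef⟩ : ∃ σ : MulAut S, σ = isoOfHom _ (F.injective_of_mem hσ₀) hrangeσ :=
      ⟨_, rfl⟩
    have hσx : ∀ s : S, ((σ s : S) : Ω) = ψb ⟨s, hSext s.2⟩ := fun s => by
      rw [hσdef, isoOfHom_coe]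
      rfl
    have hσA : σ ∈ F.autGroup S := by
      rw [mem_autGroup_iff F le_rfl]
      exact hom_congr F hσ₀ (fun s => hσx s)
    obtain ⟨hxS, hxW⟩ := (hmemW x).1 hx
    have h1 := hfixA σ hσA ⟨x, hxS⟩ hxW
    have h2 : ψb ⟨x, hSext hxS⟩ = x := by
      rw [← hσx ⟨x, hxS⟩, h1]
    have h3 := hext x hx (hSext hxS)
    rw [h3] at h2
    rw [← hψφ ⟨x, Subgroup.mem_zpowers x⟩]
    have h4 : Subgroup.inclusion (le_sup_left : Subgroup.zpowers x ≤ Subgroup.zpowers x ⊔ W)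
        ⟨x, Subgroup.mem_zpowers x⟩ =
        Subgroup.inclusion (le_sup_right : W ≤ Subgroup.zpowers x ⊔ W) ⟨x, hx⟩ :=
      Subtype.ext rfl
    rw [h4]
    exact h2
  have hWle : W ≤ F.center := le_sSup hWcentral
  rw [eq_bot_iff]
  intro c hc
  have hcS' : c ∈ S' := (sSup_le (fun Q hQ => hQ.1) : E.center ≤ S') hc
  rw [← hr] at hcS'
  obtain ⟨s, rfl⟩ := hcS'
  have hsW : (s : Ω) ∈ W := (hmemW _).2 ⟨s.2, hc⟩
  rw [Subgroup.mem_bot]
  exact (hker s).2 (hWle hsW)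

end Cfsg.Agent.Lib.Helper8.Quasi2
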