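import Cfsg.Agent.Lib.Helper8.StrongInv
import Cfsg.Agent.Lib.Helper8.Transport
import Cfsg.Agent.Lib.Helper8.Normal2
import Cfsg.Agent.Lib.Helper8.Centric
import Cfsg.Agent.Lib.Helper8.Morph3
import Cfsg.Agent.Lib.Helper8.Essential

set_option autoImplicit false

namespace Cfsg.Agent.Lib.Helper8.Realize

open Cfsg Cfsg.FusionSystem Cfsg.Agent.Lib.Helper8.Fusion Cfsg.Agent.Lib.Helper8.FactorSys
  Cfsg.Agent.Lib.Helper8.Sat Cfsg.Agent.Lib.Helper8.Sat2 Cfsg.Agent.Lib.Helper8.Alperin2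
  Cfsg.Agent.Lib.Helper8.GroupSub Cfsg.Agent.Lib.Helper8.Morph Cfsg.Agent.Lib.Helper8.Hyp2
  Cfsg.Agent.Lib.Helper8.StrongInv Cfsg.Agent.Lib.Helper8.Transport
  Cfsg.Agent.Lib.Helper8.Normal2 Cfsg.Agent.Lib.Helper8.Centric
  Cfsg.Agent.Lib.Helper8.GroupFusion

variable {Ω : Type*} [Group Ω] {S : Subgroup Ω} {G : Type*} [Group G]

/-- The elements of `S` whose image under `ι` lies in `N`. -/
def preSub (ι : S →* G) (N : Subgroup G) : Subgroup Ω := (N.comap ι).map S.subtype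

theorem mem_preSub {ι : S →* G} {N : Subgroup G} {x : Ω} :
    x ∈ preSub ι N ↔ ∃ hx : x ∈ S, ι ⟨x, hx⟩ ∈ N := by
  constructor
  · rintro ⟨s, hs, rfl⟩
    exact ⟨s.2, hs⟩
  · rintro ⟨hx, h⟩
    exact ⟨⟨x, hx⟩, h, rfl⟩

theorem preSub_le (ι : S →* G) (N : Subgroup G) : preSub ι N ≤ S :=
  fun _ hx => (mem_preSub.1 hx).1

theorem map_mem_of_mem_preSub {ι : S →* G} {N : Subgroup G} {x : Ω} (hx : x ∈ preSub ι N) :
    ι ⟨x, preSub_le ι N hx⟩ ∈ N := (mem_preSub.1 hx).2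

/-- The maps induced by conjugation with elements of `N`. -/
def subSet (ι : S →* G) (N : Subgroup G) (P : Subgroup Ω) : Set (P →* Ω) :=
  {φ | ∃ (hP : P ≤ preSub ι N) (hφ : ∀ x : P, φ x ∈ preSub ι N), ∃ n ∈ N, ∀ x : P,
      ι ⟨φ x, preSub_le ι N (hφ x)⟩ = n * ι ⟨x, preSub_le ι N (hP x.2)⟩ * n⁻¹}

theorem subSet_le (F : FusionSystem S) {ι : S →* G} (hι : F.IsRealizedBy ι) (N : Subgroup G)
    {P : Subgroup Ω} {φ : P →* Ω} (hφ : φ ∈ subSet ι N P) : φ ∈ F.Hom P := by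
  obtain ⟨hP, hφT, n, -, hn⟩ := hφ
  exact (hι.2 P (hP.trans (preSub_le ι N)) φ (fun x => preSub_le ι N (hφT x))).2 ⟨n, hn⟩

/-- The subsystem of `F` induced by the subgroup `N` of a realizing group. -/
def subSystem (F : FusionSystem S) {ι : S →* G} (hι : F.IsRealizedBy ι) (N : Subgroup G) :
    FusionSystem (preSub ι N) where
  Hom P := subSet ι N P
  le_of_mem := fun ⟨hP, hφ, _⟩ => ⟨hP, hφ⟩
  injective_of_mem := fun h => F.injective_of_mem (subSet_le F hι N h)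
  conj_mem := by
    intro P g hP hg
    refine ⟨hP, fun x => (preSub ι N).mul_mem ((preSub ι N).mul_mem hg (hP x.2))
      ((preSub ι N).inv_mem hg), ι ⟨g, preSub_le ι N hg⟩, map_mem_of_mem_preSub hg, fun x => ?_⟩
    rw [← map_inv, ← map_mul, ← map_mul]
    rfl
  comp_mem := by
    rintro P Q φ ψ ⟨hP, hφT, n₁, hn₁, h₁⟩ ⟨hQ, hψT, n₂, hn₂, h₂⟩ h
    refine ⟨hP, fun x => hψT _, n₂ * n₁, N.mul_mem hn₂ hn₁, fun x => ?_⟩
    have e1 := h₂ ⟨φ x, h x⟩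
    have e2 := h₁ x
    show ι ⟨ψ ⟨φ x, h x⟩, _⟩ = _
    rw [e1]
    show n₂ * ι ⟨φ x, _⟩ * n₂⁻¹ = _
    rw [e2]
    group
  inv_mem := by
    rintro P φ hφ
    have hφF := subSet_le F hι N hφ
    obtain ⟨hP, hφT, n, hn, h₁⟩ := hφ
    obtain ⟨ψ, hψ, hψinv⟩ := F.inv_mem hφF
    have hψT : ∀ y : φ.range, ψ y ∈ preSub ι N := by
      rintro ⟨_, x, rfl⟩
      rw [hψinv]
      exact hP x.2
    refine ⟨ψ, ⟨?_, hψT, n⁻¹, N.inv_mem hn, ?_⟩, hψinv⟩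
    · rintro _ ⟨x, rfl⟩
      exact hφT x
    · rintro ⟨_, x, rfl⟩
      have e : (⟨ψ ⟨φ x, ⟨x, rfl⟩⟩, preSub_le ι N (hψT _)⟩ : S) =
          ⟨x, preSub_le ι N (hP x.2)⟩ := Subtype.ext (hψinv x)
      rw [e]
      show _ = n⁻¹ * ι ⟨φ x, _⟩ * n⁻¹⁻¹
      rw [h₁ x]
      group

theorem isSaturated_subSystem [Finite S] {p : ℕ} [Fact p.Prime] (hS : IsPGroup p S)
    (F : FusionSystem S) {ι : S →* G} (hι : F.IsRealizedBy ι) [Finite G] (P : Sylow p G)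
    (hP : (P : Subgroup G) = ι.range) (N : Subgroup G) [hN : N.Normal] :
    (subSystem F hι N).IsSaturated p := by
  have hTS := preSub_le ι N
  have hTp : IsPGroup p (preSub ι N) := hS.to_le hTS
  have hfin : Finite (preSub ι N) := finite_of_le hTS
  obtain ⟨ιT, hιT⟩ : ∃ ιT : ↥(preSub ι N) →* ↥N, ∀ x, ((ιT x : N) : G) = ι ⟨x, hTS x.2⟩ :=
    ⟨(ι.comp (Subgroup.inclusion hTS)).codRestrict N (fun x => map_mem_of_mem_preSub x.2),
      fun x => rfl⟩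
  have hreal : (subSystem F hι N).IsRealizedBy ιT := by
    refine ⟨fun a b hab => ?_, fun Q hQ φ hφ => ?_⟩
    · have h1 : ι ⟨a, hTS a.2⟩ = ι ⟨b, hTS b.2⟩ := by rw [← hιT, ← hιT, hab]
      have h2 := hι.1 h1
      exact Subtype.ext (congrArg (fun s : S => (s : Ω)) h2)
    · constructor
      · rintro ⟨hQ', hφ', n, hn, h⟩
        refine ⟨⟨n, hn⟩, fun x => Subtype.ext ?_⟩
        show ((ιT ⟨φ x, hφ x⟩ : N) : G) = n * ((ιT ⟨x, hQ x.2⟩ : N) : G) * n⁻¹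
        rw [hιT, hιT]
        exact h x
      · rintro ⟨g, hg⟩
        refine ⟨hQ, hφ, g, g.2, fun x => ?_⟩
        have h1 : ((ιT ⟨φ x, hφ x⟩ : N) : G) = (g : G) * ((ιT ⟨x, hQ x.2⟩ : N) : G) * (g : G)⁻¹ :=
          congrArg (fun z : N => (z : G)) (hg x)
        rw [hιT, hιT] at h1
        exact h1
  obtain ⟨R, hR⟩ := sylow_inf_of_normal P N
  refine isSaturated_of_isRealizedBy hTp _ ιT hreal R ?_
  rw [hR, hP]
  ext y
  rw [Subgroup.mem_subgroupOf]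
  constructor
  · rintro ⟨⟨s, hs⟩, hyN⟩
    have hsT : (s : Ω) ∈ preSub ι N := mem_preSub.2 ⟨s.2, by
      have h1 : (⟨(s : Ω), s.2⟩ : S) = s := rfl
      rw [h1, hs]
      exact hyN⟩
    refine ⟨⟨s, hsT⟩, Subtype.ext ?_⟩
    rw [hιT]
    exact hs
  · rintro ⟨x, rfl⟩
    exact ⟨⟨⟨x, hTS x.2⟩, (hιT x).symm⟩, (ιT x).2⟩

theorem subSystem_isSubsystemOf (F : FusionSystem S) {ι : S →* G} (hι : F.IsRealizedBy ι)
    (N : Subgroup G) : (subSystem F hι N).IsSubsystemOf F :=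
  fun _ _ hφ => subSet_le F hι N hφ

theorem stronglyClosed_preSub (F : FusionSystem S) {ι : S →* G} (hι : F.IsRealizedBy ι)
    (N : Subgroup G) [hN : N.Normal] : F.StronglyClosed (preSub ι N) := by
  refine ⟨preSub_le ι N, ?_⟩
  intro R hR φ hφ x
  have hRS : R ≤ S := (F.le_of_mem hφ).1
  have hφS := (F.le_of_mem hφ).2
  obtain ⟨g, hg⟩ := (hι.2 R hRS φ hφS).1 hφ
  refine mem_preSub.2 ⟨hφS x, ?_⟩
  rw [hg x]
  exact hN.conj_mem _ (map_mem_of_mem_preSub (hR x.2)) g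

theorem si_subSystem (F : FusionSystem S) {ι : S →* G} (hι : F.IsRealizedBy ι)
    (N : Subgroup G) [hN : N.Normal] : SI F (subSystem F hι N) := by
  intro P Q hPQ hQT φ hφ hφQ ψ hψ
  have hsc := stronglyClosed_preSub F hι N
  have hTS := preSub_le ι N
  have hQS : Q ≤ S := hQT.trans hTS
  have hψS := (F.le_of_mem hψ).2
  have hψT : ∀ y : Q, ψ y ∈ preSub ι N := fun y => hsc.2 Q hQT ψ hψ y
  obtain ⟨χ, hχ, hχeq⟩ := conjMap F hPQ (subSet_le F hι N hφ) hφQ hψ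
  obtain ⟨g, hg⟩ := (hι.2 Q hQS ψ hψS).1 hψ
  obtain ⟨hP, hφT, n, hn, hnφ⟩ := hφ
  have hsrc : (P.subgroupOf Q).map ψ ≤ preSub ι N := by
    rintro _ ⟨w, -, rfl⟩
    exact hψT w
  have hrep : ∀ y : ↥((P.subgroupOf Q).map ψ), ∃ x : P, ∃ hx : ψ (Subgroup.inclusion hPQ x) ∈
      (P.subgroupOf Q).map ψ, y = ⟨ψ (Subgroup.inclusion hPQ x), hx⟩ := by
    rintro ⟨_, w, hw, rfl⟩
    exact ⟨⟨w, Subgroup.mem_subgroupOf.1 hw⟩, ⟨w, hw, rfl⟩, rfl⟩
  have hval : ∀ y, χ y ∈ preSub ι N := by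
    intro y
    obtain ⟨x, hx, rfl⟩ := hrep y
    rw [hχeq x hx]
    exact hψT _
  refine ⟨χ, ⟨hsrc, hval, g * n * g⁻¹, hN.conj_mem n hn g, fun y => ?_⟩, hχeq⟩
  obtain ⟨x, hx, rfl⟩ := hrep y
  have e1 : (⟨χ ⟨ψ (Subgroup.inclusion hPQ x), hx⟩, preSub_le ι N (hval _)⟩ : S) =
      ⟨ψ ⟨φ x, hφQ x⟩, hψS _⟩ := Subtype.ext (hχeq x hx)
  rw [e1, hg ⟨φ x, hφQ x⟩]
  have e2 := hg (Subgroup.inclusion hPQ x)
  have e3 := hnφ x
  show g * ι ⟨φ x, _⟩ * g⁻¹ = g * n * g⁻¹ * ι ⟨ψ (Subgroup.inclusion hPQ x), _⟩ * (g * n * g⁻¹)⁻¹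
  rw [e2, e3]
  show _ = g * n * g⁻¹ * (g * ι ⟨x, _⟩ * g⁻¹) * (g * n * g⁻¹)⁻¹
  group

/-- For a normal subgroup `H`, an element of `H` normalizing `T = S ∩ H` can be corrected by an
element of `C_H(T)` so as to normalize `C_S(T)`. -/
theorem exists_mul_mem_normalizer {G : Type*} [Group G] [Finite G] {p : ℕ} [Fact p.Prime]
    (S : Sylow p G) (H : Subgroup G) [hHn : H.Normal] (T : Subgroup G)
    (hT : T = (S : Subgroup G) ⊓ H) {h : G} (hhH : h ∈ H)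
    (hhN : h ∈ Subgroup.normalizer (T : Set G)) :
    ∃ c, c ∈ Subgroup.centralizer (T : Set G) ∧ c ∈ H ∧
      c * h ∈ Subgroup.normalizer
        ((FusionSystem.centralizerIn (S : Subgroup G) T : Subgroup G) : Set G) := by
  have hTS : T ≤ (S : Subgroup G) := hT ▸ inf_le_left
  have hTH : T ≤ H := hT ▸ inf_le_right
  have hmemT : ∀ x, x ∈ T ↔ x ∈ (S : Subgroup G) ∧ x ∈ H := fun x => by
    rw [hT]
    exact Subgroup.mem_inf
  have hTp : IsPGroup p T := S.isPGroup'.to_le hTS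
  obtain ⟨D, hD⟩ : ∃ D : Subgroup G, D = FusionSystem.centralizerIn (S : Subgroup G) T :=
    ⟨_, rfl⟩
  obtain ⟨C₀, hC₀⟩ : ∃ C₀ : Subgroup G, C₀ = Subgroup.centralizer (T : Set G) ⊓ H := ⟨_, rfl⟩
  have hmemD : ∀ x, x ∈ D ↔ x ∈ (S : Subgroup G) ∧ x ∈ Subgroup.centralizer (T : Set G) :=
    fun x => by
      rw [hD]
      exact Subgroup.mem_inf
  have hmemC : ∀ x, x ∈ C₀ ↔ x ∈ Subgroup.centralizer (T : Set G) ∧ x ∈ H := fun x => by
    rw [hC₀]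
    exact Subgroup.mem_inf
  have hDS : D ≤ (S : Subgroup G) := by
    rw [hD]
    exact inf_le_left
  have hDp : IsPGroup p D := S.isPGroup'.to_le hDS
  have hNC := normalizer_le_normalizer_centralizer T
  have hconjC : ∀ n ∈ Subgroup.normalizer (T : Set G),
      ∀ c ∈ Subgroup.centralizer (T : Set G), n * c * n⁻¹ ∈ Subgroup.centralizer (T : Set G) :=
    fun n hn c hc => (Subgroup.mem_normalizer_iff.mp (hNC hn) c).mp hc
  have hCN : Subgroup.centralizer (T : Set G) ≤ Subgroup.normalizer (T : Set G) :=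
    Subgroup.centralizer_le_normalizer (T : Set G)
  have hDC : D ≤ Subgroup.normalizer (C₀ : Set G) := by
    intro d hd
    have hdC := ((hmemD d).mp hd).2
    apply mem_normalizer_of_conj_mem
    · intro c hc
      rw [hmemC] at hc ⊢
      exact ⟨hconjC d (hCN hdC) c hc.1, hHn.conj_mem c hc.2 d⟩
    · intro c hc
      rw [hmemC] at hc ⊢
      refine ⟨?_, ?_⟩
      · have h1 := hconjC d⁻¹ (Subgroup.inv_mem _ (hCN hdC)) c hc.1
        rw [inv_inv] at h1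
        exact h1
      · have h1 := hHn.conj_mem c hc.2 d⁻¹
        rw [inv_inv] at h1
        exact h1
  obtain ⟨X, hX⟩ : ∃ X : Subgroup G, X = D ⊔ C₀ := ⟨_, rfl⟩
  have hmemX : ∀ x, x ∈ X ↔ ∃ d ∈ D, ∃ c ∈ C₀, d * c = x := by
    intro x
    have h1 : x ∈ X ↔ x ∈ ((D ⊔ C₀ : Subgroup G) : Set G) := by
      rw [hX]
      rfl
    rw [h1, Subgroup.coe_mul_of_left_le_normalizer_right D C₀ hDC, Set.mem_mul]
    rfl
  have hDX : D ≤ X := by
    rw [hX]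
    exact le_sup_left
  obtain ⟨P₁, hP₁⟩ := (hDp.comap_subtype (K := X)).exists_le_sylow
  have hL2 : ∀ c ∈ C₀, ∀ k : ℕ, c ^ p ^ k = 1 → c ∈ T := by
    intro c hc k hk
    have hcC := ((hmemC c).mp hc).1
    have hcH := ((hmemC c).mp hc).2
    have hzp : IsPGroup p (Subgroup.zpowers c) := isPGroup_zpowers_of_pow_eq_one hk
    have hzN : Subgroup.zpowers c ≤ Subgroup.normalizer (T : Set G) :=
      (Subgroup.zpowers_le).mpr (hCN hcC)
    have hKp : IsPGroup p ↥(Subgroup.zpowers c ⊔ T) := hzp.to_sup_of_normal_right' hTp hzN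
    have hKH : Subgroup.zpowers c ⊔ T ≤ H := sup_le ((Subgroup.zpowers_le).mpr hcH) hTH
    have hcard := card_le_card_inf_of_normal S H hKH hKp
    rw [← hT] at hcard
    have heq : T = Subgroup.zpowers c ⊔ T := Subgroup.eq_of_le_of_card_ge le_sup_right hcard
    rw [heq]
    exact Subgroup.mem_sup_left (Subgroup.mem_zpowers c)
  have hP₁D : ∀ x : X, x ∈ (P₁ : Subgroup X) → (x : G) ∈ D := by
    intro x hx
    obtain ⟨d, hd, c, hc, hdc⟩ := (hmemX x).mp x.2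
    have hdX : (⟨d, hDX hd⟩ : X) ∈ (P₁ : Subgroup X) := hP₁ hd
    have hcX : c ∈ X := by
      rw [hX]
      exact Subgroup.mem_sup_right hc
    have hcP : (⟨c, hcX⟩ : X) ∈ (P₁ : Subgroup X) := by
      have h1 : (⟨c, hcX⟩ : X) = ⟨d, hDX hd⟩⁻¹ * x := by
        apply Subtype.ext
        show c = d⁻¹ * (x : G)
        rw [← hdc]
        group
      rw [h1]
      exact Subgroup.mul_mem _ (Subgroup.inv_mem _ hdX) hx
    obtain ⟨k, hk⟩ := P₁.isPGroup' ⟨⟨c, hcX⟩, hcP⟩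
    have hk' : c ^ p ^ k = 1 := by
      have h1 := congrArg (fun z : (P₁ : Subgroup X) => ((z : X) : G)) hk
      simpa using h1
    have hcT := hL2 c hc k hk'
    have hcD : c ∈ D := (hmemD c).mpr ⟨hTS hcT, ((hmemC c).mp hc).1⟩
    rw [← hdc]
    exact D.mul_mem hd hcD
  have hD₁X : D.map (MulAut.conj h).toMonoidHom ≤ X := by
    rintro _ ⟨d, hd, rfl⟩
    have hdC := ((hmemD d).mp hd).2
    rw [hmemX]
    refine ⟨d, hd, d⁻¹ * (h * d * h⁻¹), (hmemC _).mpr ⟨?_, ?_⟩, ?_⟩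
    · exact Subgroup.mul_mem _ (Subgroup.inv_mem _ hdC) (hconjC h hhN d hdC)
    · have h1 : d⁻¹ * (h * d * h⁻¹) = (d⁻¹ * h * d⁻¹⁻¹) * h⁻¹ := by group
      rw [h1]
      exact H.mul_mem (hHn.conj_mem h hhH d⁻¹) (H.inv_mem hhH)
    · show d * (d⁻¹ * (h * d * h⁻¹)) = h * d * h⁻¹
      group
  obtain ⟨m, hm⟩ := exists_conj_le_sylow P₁
    (T := (D.map (MulAut.conj h).toMonoidHom).subgroupOf X) ((hDp.map _).comap_subtype)
  obtain ⟨d₀, hd₀, c, hc, hdc⟩ := (hmemX m).mp m.2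
  have hnD : D.map (MulAut.conj (c * h)).toMonoidHom ≤ D := by
    rintro _ ⟨d, hd, rfl⟩
    have h1 : (MulAut.conj m).toMonoidHom (⟨h * d * h⁻¹, hD₁X ⟨d, hd, rfl⟩⟩ : X) ∈
        (P₁ : Subgroup X) :=
      hm ⟨_, Subgroup.mem_subgroupOf.mpr ⟨d, hd, rfl⟩, rfl⟩
    have h3 : (m : G) * (h * d * h⁻¹) * (m : G)⁻¹ ∈ D := hP₁D _ h1
    rw [← hdc] at h3
    have h4 : (MulAut.conj (c * h)).toMonoidHom d =
        d₀⁻¹ * (d₀ * c * (h * d * h⁻¹) * (d₀ * c)⁻¹) * d₀ := by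
      show c * h * d * (c * h)⁻¹ = _
      group
    rw [h4]
    exact D.mul_mem (D.mul_mem (D.inv_mem hd₀) h3) hd₀
  have hnND : c * h ∈ Subgroup.normalizer (D : Set G) :=
    mem_normalizer_of_map_conj_eq (Subgroup.eq_of_le_of_card_ge hnD (by rw [card_map_conj]))
  subst hD
  exact ⟨c, ((hmemC c).mp hc).1, ((hmemC c).mp hc).2, hnND⟩

/-- The subsystem induced by a normal subgroup of a realizing group is normal. -/
theorem isNormalIn_subSystem [Finite S] {p : ℕ} [Fact p.Prime] (hS : IsPGroup p S)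
    (F : FusionSystem S) (hF : F.IsSaturated p) {ι : S →* G} (hι : F.IsRealizedBy ι) [Finite G]
    (P : Sylow p G) (hP : (P : Subgroup G) = ι.range) (N : Subgroup G) [hN : N.Normal] :
    (subSystem F hι N).IsNormalIn F p := by
  have hTS := preSub_le ι N
  have hsc := stronglyClosed_preSub F hι N
  have hsub := subSystem_isSubsystemOf F hι N
  have hinv : (subSystem F hι N).IsInvariantIn F :=
    (isInvariantIn_iff hS F hF _ hsub hsc).2 (si_subSystem F hι N)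
  refine ⟨⟨isSaturated_subSystem hS F hι P hP N, hF, hinv⟩, ?_⟩
  intro α hα
  have hα' := (mem_autGroup_iff (subSystem F hι N) le_rfl α).1 hα
  obtain ⟨hP', hφ', n, hn, hnα0⟩ := hα'
  have hnα : ∀ x : ↥(preSub ι N), ι ⟨((α x : ↥(preSub ι N)) : Ω), hTS (α x).2⟩ =
      n * ι ⟨x, hTS x.2⟩ * n⁻¹ := hnα0
  -- the image of `T` in `G`
  obtain ⟨TG, hTG⟩ : ∃ TG : Subgroup G, TG = (P : Subgroup G) ⊓ N := ⟨_, rfl⟩
  have hmemTG : ∀ y, y ∈ TG ↔ ∃ x : ↥(preSub ι N), ι ⟨x, hTS x.2⟩ = y := by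
    intro y
    rw [hTG, hP]
    constructor
    · rintro ⟨⟨s, rfl⟩, hyN⟩
      exact ⟨⟨s, mem_preSub.2 ⟨s.2, hyN⟩⟩, rfl⟩
    · rintro ⟨x, rfl⟩
      exact ⟨⟨_, rfl⟩, map_mem_of_mem_preSub x.2⟩
  have hnNT : n ∈ Subgroup.normalizer (TG : Set G) := by
    apply Cfsg.Agent.Lib.Helper8.Morph3.mem_normalizer_of_conj_mem_finite
    intro y hy
    obtain ⟨x, rfl⟩ := (hmemTG y).1 hy
    rw [← hnα x]
    exact (hmemTG _).2 ⟨α x, rfl⟩
  obtain ⟨c, hcC, hcN, hcn⟩ := exists_mul_mem_normalizer P N TG hTG hn hnNT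
  obtain ⟨CS, hCS⟩ : ∃ CS : Subgroup Ω, CS = FusionSystem.centralizerIn S (preSub ι N) :=
    ⟨_, rfl⟩
  have hCSS : CS ≤ S := hCS ▸ inf_le_left
  have hCScent : ∀ d ∈ CS, d ∈ Subgroup.centralizer ((preSub ι N : Subgroup Ω) : Set Ω) :=
    fun d hd => by
      rw [hCS] at hd
      exact hd.2
  have hmemDG : ∀ y, y ∈ FusionSystem.centralizerIn (P : Subgroup G) TG ↔
      ∃ d : Ω, ∃ hd : d ∈ CS, ι ⟨d, hCSS hd⟩ = y := by
    intro y
    constructor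
    · rintro ⟨hyP, hyC⟩
      have hyP' : y ∈ ι.range := hP ▸ hyP
      obtain ⟨s, rfl⟩ := hyP'
      have hsC : (s : Ω) ∈ CS := by
        rw [hCS]
        refine ⟨s.2, Subgroup.mem_centralizer_iff.2 ?_⟩
        intro t ht
        have h1 := Subgroup.mem_centralizer_iff.1 hyC (ι ⟨t, hTS ht⟩) ((hmemTG _).2 ⟨⟨t, ht⟩, rfl⟩)
        rw [← map_mul, ← map_mul] at h1
        exact congrArg (fun z : S => (z : Ω)) (hι.1 h1)
      exact ⟨s, hsC, rfl⟩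
    · rintro ⟨d, hd, rfl⟩
      refine ⟨hP ▸ ⟨_, rfl⟩, Subgroup.mem_centralizer_iff.2 ?_⟩
      intro h hh
      obtain ⟨x, rfl⟩ := (hmemTG h).1 hh
      rw [← map_mul, ← map_mul]
      apply congrArg ι
      apply Subtype.ext
      exact Subgroup.mem_centralizer_iff.1 (hCScent d hd) x x.2
  obtain ⟨h', hh'def⟩ : ∃ h' : G, h' = c * n := ⟨_, rfl⟩
  have hh'N : h' ∈ N := by rw [hh'def]; exact N.mul_mem hcN hn
  have hh'T : ∀ x : ↥(preSub ι N), h' * ι ⟨x, hTS x.2⟩ * h'⁻¹ =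
      ι ⟨((α x : ↥(preSub ι N)) : Ω), hTS (α x).2⟩ := by
    intro x
    have h1 := Subgroup.mem_centralizer_iff.1 hcC _ ((hmemTG _).2 ⟨α x, rfl⟩)
    rw [hh'def]
    calc c * n * ι ⟨x, hTS x.2⟩ * (c * n)⁻¹ = c * (n * ι ⟨x, hTS x.2⟩ * n⁻¹) * c⁻¹ := by group
      _ = c * ι ⟨((α x : ↥(preSub ι N)) : Ω), hTS (α x).2⟩ * c⁻¹ := by rw [hnα x]
      _ = ι ⟨((α x : ↥(preSub ι N)) : Ω), hTS (α x).2⟩ * c * c⁻¹ := by rw [h1]
      _ = ι ⟨((α x : ↥(preSub ι N)) : Ω), hTS (α x).2⟩ := by group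
  have hh'D : ∀ (d : Ω) (hd : d ∈ CS), ∃ d' : Ω, ∃ hd' : d' ∈ CS,
      ι ⟨d', hCSS hd'⟩ = h' * ι ⟨d, hCSS hd⟩ * h'⁻¹ := by
    intro d hd
    have h1 : ι ⟨d, hCSS hd⟩ ∈ FusionSystem.centralizerIn (P : Subgroup G) TG :=
      (hmemDG _).2 ⟨d, hd, rfl⟩
    have h2 := (Subgroup.mem_normalizer_iff.1 hcn _).1 h1
    rw [← hh'def] at h2
    exact (hmemDG _).1 h2
  -- the subgroup `T C_S(T)`
  obtain ⟨U, hUdef⟩ : ∃ U : Subgroup Ω, U = preSub ι N ⊔ CS := ⟨_, rfl⟩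
  have hTU : preSub ι N ≤ U := hUdef ▸ le_sup_left
  have hCU : CS ≤ U := hUdef ▸ le_sup_right
  have hUS : U ≤ S := hUdef ▸ sup_le hTS hCSS
  obtain ⟨ψG, hψG⟩ : ∃ ψG : S →* G, ∀ s, ψG s = h' * ι s * h'⁻¹ :=
    ⟨(MulAut.conj h').toMonoidHom.comp ι, fun s => rfl⟩
  have hU' : U.subgroupOf S = (preSub ι N).subgroupOf S ⊔ CS.subgroupOf S := by
    rw [hUdef, Subgroup.subgroupOf_sup hTS hCSS]
  have hUW : U.subgroupOf S ≤ ((U.subgroupOf S).map ι).comap ψG := by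
    refine hU'.le.trans (sup_le ?_ ?_)
    · intro s hs
      have hsT : (s : Ω) ∈ preSub ι N := Subgroup.mem_subgroupOf.1 hs
      rw [Subgroup.mem_comap, hψG]
      refine ⟨⟨((α ⟨s, hsT⟩ : ↥(preSub ι N)) : Ω), hTS (α ⟨s, hsT⟩).2⟩,
        Subgroup.mem_subgroupOf.2 (hTU (α ⟨s, hsT⟩).2), ?_⟩
      exact (hh'T ⟨s, hsT⟩).symm
    · intro s hs
      have hsC : (s : Ω) ∈ CS := Subgroup.mem_subgroupOf.1 hs
      rw [Subgroup.mem_comap, hψG]
      obtain ⟨d', hd', hdd⟩ := hh'D s hsC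
      exact ⟨⟨d', hCSS hd'⟩, Subgroup.mem_subgroupOf.2 (hCU hd'), hdd⟩
  have hmem : ∀ u : U, ∃ u' : Ω, ∃ hu' : u' ∈ U,
      ι ⟨u', hUS hu'⟩ = h' * ι ⟨u, hUS u.2⟩ * h'⁻¹ := by
    intro u
    have h1 : (⟨(u : Ω), hUS u.2⟩ : S) ∈ U.subgroupOf S := Subgroup.mem_subgroupOf.2 u.2
    have h2 := hUW h1
    rw [Subgroup.mem_comap, hψG] at h2
    obtain ⟨s, hs, hsu⟩ := h2
    exact ⟨s, Subgroup.mem_subgroupOf.1 hs, hsu⟩
  have hmemr : ∀ u : U, (ψG.comp (Subgroup.inclusion hUS)) u ∈ ι.range := by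
    intro u
    obtain ⟨u', hu', h1⟩ := hmem u
    exact ⟨⟨u', hUS hu'⟩, h1.trans (hψG _).symm⟩
  obtain ⟨ψ, hψdef⟩ : ∃ ψ : U →* Ω, ψ = S.subtype.comp
      ((MonoidHom.ofInjective hι.1).symm.toMonoidHom.comp
        ((ψG.comp (Subgroup.inclusion hUS)).codRestrict ι.range hmemr)) := ⟨_, rfl⟩
  have hψS : ∀ u, ψ u ∈ S := fun u => by
    rw [hψdef]
    exact Subtype.property _
  have hψι : ∀ u : U, ι ⟨ψ u, hψS u⟩ = h' * ι ⟨u, hUS u.2⟩ * h'⁻¹ := by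
    intro u
    have h1 : (⟨ψ u, hψS u⟩ : S) = (MonoidHom.ofInjective hι.1).symm
        (((ψG.comp (Subgroup.inclusion hUS)).codRestrict ι.range hmemr) u) := by
      subst hψdef
      rfl
    rw [h1, MonoidHom.apply_ofInjective_symm]
    exact hψG _
  have hψF : ψ ∈ F.Hom U := (hι.2 U hUS ψ hψS).2 ⟨h', hψι⟩
  have hψU : ∀ u, ψ u ∈ U := by
    intro u
    obtain ⟨u', hu', h1⟩ := hmem u
    have h2 : (⟨u', hUS hu'⟩ : S) = ⟨ψ u, hψS u⟩ := hι.1 (h1.trans (hψι u).symm)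
    have h3 : u' = ψ u := congrArg (fun z : S => (z : Ω)) h2
    rw [← h3]
    exact hu'
  have hfinU : Finite U := finite_of_le hUS
  have hψr : ψ.range = U := by
    apply Subgroup.eq_of_le_of_card_ge
    · rintro _ ⟨u, rfl⟩
      exact hψU u
    · exact (Nat.card_congr (MonoidHom.ofInjective (F.injective_of_mem hψF)).toEquiv).le
  obtain ⟨β, hβ⟩ : ∃ β : MulAut U, ∀ u, ((β u : U) : Ω) = ψ u :=
    ⟨isoOfHom ψ (F.injective_of_mem hψF) hψr, fun u => isoOfHom_coe _ _ _ u⟩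
  have hβF : β ∈ F.autGroup U := by
    rw [mem_autGroup_iff F hUS]
    exact hom_congr F hψF (fun u => hβ u)
  subst hUdef
  subst hCS
  refine ⟨β, hβF, ?_, ?_⟩
  · intro x
    rw [hβ]
    have h1 := hψι (Subgroup.inclusion le_sup_left x)
    have h2 : (⟨ψ (Subgroup.inclusion le_sup_left x), hψS _⟩ : S) =
        ⟨((α x : ↥(preSub ι N)) : Ω), hTS (α x).2⟩ := hι.1 (h1.trans (hh'T x))
    exact congrArg (fun z : S => (z : Ω)) h2
  · intro c₀ hc₀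
    rw [hβ]
    obtain ⟨d', hd', hdd⟩ := hh'D c₀ hc₀
    have h1 := hψι c₀
    have h2 : (⟨ψ c₀, hψS _⟩ : S) = ⟨d', hCSS hd'⟩ := hι.1 (h1.trans hdd.symm)
    have h3 : ψ c₀ = d' := congrArg (fun z : S => (z : Ω)) h2
    refine ⟨mem_preSub.2 ⟨S.mul_mem (S.inv_mem (hCSS hc₀)) (hψS c₀), ?_⟩, ?_⟩
    · have h4 : (⟨(c₀ : Ω)⁻¹ * ψ c₀, S.mul_mem (S.inv_mem (hCSS hc₀)) (hψS c₀)⟩ : S) =
          ⟨(c₀ : Ω), hCSS hc₀⟩⁻¹ * ⟨ψ c₀, hψS c₀⟩ := rfl
      rw [h4, map_mul, map_inv, h1]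
      have h5 : (ι ⟨(c₀ : Ω), hCSS hc₀⟩)⁻¹ * (h' * ι ⟨(c₀ : Ω), hCSS hc₀⟩ * h'⁻¹) =
          ((ι ⟨(c₀ : Ω), hCSS hc₀⟩)⁻¹ * h' * (ι ⟨(c₀ : Ω), hCSS hc₀⟩)⁻¹⁻¹) * h'⁻¹ := by group
      rw [h5]
      exact N.mul_mem (hN.conj_mem h' hh'N _) (N.inv_mem hh'N)
    · rw [h3]
      exact Subgroup.mul_mem _ (Subgroup.inv_mem _ (hCScent _ hc₀)) (hCScent _ hd')

/-- If the image of `S` meets the normal subgroup `N` trivially then the quotient by `N` still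
realizes the fusion system. -/
theorem isRealizedBy_quotient (F : FusionSystem S) {ι : S →* G} (hι : F.IsRealizedBy ι)
    [Finite G] {p : ℕ} [Fact p.Prime] (P : Sylow p G) (hP : (P : Subgroup G) = ι.range)
    (N : Subgroup G) [hN : N.Normal] (hNP : ι.range ⊓ N = ⊥) :
    F.IsRealizedBy ((QuotientGroup.mk' N).comp ι) ∧
      ∃ T : Sylow p (G ⧸ N), (T : Subgroup (G ⧸ N)) = ((QuotientGroup.mk' N).comp ι).range := by
  have hone : ∀ y : G, y ∈ ι.range → y ∈ N → y = 1 := by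
    intro y hy hyN
    have h1 : y ∈ ι.range ⊓ N := ⟨hy, hyN⟩
    rw [hNP] at h1
    exact h1
  refine ⟨⟨?_, ?_⟩, ?_⟩
  · intro a b hab
    have h1 : (ι a)⁻¹ * ι b ∈ N := QuotientGroup.eq.1 hab
    have h2 : (ι a)⁻¹ * ι b = 1 := hone _ ⟨a⁻¹ * b, by rw [map_mul, map_inv]⟩ h1
    have h3 : ι a = ι b := by
      rw [← mul_one (ι a), ← h2]
      group
    exact hι.1 h3
  · intro Q hQ φ hφ
    constructor
    · intro hφF
      obtain ⟨g, hg⟩ := (hι.2 Q hQ φ hφ).1 hφF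
      refine ⟨QuotientGroup.mk' N g, fun x => ?_⟩
      show QuotientGroup.mk' N (ι ⟨φ x, hφ x⟩) = _
      rw [hg x, map_mul, map_mul, map_inv]
      rfl
    · rintro ⟨gq, hgq⟩
      obtain ⟨g, rfl⟩ := QuotientGroup.mk'_surjective N gq
      have hmod : ∀ x : Q, (ι ⟨φ x, hφ x⟩)⁻¹ * (g * ι ⟨x, hQ x.2⟩ * g⁻¹) ∈ N := by
        intro x
        apply QuotientGroup.eq.1
        have h1 := hgq x
        show QuotientGroup.mk' N (ι ⟨φ x, hφ x⟩) = QuotientGroup.mk' N (g * ι ⟨x, hQ x.2⟩ * g⁻¹)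
        rw [map_mul, map_mul, map_inv]
        exact h1
      obtain ⟨K, hK⟩ : ∃ K : Subgroup G, K = (P : Subgroup G) ⊔ N := ⟨_, rfl⟩
      have hPK : (P : Subgroup G) ≤ K := hK ▸ le_sup_left
      obtain ⟨A, hA⟩ : ∃ A : Subgroup G,
          A = ((Q.subgroupOf S).map ι).map (MulAut.conj g).toMonoidHom := ⟨_, rfl⟩
      have hAp : IsPGroup p A := by
        rw [hA]
        apply IsPGroup.map
        apply P.isPGroup'.to_le
        rw [hP]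
        rintro _ ⟨s, -, rfl⟩
        exact ⟨s, rfl⟩
      have hmemA : ∀ x : Q, g * ι ⟨x, hQ x.2⟩ * g⁻¹ ∈ A := by
        intro x
        rw [hA]
        exact ⟨ι ⟨x, hQ x.2⟩, ⟨⟨x, hQ x.2⟩, Subgroup.mem_subgroupOf.2 x.2, rfl⟩, rfl⟩
      have hAK : A ≤ K := by
        rw [hA]
        rintro _ ⟨_, ⟨s, hs, rfl⟩, rfl⟩
        have hsQ : (s : Ω) ∈ Q := Subgroup.mem_subgroupOf.1 hs
        have h1 := hmod ⟨s, hsQ⟩
        have h2 : (MulAut.conj g).toMonoidHom (ι s) =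
            ι ⟨φ ⟨s, hsQ⟩, hφ _⟩ * ((ι ⟨φ ⟨s, hsQ⟩, hφ _⟩)⁻¹ * (g * ι s * g⁻¹)) := by
          show g * ι s * g⁻¹ = _
          group
        rw [h2, hK]
        exact Subgroup.mul_mem _ (Subgroup.mem_sup_left (hP ▸ ⟨_, rfl⟩))
          (Subgroup.mem_sup_right h1)
      obtain ⟨k, hk⟩ := exists_conj_le_sylow (P.subtype hPK) (T := A.subgroupOf K)
        (hAp.comap_subtype)
      have hkK : (k : G) ∈ (P : Subgroup G) ⊔ N := hK ▸ k.2
      obtain ⟨u, hu, n₀, hn₀, hun⟩ := Subgroup.mem_sup_of_normal_right.1 hkK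
      have hconj : ∀ a ∈ A, n₀ * a * n₀⁻¹ ∈ (P : Subgroup G) := by
        intro a ha
        have h1 : (MulAut.conj k).toMonoidHom (⟨a, hAK ha⟩ : K) ∈
            ((P.subtype hPK : Sylow p K) : Subgroup K) :=
          hk ⟨_, Subgroup.mem_subgroupOf.2 ha, rfl⟩
        rw [Sylow.coe_subtype, Subgroup.mem_subgroupOf] at h1
        have h2 : (k : G) * a * (k : G)⁻¹ ∈ (P : Subgroup G) := h1
        rw [← hun] at h2
        have h3 : n₀ * a * n₀⁻¹ = u⁻¹ * (u * n₀ * a * (u * n₀)⁻¹) * u := by group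
        rw [h3]
        exact Subgroup.mul_mem _ (Subgroup.mul_mem _ (Subgroup.inv_mem _ hu) h2) hu
      refine (hι.2 Q hQ φ hφ).2 ⟨n₀ * g, fun x => ?_⟩
      obtain ⟨a, ha⟩ : ∃ a : G, a = g * ι ⟨x, hQ x.2⟩ * g⁻¹ := ⟨_, rfl⟩
      have haA : a ∈ A := ha ▸ hmemA x
      have h1 : n₀ * a * n₀⁻¹ ∈ ι.range := hP ▸ hconj a haA
      have h2 : (ι ⟨φ x, hφ x⟩)⁻¹ * (n₀ * a * n₀⁻¹) ∈ N := by
        have h3 : (ι ⟨φ x, hφ x⟩)⁻¹ * (n₀ * a * n₀⁻¹) =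
            ((ι ⟨φ x, hφ x⟩)⁻¹ * a) * ((a⁻¹ * n₀ * a⁻¹⁻¹) * n₀⁻¹) := by group
        rw [h3]
        refine N.mul_mem ?_ (N.mul_mem (hN.conj_mem n₀ hn₀ a⁻¹) (N.inv_mem hn₀))
        rw [ha]
        exact hmod x
      have h4 : (ι ⟨φ x, hφ x⟩)⁻¹ * (n₀ * a * n₀⁻¹) = 1 :=
        hone _ (Subgroup.mul_mem _ (Subgroup.inv_mem _ ⟨_, rfl⟩) h1) h2
      have h5 : ι ⟨φ x, hφ x⟩ = n₀ * a * n₀⁻¹ := by
        rw [← mul_one (ι ⟨φ x, hφ x⟩), ← h4]
        group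
      rw [h5, ha]
      group
  · refine ⟨P.mapSurjective (QuotientGroup.mk'_surjective N), ?_⟩
    rw [Sylow.coe_mapSurjective, hP, MonoidHom.range_comp]

/-- If `N` contains the image of `S` and induces all of `F` then `N` realizes `F`. -/
theorem isRealizedBy_subgroup (F : FusionSystem S) {ι : S →* G} (hι : F.IsRealizedBy ι)
    [Finite G] {p : ℕ} [Fact p.Prime] (P : Sylow p G) (hP : (P : Subgroup G) = ι.range)
    (N : Subgroup G) [hN : N.Normal] (hSN : ∀ s : S, ι s ∈ N)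
    (hEF : ∀ Q : Subgroup Ω, (subSystem F hι N).Hom Q = F.Hom Q) :
    F.IsRealizedBy (ι.codRestrict N hSN) ∧
      ∃ T : Sylow p N, (T : Subgroup N) = (ι.codRestrict N hSN).range := by
  refine ⟨⟨?_, ?_⟩, ?_⟩
  · intro a b hab
    exact hι.1 (congrArg (fun z : N => (z : G)) hab)
  · intro Q hQ φ hφ
    constructor
    · intro hφF
      rw [← hEF Q] at hφF
      obtain ⟨hQ', hφ', n, hn, h⟩ := hφF
      exact ⟨⟨n, hn⟩, fun x => Subtype.ext (h x)⟩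
    · rintro ⟨g, hg⟩
      exact (hι.2 Q hQ φ hφ).2 ⟨g, fun x => congrArg (fun z : N => (z : G)) (hg x)⟩
  · obtain ⟨R, hR⟩ := sylow_inf_of_normal P N
    refine ⟨R, ?_⟩
    rw [hR, hP]
    ext y
    rw [Subgroup.mem_subgroupOf]
    constructor
    · rintro ⟨⟨s, hs⟩, -⟩
      exact ⟨s, Subtype.ext hs⟩
    · rintro ⟨s, rfl⟩
      exact ⟨⟨s, rfl⟩, hSN s⟩

universe u

/-- A realizable simple fusion system is realized by a finite simple group. -/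
theorem exists_simple_realization {Ω : Type u} [Group Ω] {S : Subgroup Ω} [Finite S] (p : ℕ)
    [Fact p.Prime] (hS : IsPGroup p S) (F : FusionSystem S) (hsimple : F.IsSimple p)
    (hreal : F.IsRealizable p) :
    ∃ (G : Type u) (_ : Group G) (_ : Finite G) (_ : IsSimpleGroup G) (ι : ↥S →* G),
      F.IsRealizedBy ι ∧ ∃ T : Sylow p G, (T : Subgroup G) = ι.range := by
  have hex : ∃ n : ℕ, ∃ (G : Type u) (_ : Group G) (_ : Finite G) (ι : ↥S →* G),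
      F.IsRealizedBy ι ∧ (∃ T : Sylow p G, (T : Subgroup G) = ι.range) ∧ Nat.card G = n := by
    obtain ⟨G, hG, hfin, ι, hι, hT⟩ := hreal
    exact ⟨Nat.card G, G, hG, hfin, ι, hι, hT, rfl⟩
  classical
  obtain ⟨G, hG, hfin, ι, hι, ⟨P, hP⟩, hcard⟩ := Nat.find_spec hex
  have hmin : ∀ (G' : Type u) (_ : Group G') (_ : Finite G') (ι' : ↥S →* G'),
      F.IsRealizedBy ι' → (∃ T : Sylow p G', (T : Subgroup G') = ι'.range) →
      Nat.card G ≤ Nat.card G' := by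
    intro G' hG' hfin' ι' hι' hT'
    rw [hcard]
    exact Nat.find_min' hex ⟨G', hG', hfin', ι', hι', hT', rfl⟩
  have hF := hsimple.1
  have hS1 : S ≠ ⊥ := hsimple.2.1
  have hnt : Nontrivial G := by
    obtain ⟨s, hs1⟩ := (Subgroup.ne_bot_iff_exists_ne_one).1 hS1
    refine ⟨ι s, 1, fun h => hs1 ?_⟩
    exact hι.1 (h.trans (map_one ι).symm)
  have hsimpleG : IsSimpleGroup G := by
    refine ⟨fun N hNn => ?_⟩
    by_contra hcon
    push Not at hcon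
    have hnorm := isNormalIn_subSystem hS F hF hι P hP N
    rcases hsimple.2.2 (preSub ι N) (subSystem F hι N) hnorm with hT | ⟨hT, hEF⟩
    · have hNP : ι.range ⊓ N = ⊥ := by
        rw [eq_bot_iff]
        rintro y ⟨⟨s, rfl⟩, hyN⟩
        have h1 : (s : Ω) ∈ preSub ι N := mem_preSub.2 ⟨s.2, hyN⟩
        rw [hT] at h1
        have h2 : s = 1 := Subtype.ext h1
        rw [h2, map_one]
        exact Subgroup.mem_bot.2 rfl
      obtain ⟨hreal', hsyl'⟩ := isRealizedBy_quotient F hι P hP N hNP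
      have h3 := hmin (G ⧸ N) inferInstance inferInstance _ hreal' hsyl'
      have h4 := Subgroup.card_eq_card_quotient_mul_card_subgroup N
      have h5 : 1 < Nat.card N := (Subgroup.one_lt_card_iff_ne_bot N).2 hcon.1
      have h6 : 0 < Nat.card (G ⧸ N) := Nat.card_pos
      nlinarith
    · have hSN : ∀ s : S, ι s ∈ N := by
        intro s
        have h1 : (s : Ω) ∈ preSub ι N := by
          rw [hT]
          exact s.2
        exact (mem_preSub.1 h1).2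
      obtain ⟨hreal', hsyl'⟩ := isRealizedBy_subgroup F hι P hP N hSN hEF
      have h3 := hmin N inferInstance inferInstance _ hreal' hsyl'
      have h4 : Nat.card N = Nat.card G :=
        le_antisymm (Subgroup.card_le_card_group N) h3
      exact hcon.2 (Subgroup.eq_top_of_card_eq N h4)
  exact ⟨G, hG, hfin, hsimpleG, ι, hι, P, hP⟩

end Cfsg.Agent.Lib.Helper8.Realize
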