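import Cfsg.Agent.Lib.Helper8.Chain2
import Cfsg.Agent.Lib.Helper8.GroupFusion
import Cfsg.Prelude.Def_TwoFusion

set_option autoImplicit false

namespace Cfsg.Agent.Lib.Helper8.StrongCtl

open Cfsg
open Cfsg.Agent.Lib.Helper8.GroupFusion Cfsg.Agent.Lib.Helper8.Chain2

/-- An abelian strongly closed subgroup of a Sylow subgroup controls strong fusion. -/
theorem controls_of_abelian_stronglyClosed {G : Type*} [Group G] [Finite G] {p : ℕ}
    [Fact p.Prime] (S : Sylow p G) (A : Subgroup G) (hA : IsMulCommutative ↥A)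
    (hsc : Cfsg.IsStronglyClosed A (S : Subgroup G)) (B : Set G)
    (hB : B ⊆ ((S : Subgroup G) : Set G)) (g : G)
    (hg : (fun a => g * a * g⁻¹) '' B ⊆ ((S : Subgroup G) : Set G)) :
    ∃ x ∈ Subgroup.normalizer (A : Set G), ∀ b ∈ B, g * b * g⁻¹ = x * b * x⁻¹ := by
  have hS : IsPGroup p (S : Subgroup G) := S.2
  have hF : (groupFusionSystem (S : Subgroup G)).IsSaturated p := isSaturated_groupFusionSystem S
  have hscF : (groupFusionSystem (S : Subgroup G)).StronglyClosed A := by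
    refine ⟨hsc.1, ?_⟩
    rintro R hR φ ⟨hRS, hφS, y, hy⟩ x
    rw [hy x]
    exact hsc.2 x (hR x.2) y (by rw [← hy x]; exact hφS x)
  have hN := isNormal_of_abelian_stronglyClosed hS (groupFusionSystem (S : Subgroup G)) hF hA hscF
  have hP : Subgroup.closure B ≤ (S : Subgroup G) := (Subgroup.closure_le _).mpr hB
  have hPg : ∀ x ∈ Subgroup.closure B, g * x * g⁻¹ ∈ (S : Subgroup G) := by
    intro x hx
    have h1 : Subgroup.closure B ≤ (S : Subgroup G).comap (MulAut.conj g).toMonoidHom := by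
      rw [Subgroup.closure_le]
      intro b hb
      exact hg ⟨b, hb, rfl⟩
    exact h1 hx
  have hφ : ((MulAut.conj g).toMonoidHom).comp (Subgroup.closure B).subtype ∈
      (groupFusionSystem (S : Subgroup G)).Hom (Subgroup.closure B) :=
    ⟨hP, fun x => hPg x x.2, g, fun x => rfl⟩
  obtain ⟨ψ, hψ, hext, hmap⟩ := hN.2 _ _ hφ
  obtain ⟨-, -, x, hx⟩ := hψ
  refine ⟨x, ?_, ?_⟩
  · apply Subgroup.mem_normalizer_fintype
    intro a ha
    have haA : a ∈ A := ha
    have h1 : (⟨a, (le_sup_right : A ≤ Subgroup.closure B ⊔ A) haA⟩ : ↥(Subgroup.closure B ⊔ A)) ∈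
        A.subgroupOf (Subgroup.closure B ⊔ A) := Subgroup.mem_subgroupOf.mpr haA
    have h2 : ψ ⟨a, (le_sup_right : A ≤ Subgroup.closure B ⊔ A) haA⟩ ∈
        (A.subgroupOf (Subgroup.closure B ⊔ A)).map ψ := Subgroup.mem_map_of_mem ψ h1
    rw [hmap, hx] at h2
    exact h2
  · intro b hb
    have h1 := hext ⟨b, Subgroup.subset_closure hb⟩
    rw [hx] at h1
    exact h1.symm

end Cfsg.Agent.Lib.Helper8.StrongCtl
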