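import Cfsg.Agent.Lib.Helper8.Hyp2

set_option autoImplicit false

namespace Cfsg.Agent.Lib.Helper8.StrongInv

open Cfsg Cfsg.FusionSystem Cfsg.Agent.Lib.Helper8.Fusion Cfsg.Agent.Lib.Helper8.FactorSys
  Cfsg.Agent.Lib.Helper8.Sat Cfsg.Agent.Lib.Helper8.Sat2 Cfsg.Agent.Lib.Helper8.Alperin2
  Cfsg.Agent.Lib.Helper8.GroupSub Cfsg.Agent.Lib.Helper8.Morph Cfsg.Agent.Lib.Helper8.Hyp2

variable {Ω : Type*} [Group Ω] {S : Subgroup Ω}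

/-- Strong invariance of a subsystem `E` over `T` in `F`. -/
def SI (F : FusionSystem S) {T : Subgroup Ω} (E : FusionSystem T) : Prop :=
  ∀ (P Q : Subgroup Ω) (hPQ : P ≤ Q) (_ : Q ≤ T) (φ : P →* Ω) (_ : φ ∈ E.Hom P)
    (hφQ : ∀ x : P, φ x ∈ Q) (ψ : Q →* Ω) (_ : ψ ∈ F.Hom Q),
    ∃ χ ∈ E.Hom ((P.subgroupOf Q).map ψ),
      ∀ (x : P) (hx : ψ (Subgroup.inclusion hPQ x) ∈ (P.subgroupOf Q).map ψ),
        χ ⟨ψ (Subgroup.inclusion hPQ x), hx⟩ = ψ ⟨φ x, hφQ x⟩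

/-- A fusion system is strongly invariant in itself. -/
theorem conjMap {T : Subgroup Ω} (E : FusionSystem T) {P Q : Subgroup Ω} (hPQ : P ≤ Q)
    {φ : P →* Ω} (hφ : φ ∈ E.Hom P) (hφQ : ∀ x : P, φ x ∈ Q) {ψ₀ : Q →* Ω}
    (hψ₀ : ψ₀ ∈ E.Hom Q) :
    ∃ χ₀ ∈ E.Hom ((P.subgroupOf Q).map ψ₀),
      ∀ (x : P) (hx : ψ₀ (Subgroup.inclusion hPQ x) ∈ (P.subgroupOf Q).map ψ₀),
        χ₀ ⟨ψ₀ (Subgroup.inclusion hPQ x), hx⟩ = ψ₀ ⟨φ x, hφQ x⟩ := by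
  have hψP : ψ₀.comp (Subgroup.inclusion hPQ) ∈ E.Hom P := restrict_mem E hPQ hψ₀
  have hr : (ψ₀.comp (Subgroup.inclusion hPQ)).range = (P.subgroupOf Q).map ψ₀ := by
    ext y
    constructor
    · rintro ⟨x, rfl⟩
      exact ⟨Subgroup.inclusion hPQ x, Subgroup.mem_subgroupOf.2 x.2, rfl⟩
    · rintro ⟨w, hw, rfl⟩
      exact ⟨⟨w, Subgroup.mem_subgroupOf.1 hw⟩, congrArg ψ₀ (Subtype.ext rfl)⟩
  obtain ⟨ρ, hρ, -, hρinv⟩ := exists_inv E hψP hr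
  have hρP : ∀ y, ρ y ∈ P := by
    intro y
    have hy : (y : Ω) ∈ (ψ₀.comp (Subgroup.inclusion hPQ)).range := hr.ge y.2
    obtain ⟨x, hx⟩ := hy
    have h1 : y = ⟨(ψ₀.comp (Subgroup.inclusion hPQ)) x, hr.le ⟨x, rfl⟩⟩ := Subtype.ext hx.symm
    rw [h1, hρinv]
    exact x.2
  have hχ₁ : φ.comp (ρ.codRestrict P hρP) ∈ E.Hom ((P.subgroupOf Q).map ψ₀) :=
    E.comp_mem hρ hφ hρP
  have hχ₁Q : ∀ y, (φ.comp (ρ.codRestrict P hρP)) y ∈ Q := fun y => hφQ _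
  refine ⟨ψ₀.comp ((φ.comp (ρ.codRestrict P hρP)).codRestrict Q hχ₁Q),
    E.comp_mem hχ₁ hψ₀ hχ₁Q, fun x hx => ?_⟩
  have h1 : ρ ⟨ψ₀ (Subgroup.inclusion hPQ x), hx⟩ = x := hρinv x hx
  have h2 : (⟨ρ ⟨ψ₀ (Subgroup.inclusion hPQ x), hx⟩, hρP _⟩ : P) = x := Subtype.ext h1
  show ψ₀ ⟨φ ⟨ρ ⟨ψ₀ (Subgroup.inclusion hPQ x), hx⟩, hρP _⟩, _⟩ = ψ₀ ⟨φ x, hφQ x⟩
  exact congrArg ψ₀ (Subtype.ext (congrArg φ h2))

/-- Invariance implies strong invariance. -/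
theorem si_of_isInvariantIn (F : FusionSystem S) {T : Subgroup Ω} (E : FusionSystem T)
    (h : E.IsInvariantIn F) : SI F E := by
  obtain ⟨hsub, hsc, hInv, hFr⟩ := h
  intro P Q hPQ hQT φ hφ hφQ ψ hψ
  obtain ⟨α, hα, ψ₀, hψ₀, hψeq⟩ := hFr Q hQT ψ hψ
  obtain ⟨χ₀, hχ₀, hχ₀eq⟩ := conjMap E hPQ hφ hφQ hψ₀
  have hψ₀T : ∀ y : Q, ψ₀ y ∈ T := (E.le_of_mem hψ₀).2
  have hP₁T : (P.subgroupOf Q).map ψ₀ ≤ T := (E.le_of_mem hχ₀).1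
  obtain ⟨χ, hχ, hχeq⟩ := hInv _ hP₁T χ₀ hχ₀ α hα
  have hle : (P.subgroupOf Q).map ψ ≤
      (((P.subgroupOf Q).map ψ₀).subgroupOf T).map (T.subtype.comp α.toMonoidHom) := by
    rintro _ ⟨w, hw, rfl⟩
    refine ⟨⟨ψ₀ w, hψ₀T w⟩, Subgroup.mem_subgroupOf.2 ⟨w, hw, rfl⟩, ?_⟩
    exact (hψeq w (hψ₀T w)).symm
  refine ⟨χ.comp (Subgroup.inclusion hle), restrict_mem E hle hχ, fun x hx => ?_⟩
  have hy : ψ₀ (Subgroup.inclusion hPQ x) ∈ (P.subgroupOf Q).map ψ₀ :=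
    ⟨Subgroup.inclusion hPQ x, Subgroup.mem_subgroupOf.2 x.2, rfl⟩
  have h1 := hχeq ⟨ψ₀ (Subgroup.inclusion hPQ x), hy⟩
    ((E.le_of_mem hχ₀).2 _)
  have h2 : ψ (Subgroup.inclusion hPQ x) =
      ((α ⟨ψ₀ (Subgroup.inclusion hPQ x), hψ₀T _⟩ : T) : Ω) := hψeq _ _
  have h3 : χ₀ ⟨ψ₀ (Subgroup.inclusion hPQ x), hy⟩ = ψ₀ ⟨φ x, hφQ x⟩ := hχ₀eq x hy
  have hmem : ((α ⟨ψ₀ (Subgroup.inclusion hPQ x), hψ₀T _⟩ : T) : Ω) ∈
      (((P.subgroupOf Q).map ψ₀).subgroupOf T).map (T.subtype.comp α.toMonoidHom) :=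
    h2 ▸ hle hx
  have h4 := h1 hmem
  have h5 : (Subgroup.inclusion hle ⟨ψ (Subgroup.inclusion hPQ x), hx⟩ :
      ↥((((P.subgroupOf Q).map ψ₀).subgroupOf T).map (T.subtype.comp α.toMonoidHom))) =
      ⟨((α ⟨ψ₀ (Subgroup.inclusion hPQ x), hψ₀T _⟩ : T) : Ω), hmem⟩ := Subtype.ext h2
  show χ (Subgroup.inclusion hle ⟨ψ (Subgroup.inclusion hPQ x), hx⟩) = ψ ⟨φ x, hφQ x⟩
  rw [h5, h4, hψeq ⟨φ x, hφQ x⟩ (hψ₀T _)]
  exact congrArg (fun t : T => ((α t : T) : Ω)) (Subtype.ext h3)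

/-- Strong invariance gives invariance under `Aut_F(T)`. -/
theorem inv_of_si (F : FusionSystem S) {T : Subgroup Ω} (E : FusionSystem T)
    (hT : F.StronglyClosed T) (h : SI F E) (P : Subgroup Ω) (hPT : P ≤ T) (φ : P →* Ω)
    (hφ : φ ∈ E.Hom P) (α : MulAut T) (hα : α ∈ F.autGroup T) :
    ∃ χ ∈ E.Hom ((P.subgroupOf T).map (T.subtype.comp α.toMonoidHom)),
      ∀ (x : P) (hφx : φ x ∈ T)
        (hαx : ((α ⟨x, hPT x.2⟩ : T) : Ω) ∈ (P.subgroupOf T).map (T.subtype.comp α.toMonoidHom)),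
        χ ⟨(α ⟨x, hPT x.2⟩ : T), hαx⟩ = ((α ⟨φ x, hφx⟩ : T) : Ω) := by
  obtain ⟨χ, hχ, hχeq⟩ := h P T hPT le_rfl φ hφ (E.le_of_mem hφ).2
    (T.subtype.comp α.toMonoidHom) ((mem_autGroup_iff F hT.1 α).1 hα)
  exact ⟨χ, hχ, fun x hφx hαx => hχeq x hαx⟩

/-- Under strong invariance, `Aut_F(U)` normalizes `Aut_E(U)`. -/
theorem conj_mem_autGroup (F : FusionSystem S) {T : Subgroup Ω} (E : FusionSystem T)
    (hT : F.StronglyClosed T) (h : SI F E) {U : Subgroup Ω} (hUT : U ≤ T) {γ κ : MulAut U}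
    (hγ : γ ∈ F.autGroup U) (hκ : κ ∈ E.autGroup U) : γ * κ * γ⁻¹ ∈ E.autGroup U := by
  have hUS : U ≤ S := hUT.trans hT.1
  obtain ⟨χ, hχ, hχeq⟩ := h U U le_rfl hUT (U.subtype.comp κ.toMonoidHom)
    ((mem_autGroup_iff E hUT κ).1 hκ) (fun x => (κ x).2) (U.subtype.comp γ.toMonoidHom)
    ((mem_autGroup_iff F hUS γ).1 hγ)
  have hU : U = (U.subgroupOf U).map (U.subtype.comp γ.toMonoidHom) := by
    ext y
    constructor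
    · intro hy
      refine ⟨γ⁻¹ ⟨y, hy⟩, Subgroup.mem_subgroupOf.2 (Subtype.property _), ?_⟩
      show ((γ (γ⁻¹ ⟨y, hy⟩) : U) : Ω) = y
      rw [MulAut.apply_inv_self]
    · rintro ⟨w, -, rfl⟩
      exact (γ w).2
  rw [mem_autGroup_iff E hUT]
  refine hom_congr E (hom_cast E hU hχ) (fun y => ?_)
  obtain ⟨x, hx⟩ : ∃ x : U, x = γ⁻¹ y := ⟨_, rfl⟩
  have hxy : γ x = y := by rw [hx]; exact MulAut.apply_inv_self _ _ _
  have hmem : (U.subtype.comp γ.toMonoidHom) (Subgroup.inclusion (le_refl U) x) ∈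
      (U.subgroupOf U).map (U.subtype.comp γ.toMonoidHom) :=
    ⟨Subgroup.inclusion (le_refl U) x, Subgroup.mem_subgroupOf.2 x.2, rfl⟩
  have h1 := hχeq x hmem
  have h2 : (Subgroup.inclusion hU.le y : ↥((U.subgroupOf U).map (U.subtype.comp γ.toMonoidHom)))
      = ⟨(U.subtype.comp γ.toMonoidHom) (Subgroup.inclusion (le_refl U) x), hmem⟩ := by
    apply Subtype.ext
    show (y : Ω) = ((γ x : U) : Ω)
    rw [hxy]
  show ((γ (κ (γ⁻¹ y)) : U) : Ω) = χ (Subgroup.inclusion hU.le y)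
  rw [h2, h1, ← hx]
  rfl

/-- The `F`-maps that on `P ∩ T` are an `E`-map followed by an element of `Aut_F(T)`. -/
def frSet (F : FusionSystem S) {T : Subgroup Ω} (E : FusionSystem T) (P : Subgroup Ω) :
    Set (P →* Ω) :=
  {φ | φ ∈ F.Hom P ∧ ∃ α ∈ F.autGroup T, ∃ φ₀ ∈ E.Hom (P ⊓ T),
    ∀ (x : ↥(P ⊓ T)) (h : φ₀ x ∈ T), φ ⟨x, x.2.1⟩ = ((α ⟨φ₀ x, h⟩ : T) : Ω)}

theorem fr_conj (F : FusionSystem S) {T : Subgroup Ω} (E : FusionSystem T)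
    (hT : F.StronglyClosed T) {P : Subgroup Ω} {g : Ω} (hP : P ≤ S) (hg : g ∈ S) :
    conjHom P g ∈ frSet F E P := by
  have hN := le_normalizer_of_sc F hT
  obtain ⟨γ, hγdef⟩ : ∃ γ : MulAut T, γ = T.normalizerMonoidHom ⟨g, hN hg⟩ := ⟨_, rfl⟩
  have hγx : ∀ x : T, ((γ x : T) : Ω) = g * x * g⁻¹ := fun x => by rw [hγdef]; rfl
  have hγA : γ ∈ F.autGroup T :=
    autInducedBy_le_autGroup F hT.1 (mem_autInducedBy_iff.mpr ⟨g, hg, hγx⟩)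
  refine ⟨F.conj_mem hP hg, γ, hγA, (P ⊓ T).subtype, id_mem E inf_le_right, fun x h => ?_⟩
  rw [hγx]
  rfl

theorem fr_comp (F : FusionSystem S) {T : Subgroup Ω} (E : FusionSystem T)
    (hT : F.StronglyClosed T) (hSI : SI F E) {P Q : Subgroup Ω} {φ : P →* Ω} {ψ : Q →* Ω}
    (hφ : φ ∈ frSet F E P) (hψ : ψ ∈ frSet F E Q) (h : ∀ x : P, φ x ∈ Q) :
    ψ.comp (φ.codRestrict Q h) ∈ frSet F E P := by
  obtain ⟨hφF, α, hα, φ₀, hφ₀, hφeq⟩ := hφ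
  obtain ⟨hψF, β, hβ, ψ₀, hψ₀, hψeq⟩ := hψ
  refine ⟨F.comp_mem hφF hψF h, β * α, Subgroup.mul_mem _ hβ hα, ?_⟩
  have hαinv : α⁻¹ ∈ F.autGroup T := Subgroup.inv_mem _ hα
  obtain ⟨χ, hχ, hχeq⟩ := inv_of_si F E hT hSI (Q ⊓ T) inf_le_right ψ₀ hψ₀ α⁻¹ hαinv
  have hφ₀T : ∀ x, φ₀ x ∈ T := (E.le_of_mem hφ₀).2
  have hψ₀T : ∀ y, ψ₀ y ∈ T := (E.le_of_mem hψ₀).2
  have hyQT : ∀ x : ↥(P ⊓ T), φ ⟨x, x.2.1⟩ ∈ Q ⊓ T := fun x =>
    ⟨h _, by rw [hφeq x (hφ₀T x)]; exact Subtype.property _⟩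
  have hφ₀eq : ∀ x : ↥(P ⊓ T),
      φ₀ x = ((α⁻¹ ⟨φ ⟨x, x.2.1⟩, (hyQT x).2⟩ : T) : Ω) := by
    intro x
    have h1 : (⟨φ ⟨x, x.2.1⟩, (hyQT x).2⟩ : T) = α ⟨φ₀ x, hφ₀T x⟩ :=
      Subtype.ext (hφeq x (hφ₀T x))
    rw [h1, MulAut.inv_apply_self]
  have hmem : ∀ x : ↥(P ⊓ T),
      φ₀ x ∈ ((Q ⊓ T).subgroupOf T).map (T.subtype.comp α⁻¹.toMonoidHom) := by
    intro x
    refine ⟨⟨φ ⟨x, x.2.1⟩, (hyQT x).2⟩, Subgroup.mem_subgroupOf.2 (hyQT x), ?_⟩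
    exact (hφ₀eq x).symm
  refine ⟨χ.comp (φ₀.codRestrict _ hmem), E.comp_mem hφ₀ hχ hmem, fun x hx => ?_⟩
  obtain ⟨y, hy⟩ : ∃ y : ↥(Q ⊓ T), y = ⟨φ ⟨x, x.2.1⟩, hyQT x⟩ := ⟨_, rfl⟩
  have hαx : ((α⁻¹ ⟨(y : Ω), y.2.2⟩ : T) : Ω) ∈
      ((Q ⊓ T).subgroupOf T).map (T.subtype.comp α⁻¹.toMonoidHom) :=
    ⟨⟨y, y.2.2⟩, Subgroup.mem_subgroupOf.2 y.2, rfl⟩
  have h1 := hχeq y (hψ₀T y) hαx
  have h2 : (φ₀.codRestrict _ hmem) x =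
      ⟨((α⁻¹ ⟨(y : Ω), y.2.2⟩ : T) : Ω), hαx⟩ := by
    apply Subtype.ext
    show φ₀ x = ((α⁻¹ ⟨(y : Ω), y.2.2⟩ : T) : Ω)
    rw [hφ₀eq x]
    subst hy
    rfl
  have h3 : (⟨(χ.comp (φ₀.codRestrict _ hmem)) x, hx⟩ : T) = α⁻¹ ⟨ψ₀ y, hψ₀T y⟩ := by
    apply Subtype.ext
    show χ ((φ₀.codRestrict _ hmem) x) = _
    rw [h2, h1]
  rw [h3]
  show ψ ⟨φ ⟨x, x.2.1⟩, h _⟩ = ((β (α (α⁻¹ ⟨ψ₀ y, hψ₀T y⟩)) : T) : Ω)
  rw [MulAut.apply_inv_self]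
  have h4 := hψeq y (hψ₀T y)
  rw [← h4]
  subst hy
  rfl

theorem fr_inv (F : FusionSystem S) {T : Subgroup Ω} (E : FusionSystem T)
    (hT : F.StronglyClosed T) (hSI : SI F E) {P : Subgroup Ω} {φ : P →* Ω}
    (hφ : φ ∈ frSet F E P) :
    ∃ ψ ∈ frSet F E φ.range, ∀ x : P, ψ ⟨φ x, ⟨x, rfl⟩⟩ = (x : Ω) := by
  obtain ⟨hφF, α, hα, φ₀, hφ₀, hφeq⟩ := hφ
  obtain ⟨ψ, hψ, hψinv⟩ := F.inv_mem hφF
  refine ⟨ψ, ⟨hψ, α⁻¹, Subgroup.inv_mem _ hα, ?_⟩, hψinv⟩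
  have hφ₀T : ∀ x, φ₀ x ∈ T := (E.le_of_mem hφ₀).2
  obtain ⟨ρ, hρ, hρinv⟩ := E.inv_mem hφ₀
  have hrT : φ₀.range ≤ T := (E.le_of_mem hρ).1
  obtain ⟨χ, hχ, hχeq⟩ := inv_of_si F E hT hSI φ₀.range hrT ρ hρ α hα
  have hrep : ∀ y ∈ φ.range ⊓ T, ∃ x : ↥(P ⊓ T), y = ((α ⟨φ₀ x, hφ₀T x⟩ : T) : Ω) := by
    rintro y ⟨⟨x₁, rfl⟩, hyT⟩
    have hx₁T : (x₁ : Ω) ∈ T := mem_of_map_mem_sc F hT hφF x₁ hyT
    exact ⟨⟨x₁, x₁.2, hx₁T⟩, hφeq ⟨x₁, x₁.2, hx₁T⟩ (hφ₀T _)⟩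
  have hle : φ.range ⊓ T ≤ (φ₀.range.subgroupOf T).map (T.subtype.comp α.toMonoidHom) := by
    intro y hy
    obtain ⟨x, rfl⟩ := hrep y hy
    exact ⟨⟨φ₀ x, hφ₀T x⟩, Subgroup.mem_subgroupOf.2 ⟨x, rfl⟩, rfl⟩
  refine ⟨χ.comp (Subgroup.inclusion hle), restrict_mem E hle hχ, fun y hy' => ?_⟩
  obtain ⟨x, hx⟩ := hrep y y.2
  have hyφ : (y : Ω) = φ ⟨x, x.2.1⟩ := hx.trans (hφeq x (hφ₀T x)).symm
  have h1 : ψ ⟨(y : Ω), y.2.1⟩ = (x : Ω) := by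
    have h2 : (⟨(y : Ω), y.2.1⟩ : φ.range) = ⟨φ ⟨x, x.2.1⟩, ⟨_, rfl⟩⟩ := Subtype.ext hyφ
    rw [h2, hψinv]
  rw [h1]
  have hz : φ₀ x ∈ φ₀.range := ⟨x, rfl⟩
  have hαz : ((α ⟨φ₀ x, hrT hz⟩ : T) : Ω) ∈
      (φ₀.range.subgroupOf T).map (T.subtype.comp α.toMonoidHom) :=
    ⟨⟨φ₀ x, hrT hz⟩, Subgroup.mem_subgroupOf.2 hz, rfl⟩
  have h3 := hχeq ⟨φ₀ x, hz⟩ ((E.le_of_mem hρ).2 _) hαz
  have h4 : ρ ⟨φ₀ x, hz⟩ = (x : Ω) := hρinv x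
  have h5 : Subgroup.inclusion hle y = ⟨((α ⟨φ₀ x, hrT hz⟩ : T) : Ω), hαz⟩ := Subtype.ext hx
  have h6 : (⟨(χ.comp (Subgroup.inclusion hle)) y, hy'⟩ : T) = α ⟨(x : Ω), x.2.2⟩ := by
    apply Subtype.ext
    show χ (Subgroup.inclusion hle y) = _
    rw [h5, h3]
    exact congrArg (fun t : T => ((α t : T) : Ω)) (Subtype.ext h4)
  rw [h6, MulAut.inv_apply_self]

/-- The auxiliary fusion system used to prove the Frattini condition. -/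
def frSystem (F : FusionSystem S) {T : Subgroup Ω} (E : FusionSystem T)
    (hT : F.StronglyClosed T) (hSI : SI F E) : FusionSystem S where
  Hom P := frSet F E P
  le_of_mem h := F.le_of_mem h.1
  injective_of_mem h := F.injective_of_mem h.1
  conj_mem := fun hP hg => fr_conj F E hT hP hg
  comp_mem := fun h1 h2 h => fr_comp F E hT hSI h1 h2 h
  inv_mem := fun h => fr_inv F E hT hSI h

/-- Restriction of automorphisms of `R` to `R ⊓ T`. -/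
def resInfAut (F : FusionSystem S) {T : Subgroup Ω} (hT : F.StronglyClosed T) {R : Subgroup Ω}
    (hRS : R ≤ S) (b : F.autGroup R) : MulAut ↥(R ⊓ T) where
  toFun u := ⟨(((b : MulAut R) ⟨u, u.2.1⟩ : R) : Ω),
    ⟨Subtype.property _, aut_mem_of_sc F hT hRS b _ u.2.2⟩⟩
  invFun u := ⟨((((b⁻¹ : F.autGroup R) : MulAut R) ⟨u, u.2.1⟩ : R) : Ω),
    ⟨Subtype.property _, aut_mem_of_sc F hT hRS b⁻¹ _ u.2.2⟩⟩
  left_inv u := by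
    apply Subtype.ext
    show ((((b⁻¹ : F.autGroup R) : MulAut R) ((b : MulAut R) ⟨u, u.2.1⟩) : R) : Ω) = u
    have h2 : ((b⁻¹ : F.autGroup R) : MulAut R) ((b : MulAut R) ⟨u, u.2.1⟩) = ⟨u, u.2.1⟩ :=
      MulAut.inv_apply_self _ _ _
    rw [h2]
  right_inv u := by
    apply Subtype.ext
    show (((b : MulAut R) (((b⁻¹ : F.autGroup R) : MulAut R) ⟨u, u.2.1⟩) : R) : Ω) = u
    have h2 : (b : MulAut R) (((b⁻¹ : F.autGroup R) : MulAut R) ⟨u, u.2.1⟩) = ⟨u, u.2.1⟩ :=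
      MulAut.apply_inv_self _ _ _
    rw [h2]
  map_mul' t u := by
    apply Subtype.ext
    show (((b : MulAut R) (⟨t, t.2.1⟩ * ⟨u, u.2.1⟩) : R) : Ω) = _ * _
    rw [map_mul]
    rfl

/-- The restriction homomorphism `Aut_F(R) → Aut(R ∩ T)`. -/
def resInfHom (F : FusionSystem S) {T : Subgroup Ω} (hT : F.StronglyClosed T) {R : Subgroup Ω}
    (hRS : R ≤ S) : F.autGroup R →* MulAut ↥(R ⊓ T) where
  toFun b := resInfAut F hT hRS b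
  map_one' := by
    apply MulEquiv.ext
    intro t
    rfl
  map_mul' a b := by
    apply MulEquiv.ext
    intro t
    rfl

theorem resInfAut_mem (F : FusionSystem S) {T : Subgroup Ω} (hT : F.StronglyClosed T)
    {R : Subgroup Ω} (hRS : R ≤ S) (b : F.autGroup R) :
    resInfAut F hT hRS b ∈ F.autGroup (R ⊓ T) := by
  rw [mem_autGroup_iff F (inf_le_left.trans hRS)]
  exact hom_congr F (restrict_mem F inf_le_left ((mem_autGroup_iff F hRS (b : MulAut R)).1 b.2))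
    (fun x => rfl)

/-- Under strong invariance every map of a saturated `F` lies in the auxiliary system. -/
theorem le_frSystem [Finite S] {p : ℕ} [Fact p.Prime] (hS : IsPGroup p S)
    (F : FusionSystem S) (hF : F.IsSaturated p) {T : Subgroup Ω} (E : FusionSystem T)
    (hT : F.StronglyClosed T) (hSI : SI F E) : F ≤ frSystem F E hT hSI := by
  apply le_of_autGroup_le' hS F hF
  intro R hRn hRc hbig
  have hRS : R ≤ S := hRn.1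
  by_cases hTR : T ≤ R
  · intro κ hκ
    rw [mem_autGroup_iff _ hRS]
    exact ⟨(mem_autGroup_iff F hRS κ).1 hκ, resAut F hT hTR hRS ⟨κ, hκ⟩,
      resAut_mem F hT hTR hRS ⟨κ, hκ⟩, (R ⊓ T).subtype, id_mem E inf_le_right,
      fun x h => rfl⟩
  have hUT : R ⊓ T ≤ T := inf_le_right
  obtain ⟨res, hres⟩ : ∃ res : F.autGroup R →* MulAut ↥(R ⊓ T), ∀ b u,
      ((res b u : ↥(R ⊓ T)) : Ω) = (((b : MulAut R) ⟨u, u.2.1⟩ : R) : Ω) :=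
    ⟨resInfHom F hT hRS, fun b u => rfl⟩
  have hresF : ∀ b, res b ∈ F.autGroup (R ⊓ T) := by
    intro b
    rw [mem_autGroup_iff F (inf_le_left.trans hRS)]
    exact hom_congr F
      (restrict_mem F inf_le_left ((mem_autGroup_iff F hRS (b : MulAut R)).1 b.2))
      (fun x => hres b x)
  obtain ⟨K, hK⟩ : ∃ K : Subgroup (F.autGroup R), K = (E.autGroup (R ⊓ T)).comap res :=
    ⟨_, rfl⟩
  have hKn : K.Normal := by
    constructor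
    intro n hn g
    rw [hK, Subgroup.mem_comap] at hn ⊢
    rw [map_mul, map_mul, map_inv]
    exact conj_mem_autGroup F E hT hSI hUT (hresF g) hn
  have hC : ∀ γ : F.autGroup R, γ ∈ K →
      (γ : MulAut R) ∈ (frSystem F E hT hSI).autGroup R := by
    intro γ hγK
    rw [mem_autGroup_iff _ hRS]
    rw [hK, Subgroup.mem_comap] at hγK
    exact ⟨(mem_autGroup_iff F hRS γ).1 γ.2, 1, Subgroup.one_mem _, _,
      (mem_autGroup_iff E hUT _).1 hγK, fun x h => (hres γ x).symm⟩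
  have hfinR : Finite R := finite_of_le hRS
  have hFA := isFullyCentralized_and_isFullyAutomized hS F hF hRn
  obtain ⟨-, R₀, hR₀⟩ := hFA.2
  have hrec := isReceptive_of_isFullyCentralized hS F hF hFA.1
  obtain ⟨Q₀, hQ₀⟩ := sylow_inf_of_normal R₀ K
  have hfr := Sylow.normalizer_sup_eq_top Q₀
  rw [hQ₀, Subgroup.subgroupOf_map_subtype, inf_of_le_left inf_le_right] at hfr
  intro α hα
  have hmem : (⟨α, hα⟩ : F.autGroup R) ∈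
      Subgroup.normalizer ((((R₀ : Subgroup (F.autGroup R)) ⊓ K :
        Subgroup (F.autGroup R)) : Set (F.autGroup R))) ⊔ K := by
    rw [hfr]
    exact Subgroup.mem_top _
  obtain ⟨n, hn, b, hb, hnb⟩ := Subgroup.mem_sup_of_normal_right.mp hmem
  have hbE : (b : MulAut R) ∈ (frSystem F E hT hSI).autGroup R := hC b hb
  have hnE : (n : MulAut R) ∈ (frSystem F E hT hSI).autGroup R := by
    obtain ⟨t, htT, htN, htR⟩ := exists_normalizing_T hS hRS hT.1 (le_normalizer_of_sc F hT) hTR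
    obtain ⟨φ₁, hφ₁def⟩ : ∃ φ₁ : R →* Ω, φ₁ = R.subtype.comp (n : MulAut R).toMonoidHom :=
      ⟨_, rfl⟩
    have hφ₁ : φ₁ ∈ F.Hom R := by rw [hφ₁def]; exact (mem_autGroup_iff F hRS n).1 n.2
    have hφ₁r : φ₁.range = R := by rw [hφ₁def]; exact range_subtype_comp_aut _
    obtain ⟨ψb, hψb, hext⟩ := hrec.2 R φ₁ hφ₁ hφ₁r
    have hNT : T ⊓ Subgroup.normalizer (R : Set Ω) ≤ FusionSystem.extender S R φ₁ := by
      intro g hg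
      apply Subgroup.subset_closure
      refine ⟨hT.1 hg.1, hg.2, ?_⟩
      obtain ⟨γ, hγdef⟩ : ∃ γ : MulAut R, γ = R.normalizerMonoidHom ⟨g, hg.2⟩ := ⟨_, rfl⟩
      have hγx : ∀ x : R, ((γ x : R) : Ω) = g * x * g⁻¹ := fun x => by rw [hγdef]; rfl
      have hγS : γ ∈ autInducedBy S R := mem_autInducedBy_iff.mpr ⟨g, hT.1 hg.1, hγx⟩
      have hγA : γ ∈ F.autGroup R := autInducedBy_le_autGroup F hRS hγS
      have hγC : (⟨γ, hγA⟩ : F.autGroup R) ∈ K := by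
        rw [hK, Subgroup.mem_comap, mem_autGroup_iff E hUT]
        refine hom_congr E (E.conj_mem hUT hg.1) (fun x => ?_)
        show ((res ⟨γ, hγA⟩ x : ↥(R ⊓ T)) : Ω) = g * x * g⁻¹
        rw [hres]
        exact hγx _
      have hγQ : (⟨γ, hγA⟩ : F.autGroup R) ∈ (R₀ : Subgroup (F.autGroup R)) ⊓ K :=
        ⟨by rw [hR₀]; exact hγS, hγC⟩
      have h2 := (Subgroup.mem_normalizer_iff.mp hn ⟨γ, hγA⟩).mp hγQ
      have h3 : n * ⟨γ, hγA⟩ * n⁻¹ ∈ (R₀ : Subgroup (F.autGroup R)) := h2.1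
      rw [hR₀] at h3
      obtain ⟨h, hhS, hh⟩ := mem_autInducedBy_iff.mp h3
      refine ⟨h, hhS, fun x hx => ?_⟩
      have h1 := hh ((n : MulAut R) x)
      have h2 : (⟨g * x * g⁻¹, hx⟩ : R) = γ x := Subtype.ext (hγx x).symm
      rw [hφ₁def]
      show (((n : MulAut R) ⟨g * x * g⁻¹, hx⟩ : R) : Ω) = h * (((n : MulAut R) x : R) : Ω) * h⁻¹
      rw [h2, ← h1]
      simp [MulAut.mul_apply]
    obtain ⟨R₂, hR₂def⟩ : ∃ R₂ : Subgroup Ω, R₂ = R ⊔ (T ⊓ Subgroup.normalizer (R : Set Ω)) :=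
      ⟨_, rfl⟩
    have hRR₂ : R ≤ R₂ := hR₂def ▸ le_sup_left
    have hR₂ext : R₂ ≤ FusionSystem.extender S R φ₁ := by
      rw [hR₂def]
      exact sup_le (le_extender_self F hφ₁) hNT
    have hR₂S : R₂ ≤ S := by
      rw [hR₂def]
      exact sup_le hRS (inf_le_left.trans hT.1)
    have hlt : Nat.card R < Nat.card R₂ := by
      have hfin₂ : Finite R₂ := finite_of_le hR₂S
      by_contra hcon
      have h1 : R = R₂ := Subgroup.eq_of_le_of_card_ge hRR₂ (not_lt.mp hcon)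
      apply htR
      rw [h1, hR₂def]
      exact Subgroup.mem_sup_right ⟨htT, htN⟩
    have hψ₂ := restrict_mem F hR₂ext hψb
    have hψ₂G := hbig R₂ hR₂S hlt _ hψ₂
    rw [mem_autGroup_iff _ hRS, ← hφ₁def]
    refine hom_congr (frSystem F E hT hSI) (restrict_mem (frSystem F E hT hSI) hRR₂ hψ₂G)
      (fun x => ?_)
    exact (hext x x.2 _).symm
  have h6 : α = (n : MulAut R) * (b : MulAut R) := (congrArg Subtype.val hnb).symm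
  rw [h6]
  exact Subgroup.mul_mem _ hnE hbE

/-- Strong invariance implies the Frattini condition. -/
theorem frattini_of_si [Finite S] {p : ℕ} [Fact p.Prime] (hS : IsPGroup p S)
    (F : FusionSystem S) (hF : F.IsSaturated p) {T : Subgroup Ω} (E : FusionSystem T)
    (hT : F.StronglyClosed T) (hSI : SI F E) (P : Subgroup Ω) (hPT : P ≤ T) (φ : P →* Ω)
    (hφ : φ ∈ F.Hom P) :
    ∃ α ∈ F.autGroup T, ∃ φ₀ ∈ E.Hom P,
      ∀ (x : P) (hx : φ₀ x ∈ T), φ x = ((α ⟨φ₀ x, hx⟩ : T) : Ω) := by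
  obtain ⟨-, α, hα, φ₀, hφ₀, heq⟩ := le_frSystem hS F hF E hT hSI P hφ
  have hle : P ≤ P ⊓ T := le_inf le_rfl hPT
  exact ⟨α, hα, φ₀.comp (Subgroup.inclusion hle), restrict_mem E hle hφ₀,
    fun x hx => heq (Subgroup.inclusion hle x) hx⟩

/-- Invariance is equivalent to strong invariance. -/
theorem isInvariantIn_iff [Finite S] {p : ℕ} [Fact p.Prime] (hS : IsPGroup p S)
    (F : FusionSystem S) (hF : F.IsSaturated p) {T : Subgroup Ω} (E : FusionSystem T)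
    (hE : E.IsSubsystemOf F) (hT : F.StronglyClosed T) : E.IsInvariantIn F ↔ SI F E :=
  ⟨si_of_isInvariantIn F E, fun h =>
    ⟨hE, hT, inv_of_si F E hT h, frattini_of_si hS F hF E hT h⟩⟩

end Cfsg.Agent.Lib.Helper8.StrongInv
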