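import Cfsg.Agent.Lib.Helper8.ThFact
import Cfsg.Agent.Lib.Helper8.Centric

set_option autoImplicit false

namespace Cfsg.Agent.Lib.Helper8.ThQuot

open Cfsg
open Cfsg.Agent.Lib.Helper8.Stable
open Cfsg.Agent.Lib.Helper8.ThFact
open Cfsg.Agent.Lib.Helper8.Centric

universe u

variable {G : Type u} [Group G] {p : ℕ}

theorem eq_one_of_pow_coprime {H : Type*} [Group H] [Finite H] {m : ℕ}
    (hc : (Nat.card H).Coprime m) (y : H) (hy : y ^ m = 1) : y = 1 := by
  have h1 : orderOf y ∣ m := orderOf_dvd_of_pow_eq_one hy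
  have h2 : orderOf y ∣ Nat.card H := orderOf_dvd_natCard y
  have h3 : orderOf y ∣ Nat.gcd (Nat.card H) m := Nat.dvd_gcd h2 h1
  rw [Nat.Coprime.gcd_eq_one hc, Nat.dvd_one] at h3
  exact orderOf_eq_one_iff.1 h3

theorem inj_on {G' : Type*} [Group G'] (f : G →* G') (S : Subgroup G) (h : S ⊓ f.ker = ⊥)
    (a b : G) (ha : a ∈ S) (hb : b ∈ S) (hab : f a = f b) : a = b := by
  have h1 : a⁻¹ * b ∈ f.ker := by
    rw [MonoidHom.mem_ker, map_mul, map_inv, hab, inv_mul_cancel]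
  have h2 : a⁻¹ * b ∈ S ⊓ f.ker := Subgroup.mem_inf.2 ⟨S.mul_mem (S.inv_mem ha) hb, h1⟩
  rw [h, Subgroup.mem_bot] at h2
  exact inv_mul_eq_one.1 h2

theorem inf_ker_bot [Finite G] (S : Subgroup G) (hS : IsPGroup p S) (K : Subgroup G)
    (hK : (Nat.card K).Coprime p) : S ⊓ K = ⊥ := by
  rw [eq_bot_iff]
  intro z hz
  obtain ⟨hzS, hzK⟩ := Subgroup.mem_inf.1 hz
  obtain ⟨k, hk⟩ := hS ⟨z, hzS⟩
  have hk' : z ^ p ^ k = 1 := congrArg Subtype.val hk
  have h1 : (⟨z, hzK⟩ : K) = 1 :=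
    eq_one_of_pow_coprime (Nat.Coprime.pow_right k hK) _ (Subtype.ext hk')
  exact Subgroup.mem_bot.2 (congrArg Subtype.val h1)

theorem pPrimeCore_quot_bot [Finite G] [hp : Fact p.Prime] {G' : Type*} [Group G'] (f : G →* G')
    (hf : Function.Surjective f) (hker : f.ker = pPrimeCore p G) : pPrimeCore p G' = ⊥ := by
  haveI : Finite G' := Finite.of_surjective f hf
  have hKc : (Nat.card ↥(f.ker)).Coprime p := by rw [hker]; exact pPrimeCore_coprime p
  rw [eq_bot_iff]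
  apply sSup_le
  rintro N ⟨hNn, hNc⟩
  haveI := hNn
  have h1 : N.comap f ≤ pPrimeCore p G := by
    apply le_sSup
    refine ⟨inferInstance, ?_⟩
    rw [Nat.coprime_comm]
    apply (Nat.Prime.coprime_iff_not_dvd hp.out).2
    intro hdvd
    obtain ⟨x, hx⟩ := exists_prime_orderOf_dvd_card' p hdvd
    have hxp : (x : G) ^ p = 1 := by
      have h := pow_orderOf_eq_one x
      rw [hx] at h
      exact congrArg Subtype.val h
    have hfx : f (x : G) ∈ N := x.2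
    have h2 : (⟨f (x : G), hfx⟩ : N) = 1 := by
      apply eq_one_of_pow_coprime hNc
      apply Subtype.ext
      show f (x : G) ^ p = 1
      rw [← map_pow, hxp, map_one]
    have h3 : (x : G) ∈ f.ker := MonoidHom.mem_ker.2 (congrArg Subtype.val h2)
    have h4 : (⟨(x : G), h3⟩ : f.ker) = 1 := by
      apply eq_one_of_pow_coprime hKc
      apply Subtype.ext
      exact hxp
    have h6 : (x : G) = 1 := congrArg Subtype.val h4
    have h5 : x = 1 := Subtype.ext h6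
    rw [h5, orderOf_one] at hx
    exact hp.out.one_lt.ne hx
  intro y hy
  obtain ⟨x, rfl⟩ := hf y
  have h2 : x ∈ pPrimeCore p G := h1 hy
  rw [← hker] at h2
  exact Subgroup.mem_bot.2 (MonoidHom.mem_ker.1 h2)

theorem thompsonOf_map {G' : Type u} [Group G'] (f : G →* G') (S : Subgroup G)
    (h : S ⊓ f.ker = ⊥) :
    thompsonSubgroupOf p (S.map f) = (thompsonSubgroupOf p S).map f := by
  have hinj : Function.Injective (f.subgroupMap S) := by
    intro a b hab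
    apply Subtype.ext
    apply inj_on f S h a.1 b.1 a.2 b.2
    exact congrArg Subtype.val hab
  obtain ⟨e, he⟩ : ∃ e : ↥S ≃* ↥(S.map f), ∀ x, ((e x : ↥(S.map f)) : G') = f x.1 :=
    ⟨MulEquiv.ofBijective (f.subgroupMap S) ⟨hinj, f.subgroupMap_surjective S⟩, fun x => rfl⟩
  have h1 := thompson_map_eq (p := p) e
  have hcomp : (S.map f).subtype.comp e.toMonoidHom = f.comp S.subtype := by
    ext x
    exact he x
  unfold thompsonSubgroupOf
  calc (thompsonSubgroup p ↥(S.map f)).map (S.map f).subtype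
      = ((thompsonSubgroup p ↥S).map e.toMonoidHom).map (S.map f).subtype := by rw [h1]
    _ = (thompsonSubgroup p ↥S).map ((S.map f).subtype.comp e.toMonoidHom) :=
        Subgroup.map_map _ _ _
    _ = (thompsonSubgroup p ↥S).map (f.comp S.subtype) := by rw [hcomp]
    _ = ((thompsonSubgroup p ↥S).map S.subtype).map f := (Subgroup.map_map _ _ _).symm

theorem omegaZ_map {G' : Type*} [Group G'] (f : G →* G') (S : Subgroup G)
    (h : S ⊓ f.ker = ⊥) :
    omegaOne p (S.map f ⊓ Subgroup.centralizer ((S.map f : Subgroup G') : Set G')) =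
      (omegaOne p (S ⊓ Subgroup.centralizer (S : Set G))).map f := by
  unfold omegaOne
  rw [MonoidHom.map_closure]
  congr 1
  ext y
  constructor
  · rintro ⟨hy, hyp⟩
    obtain ⟨hyS, hyC⟩ := Subgroup.mem_inf.1 hy
    obtain ⟨x, hxS, rfl⟩ := Subgroup.mem_map.1 hyS
    refine ⟨x, ⟨Subgroup.mem_inf.2 ⟨hxS, ?_⟩, ?_⟩, rfl⟩
    · refine Subgroup.mem_centralizer_iff.2 (fun s hs => ?_)
      have h1 := Subgroup.mem_centralizer_iff.1 hyC (f s) (Subgroup.mem_map_of_mem f hs)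
      apply inj_on f S h _ _ (S.mul_mem hs hxS) (S.mul_mem hxS hs)
      rw [map_mul, map_mul]; exact h1
    · apply inj_on f S h _ _ (S.pow_mem hxS p) S.one_mem
      rw [map_pow, map_one]; exact hyp
  · rintro ⟨x, ⟨hx, hxp⟩, rfl⟩
    obtain ⟨hxS, hxC⟩ := Subgroup.mem_inf.1 hx
    refine ⟨Subgroup.mem_inf.2 ⟨Subgroup.mem_map_of_mem f hxS, ?_⟩, ?_⟩
    · refine Subgroup.mem_centralizer_iff.2 (fun t ht => ?_)
      obtain ⟨s, hs, rfl⟩ := Subgroup.mem_map.1 ht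
      have h1 := Subgroup.mem_centralizer_iff.1 hxC s hs
      rw [← map_mul, ← map_mul, h1]
    · show f x ^ p = 1
      rw [← map_pow, hxp, map_one]

section fin

variable [Finite G] [Fact p.Prime]

theorem conjK (K : Subgroup G) [hK : K.Normal] (S : Sylow p G) (Q : Subgroup G)
    (hQ : IsPGroup p Q) (hQM : Q ≤ K ⊔ (S : Subgroup G)) :
    ∃ k ∈ K, ∀ q ∈ Q, k * q * k⁻¹ ∈ (S : Subgroup G) := by
  obtain ⟨H, hH⟩ : ∃ H : Subgroup G, H = K ⊔ (S : Subgroup G) := ⟨_, rfl⟩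
  have hSH : (S : Subgroup G) ≤ H := by rw [hH]; exact le_sup_right
  rw [← hH] at hQM
  obtain ⟨P₁, hP₁⟩ := (hQ.comap_subtype (K := H)).exists_le_sylow
  obtain ⟨m, hm⟩ := MulAction.exists_smul_eq H (S.subtype hSH) P₁
  have hmH : (m : G) ∈ K ⊔ (S : Subgroup G) := by rw [← hH]; exact m.2
  obtain ⟨k, hk, s, hs, hks⟩ := Subgroup.mem_sup_of_normal_left.1 hmH
  refine ⟨k⁻¹, inv_mem hk, ?_⟩
  intro q hq
  have hq1 : (⟨q, hQM hq⟩ : H) ∈ ((m • S.subtype hSH : Sylow p H) : Subgroup H) := by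
    rw [hm]; exact hP₁ (show (⟨q, hQM hq⟩ : H) ∈ Q.comap H.subtype from hq)
  rw [mem_smul_syl] at hq1
  have hq1' : m⁻¹ * (⟨q, hQM hq⟩ : H) * m ∈ (S : Subgroup G).subgroupOf H := hq1
  have hq2 : (m : G)⁻¹ * q * (m : G) ∈ (S : Subgroup G) := Subgroup.mem_subgroupOf.1 hq1'
  have e : k⁻¹ * q * k⁻¹⁻¹ = s * ((m : G)⁻¹ * q * (m : G)) * s⁻¹ := by
    rw [← hks]; group
  rw [e]
  exact (S : Subgroup G).mul_mem ((S : Subgroup G).mul_mem hs hq2) ((S : Subgroup G).inv_mem hs)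

theorem claimC {G' : Type*} [Group G'] (f : G →* G') (S : Sylow p G)
    (hbot : (S : Subgroup G) ⊓ f.ker = ⊥) (c₀ : G)
    (hc : f c₀ ∈ Subgroup.centralizer (((omegaOne p ((S : Subgroup G) ⊓
      Subgroup.centralizer ((S : Subgroup G) : Set G))).map f : Subgroup G') : Set G')) :
    ∃ k ∈ f.ker, k * c₀ ∈ Subgroup.centralizer
      (omegaOne p ((S : Subgroup G) ⊓ Subgroup.centralizer ((S : Subgroup G) : Set G)) : Set G) := by
  obtain ⟨Z, hZ⟩ : ∃ Z : Subgroup G, Z = omegaOne p ((S : Subgroup G) ⊓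
      Subgroup.centralizer ((S : Subgroup G) : Set G)) := ⟨_, rfl⟩
  rw [← hZ] at hc ⊢
  have hZS : Z ≤ (S : Subgroup G) := by
    rw [hZ]; unfold omegaOne
    exact (Subgroup.closure_le _).2 (fun x hx => (Subgroup.mem_inf.1 hx.1).1)
  have hZp : IsPGroup p Z := S.isPGroup'.to_le hZS
  have hQp : IsPGroup p (Z.map (MulAut.conj c₀).toMonoidHom) := hZp.map _
  have hQle : Z.map (MulAut.conj c₀).toMonoidHom ≤ f.ker ⊔ (S : Subgroup G) := by
    rintro _ ⟨z, hz, rfl⟩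
    have h1 : f z * f c₀ = f c₀ * f z :=
      Subgroup.mem_centralizer_iff.1 hc (f z) (Subgroup.mem_map_of_mem f hz)
    have h2 : z⁻¹ * (c₀ * z * c₀⁻¹) ∈ f.ker := by
      rw [MonoidHom.mem_ker]
      have e : f (z⁻¹ * (c₀ * z * c₀⁻¹)) = (f z)⁻¹ * (f c₀ * f z) * (f c₀)⁻¹ := by
        simp only [map_mul, map_inv, mul_assoc]
      rw [e, ← h1]; group
    have h3 : (MulAut.conj c₀).toMonoidHom z = z * (z⁻¹ * (c₀ * z * c₀⁻¹)) := by
      show c₀ * z * c₀⁻¹ = _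
      group
    rw [h3]
    exact Subgroup.mul_mem _ (Subgroup.mem_sup_right (hZS hz)) (Subgroup.mem_sup_left h2)
  obtain ⟨k, hk, hkq⟩ := conjK f.ker S _ hQp hQle
  refine ⟨k, hk, ?_⟩
  refine Subgroup.mem_centralizer_iff.2 (fun z hz => ?_)
  have h4 : k * (c₀ * z * c₀⁻¹) * k⁻¹ ∈ (S : Subgroup G) :=
    hkq ((MulAut.conj c₀).toMonoidHom z) (Subgroup.mem_map_of_mem _ hz)
  have h1 : f z * f c₀ = f c₀ * f z :=
    Subgroup.mem_centralizer_iff.1 hc (f z) (Subgroup.mem_map_of_mem f hz)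
  have hk1 : f k = 1 := MonoidHom.mem_ker.1 hk
  have h5 : f (k * (c₀ * z * c₀⁻¹) * k⁻¹) = f z := by
    have e : f (k * (c₀ * z * c₀⁻¹) * k⁻¹) = f k * (f c₀ * f z) * (f c₀)⁻¹ * (f k)⁻¹ := by
      simp only [map_mul, map_inv, mul_assoc]
    rw [e, hk1, ← h1]; group
  have h6 : k * (c₀ * z * c₀⁻¹) * k⁻¹ = z :=
    inj_on f (S : Subgroup G) hbot _ _ h4 (hZS hz) h5
  calc z * (k * c₀) = (k * (c₀ * z * c₀⁻¹) * k⁻¹) * (k * c₀) := by rw [h6]
    _ = k * c₀ * z := by group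

theorem claimN {G' : Type*} [Group G'] (f : G →* G') (S : Sylow p G) (n₀ : G)
    (hn : f n₀ ∈ Subgroup.normalizer
      (((thompsonSubgroupOf p (S : Subgroup G)).map f : Subgroup G') : Set G')) :
    ∃ k ∈ f.ker, k * n₀ ∈
      Subgroup.normalizer (thompsonSubgroupOf p (S : Subgroup G) : Set G) := by
  have hJS : thompsonSubgroupOf p (S : Subgroup G) ≤ (S : Subgroup G) := thompsonOf_le_self _
  have hJp : IsPGroup p (thompsonSubgroupOf p (S : Subgroup G)) := S.isPGroup'.to_le hJS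
  have hQp : IsPGroup p ((thompsonSubgroupOf p (S : Subgroup G)).map
      (MulAut.conj n₀).toMonoidHom) := hJp.map _
  have hQle : (thompsonSubgroupOf p (S : Subgroup G)).map (MulAut.conj n₀).toMonoidHom ≤
      f.ker ⊔ (S : Subgroup G) := by
    rintro _ ⟨j, hj, rfl⟩
    have h1 : f n₀ * f j * (f n₀)⁻¹ ∈ (thompsonSubgroupOf p (S : Subgroup G)).map f :=
      (Subgroup.mem_normalizer_iff.1 hn (f j)).1 (Subgroup.mem_map_of_mem f hj)
    obtain ⟨j', hj', hjj'⟩ := Subgroup.mem_map.1 h1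
    have h2 : j'⁻¹ * (n₀ * j * n₀⁻¹) ∈ f.ker := by
      rw [MonoidHom.mem_ker]
      have e : f (j'⁻¹ * (n₀ * j * n₀⁻¹)) = (f j')⁻¹ * (f n₀ * f j * (f n₀)⁻¹) := by
        simp only [map_mul, map_inv, mul_assoc]
      rw [e, hjj']; group
    have h3 : (MulAut.conj n₀).toMonoidHom j = j' * (j'⁻¹ * (n₀ * j * n₀⁻¹)) := by
      show n₀ * j * n₀⁻¹ = _
      group
    rw [h3]
    exact Subgroup.mul_mem _ (Subgroup.mem_sup_right (hJS hj')) (Subgroup.mem_sup_left h2)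
  obtain ⟨k, hk, hkq⟩ := conjK f.ker S _ hQp hQle
  refine ⟨k, hk, ?_⟩
  apply mem_normalizer_thompsonOf
  intro j hj
  have h4 : k * (n₀ * j * n₀⁻¹) * k⁻¹ ∈ (S : Subgroup G) :=
    hkq ((MulAut.conj n₀).toMonoidHom j) (Subgroup.mem_map_of_mem _ hj)
  have e : k * n₀ * j * (k * n₀)⁻¹ = k * (n₀ * j * n₀⁻¹) * k⁻¹ := by group
  rw [e]; exact h4

theorem main_gen {G' : Type u} [Group G'] (f : G →* G')
    (hf : Function.Surjective f) (hker : f.ker = pPrimeCore p G) :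
    IsThompsonFactorizable p G ↔ IsThompsonFactorizable p G' := by
  haveI : Finite G' := Finite.of_surjective f hf
  have hKc : (Nat.card ↥(f.ker)).Coprime p := by rw [hker]; exact pPrimeCore_coprime p
  have hbot : ∀ S : Sylow p G, (S : Subgroup G) ⊓ f.ker = ⊥ :=
    fun S => inf_ker_bot (S : Subgroup G) S.isPGroup' f.ker hKc
  have hO' : pPrimeCore p G' = ⊥ := pPrimeCore_quot_bot f hf hker
  constructor
  · intro hTF S' g'
    obtain ⟨S, rfl⟩ := Sylow.mapSurjective_surjective hf p S'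
    obtain ⟨g, rfl⟩ := hf g'
    obtain ⟨x, hx, c, hc, n, hn, hg⟩ := hTF S g
    have hS' : ((Sylow.mapSurjective hf S : Sylow p G') : Subgroup G') =
        (S : Subgroup G).map f := rfl
    refine ⟨1, Subgroup.one_mem _, f c, ?_, f n, ?_, ?_⟩
    · rw [hS', omegaZ_map f (S : Subgroup G) (hbot S)]
      refine Subgroup.mem_centralizer_iff.2 (fun t ht => ?_)
      obtain ⟨z, hz, rfl⟩ := Subgroup.mem_map.1 ht
      have h1 := Subgroup.mem_centralizer_iff.1 hc z hz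
      rw [← map_mul, ← map_mul, h1]
    · apply mem_normalizer_thompsonOf
      intro j hj
      rw [hS', thompsonOf_map f (S : Subgroup G) (hbot S)] at hj
      obtain ⟨j₀, hj₀, rfl⟩ := Subgroup.mem_map.1 hj
      have h1 : n * j₀ * n⁻¹ ∈ thompsonSubgroupOf p (S : Subgroup G) :=
        (Subgroup.mem_normalizer_iff.1 hn j₀).1 hj₀
      have h2 : n * j₀ * n⁻¹ ∈ (S : Subgroup G) := thompsonOf_le_self _ h1
      have h3 : f (n * j₀ * n⁻¹) ∈ (S : Subgroup G).map f := Subgroup.mem_map_of_mem f h2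
      rw [map_mul, map_mul, map_inv] at h3
      exact h3
    · have hx1 : f x = 1 := by
        have hxk : x ∈ f.ker := by rw [hker]; exact hx
        exact MonoidHom.mem_ker.1 hxk
      rw [hg, map_mul, map_mul, hx1]
  · intro hTF S g
    obtain ⟨x', hx', c', hc', n', hn', hg'⟩ := hTF (Sylow.mapSurjective hf S) (f g)
    have hS' : ((Sylow.mapSurjective hf S : Sylow p G') : Subgroup G') =
        (S : Subgroup G).map f := rfl
    rw [hS', omegaZ_map f (S : Subgroup G) (hbot S)] at hc'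
    rw [hS', thompsonOf_map f (S : Subgroup G) (hbot S)] at hn'
    rw [hO', Subgroup.mem_bot] at hx'
    obtain ⟨c₀, rfl⟩ := hf c'
    obtain ⟨n₀, rfl⟩ := hf n'
    rw [hx', one_mul] at hg'
    obtain ⟨k₁, hk₁, hc⟩ := claimC f S (hbot S) c₀ hc'
    obtain ⟨k₂, hk₂, hn⟩ := claimN f S n₀ hn'
    have hk₃ : g * (c₀ * n₀)⁻¹ ∈ f.ker := by
      rw [MonoidHom.mem_ker]
      have e : f (g * (c₀ * n₀)⁻¹) = f g * (f c₀ * f n₀)⁻¹ := by
        simp only [map_mul, map_inv]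
      rw [e, hg']; group
    refine ⟨g * (c₀ * n₀)⁻¹ * k₁⁻¹ * ((k₁ * c₀) * k₂⁻¹ * (k₁ * c₀)⁻¹), ?_, k₁ * c₀, hc,
      k₂ * n₀, hn, ?_⟩
    · rw [← hker]
      exact Subgroup.mul_mem _ (Subgroup.mul_mem _ hk₃ (inv_mem hk₁))
        ((MonoidHom.normal_ker f).conj_mem _ (inv_mem hk₂) _)
    · group

theorem main : IsThompsonFactorizable p G ↔ IsThompsonFactorizable p (G ⧸ pPrimeCore p G) :=
  main_gen (QuotientGroup.mk' (pPrimeCore p G)) (QuotientGroup.mk'_surjective _)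
    (QuotientGroup.ker_mk' _)

end fin

end Cfsg.Agent.Lib.Helper8.ThQuot
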