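import Mathlib
import Cfsg.Agent.Lib.Helper8.ThQuot
import Cfsg.Agent.Lib.Helper8.WNormal

set_option autoImplicit false

namespace Cfsg.Agent.Lib.Helper8.SylQuot

open Cfsg.Agent.Lib.Helper8

variable {G : Type*} [Group G]

theorem mem_normalizer_of_conj_le [Finite G] (H : Subgroup G) (n : G)
    (h : ∀ x ∈ H, n * x * n⁻¹ ∈ H) : n ∈ Subgroup.normalizer (H : Set G) := by
  rw [Subgroup.mem_normalizer_iff_map_conj_eq]
  apply Subgroup.eq_of_le_of_card_ge
  · intro y hy
    obtain ⟨x, hx, rfl⟩ := Subgroup.mem_map.1 hy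
    exact h x hx
  · exact le_of_eq (Subgroup.card_map_of_injective (MulAut.conj n).injective).symm

theorem card_of_prod_bij (A B C : Subgroup G) (hAC : A ≤ C) (hBC : B ≤ C) (hAB : A ⊓ B = ⊥)
    (hsurj : ∀ x ∈ C, ∃ a ∈ A, ∃ b ∈ B, a * b = x) :
    Nat.card ↥C = Nat.card ↥A * Nat.card ↥B := by
  rw [← Nat.card_prod]
  symm
  apply Nat.card_congr
  refine Equiv.ofBijective (fun x : ↥A × ↥B =>
    (⟨(x.1 : G) * (x.2 : G), C.mul_mem (hAC x.1.2) (hBC x.2.2)⟩ : ↥C)) ⟨?_, ?_⟩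
  · rintro ⟨a, b⟩ ⟨a', b'⟩ hab
    have h1 : (a : G) * b = a' * b' := congrArg Subtype.val hab
    have h2 : (a' : G)⁻¹ * a = b' * (b : G)⁻¹ := by
      calc (a' : G)⁻¹ * a = (a' : G)⁻¹ * ((a : G) * b) * (b : G)⁻¹ := by group
        _ = (a' : G)⁻¹ * ((a' : G) * b') * (b : G)⁻¹ := by rw [h1]
        _ = b' * (b : G)⁻¹ := by group
    have h3 : (a' : G)⁻¹ * a ∈ A ⊓ B := Subgroup.mem_inf.2
      ⟨A.mul_mem (A.inv_mem a'.2) a.2, by rw [h2]; exact B.mul_mem b'.2 (B.inv_mem b.2)⟩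
    rw [hAB, Subgroup.mem_bot] at h3
    have h4 : (a : G) = a' := by
      calc (a : G) = a' * ((a' : G)⁻¹ * a) := by group
        _ = a' := by rw [h3, mul_one]
    have h5 : (b : G) = b' := by
      have h6 : (b' : G) * (b : G)⁻¹ = 1 := by rw [← h2, h3]
      exact (mul_inv_eq_one.1 h6).symm
    exact Prod.ext (Subtype.ext h4) (Subtype.ext h5)
  · rintro ⟨x, hx⟩
    obtain ⟨a, ha, b, hb, hab⟩ := hsurj x hx
    exact ⟨(⟨a, ha⟩, ⟨b, hb⟩), Subtype.ext hab⟩

theorem rel_sup [Finite G] (K H : Subgroup G) [K.Normal] :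
    H.relIndex (K ⊔ H) = H.relIndex K := by
  have h1 : Nat.card ↥H * H.relIndex (K ⊔ H) = Nat.card ↥(K ⊔ H) :=
    WNormal.card_mul_relIndex'' le_sup_right
  have h2 : Nat.card ↥K * K.relIndex (K ⊔ H) = Nat.card ↥(K ⊔ H) :=
    WNormal.card_mul_relIndex'' le_sup_left
  rw [Subgroup.relIndex_sup_left] at h2
  have h3 : Nat.card ↥(K ⊓ H) * (K ⊓ H).relIndex H = Nat.card ↥H :=
    WNormal.card_mul_relIndex'' inf_le_right
  rw [Subgroup.inf_relIndex_right] at h3
  have h4 : Nat.card ↥(K ⊓ H) * (K ⊓ H).relIndex K = Nat.card ↥K :=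
    WNormal.card_mul_relIndex'' inf_le_left
  rw [Subgroup.inf_relIndex_left] at h4
  have hpos : 0 < Nat.card ↥(K ⊓ H) * K.relIndex H := by rw [h3]; exact Nat.card_pos
  apply Nat.eq_of_mul_eq_mul_left hpos
  calc Nat.card ↥(K ⊓ H) * K.relIndex H * H.relIndex (K ⊔ H) = Nat.card ↥(K ⊔ H) := by
        rw [h3, h1]
    _ = Nat.card ↥K * K.relIndex H := h2.symm
    _ = Nat.card ↥(K ⊓ H) * H.relIndex K * K.relIndex H := by rw [h4]
    _ = Nat.card ↥(K ⊓ H) * K.relIndex H * H.relIndex K := by ring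

theorem comap_normalizer_map [Finite G] (p : ℕ) [Fact p.Prime] (K : Subgroup G) [K.Normal]
    (P : Sylow p G) :
    (Subgroup.normalizer (((P : Subgroup G).map (QuotientGroup.mk' K) : Subgroup (G ⧸ K)) :
      Set (G ⧸ K))).comap (QuotientGroup.mk' K) =
      K ⊔ Subgroup.normalizer ((P : Subgroup G) : Set G) := by
  apply le_antisymm
  · intro g hg
    rw [Subgroup.mem_comap] at hg
    have hQp : IsPGroup p ↥((P : Subgroup G).map (MulAut.conj g).toMonoidHom) :=
      P.isPGroup'.map _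
    have hQle : (P : Subgroup G).map (MulAut.conj g).toMonoidHom ≤ K ⊔ (P : Subgroup G) := by
      intro q hq
      obtain ⟨x, hx, rfl⟩ := Subgroup.mem_map.1 hq
      have h1 : QuotientGroup.mk' K (g * x * g⁻¹) ∈
          (P : Subgroup G).map (QuotientGroup.mk' K) := by
        have h2 := (Subgroup.mem_normalizer_iff.1 hg (QuotientGroup.mk' K x)).1
          (Subgroup.mem_map_of_mem _ hx)
        rw [map_mul, map_mul, map_inv]
        exact h2
      have h4 : (MulAut.conj g).toMonoidHom x ∈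
          ((P : Subgroup G).map (QuotientGroup.mk' K)).comap (QuotientGroup.mk' K) :=
        Subgroup.mem_comap.2 h1
      rw [Subgroup.comap_map_eq, QuotientGroup.ker_mk', sup_comm] at h4
      exact h4
    obtain ⟨k, hk, hkq⟩ := ThQuot.conjK K P _ hQp hQle
    have hkg : k * g ∈ Subgroup.normalizer ((P : Subgroup G) : Set G) := by
      apply mem_normalizer_of_conj_le
      intro x hx
      have h5 := hkq _ (Subgroup.mem_map_of_mem (MulAut.conj g).toMonoidHom hx)
      have e : k * g * x * (k * g)⁻¹ = k * (g * x * g⁻¹) * k⁻¹ := by group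
      rw [e]
      exact h5
    have e : g = k⁻¹ * (k * g) := by group
    rw [e]
    exact Subgroup.mul_mem _ (Subgroup.mem_sup_left (K.inv_mem hk)) (Subgroup.mem_sup_right hkg)
  · apply sup_le
    · intro k hk
      rw [Subgroup.mem_comap]
      have h1 : QuotientGroup.mk' K k = 1 := by
        rw [QuotientGroup.mk'_apply, QuotientGroup.eq_one_iff]; exact hk
      rw [h1]
      exact Subgroup.one_mem _
    · intro h hh
      rw [Subgroup.mem_comap]
      exact Subgroup.le_normalizer_map _ (Subgroup.mem_map_of_mem _ hh)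

theorem card_sylow_quot [Finite G] (p : ℕ) [Fact p.Prime] (K : Subgroup G) [K.Normal]
    (P : Sylow p G) :
    Nat.card (Sylow p G) = Nat.card (Sylow p (G ⧸ K)) *
      (Subgroup.normalizer ((P : Subgroup G) : Set G)).relIndex K := by
  obtain ⟨H, hH⟩ : ∃ H : Subgroup G, H = Subgroup.normalizer ((P : Subgroup G) : Set G) :=
    ⟨_, rfl⟩
  rw [← hH]
  have h1 : Nat.card (Sylow p G) = H.index := by
    rw [hH]; exact Sylow.card_eq_index_normalizer P
  have h2 : Nat.card (Sylow p (G ⧸ K)) = (K ⊔ H).index := by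
    have h3 : Nat.card (Sylow p (G ⧸ K)) = (Subgroup.normalizer
        (((P : Subgroup G).map (QuotientGroup.mk' K) : Subgroup (G ⧸ K)) : Set (G ⧸ K))).index :=
      Sylow.card_eq_index_normalizer (Sylow.mapSurjective (QuotientGroup.mk'_surjective K) P)
    have h4 : ((Subgroup.normalizer (((P : Subgroup G).map (QuotientGroup.mk' K) :
        Subgroup (G ⧸ K)) : Set (G ⧸ K))).comap (QuotientGroup.mk' K)).index =
        (Subgroup.normalizer (((P : Subgroup G).map (QuotientGroup.mk' K) :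
        Subgroup (G ⧸ K)) : Set (G ⧸ K))).index :=
      Subgroup.index_comap_of_surjective _ (QuotientGroup.mk'_surjective K)
    rw [h3, ← h4, comap_normalizer_map p K P, hH]
  have h5 : H.relIndex (K ⊔ H) * (K ⊔ H).index = H.index :=
    Subgroup.relIndex_mul_index le_sup_right
  have h6 : H.relIndex (K ⊔ H) = H.relIndex K := rel_sup K H
  rw [h1, h2, ← h5, h6, mul_comm]

theorem sylow_sup_inf [Finite G] (p : ℕ) [Fact p.Prime] (M N : Subgroup G) [M.Normal]
    [N.Normal] (hMN : M ⊓ N = ⊥) (P : Sylow p G) :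
    ((P : Subgroup G) ⊔ M) ⊓ ((P : Subgroup G) ⊔ N) = (P : Subgroup G) := by
  have hT : IsPGroup p ↥(((P : Subgroup G) ⊔ M) ⊓ ((P : Subgroup G) ⊔ N)) := by
    obtain ⟨a, ha⟩ := IsPGroup.iff_card.1 P.isPGroup'
    intro t
    refine ⟨a, ?_⟩
    apply Subtype.ext
    rw [Subgroup.coe_pow, Subgroup.coe_one]
    obtain ⟨h1, h2⟩ := Subgroup.mem_inf.1 t.2
    have key : ∀ (L : Subgroup G) [L.Normal], (t : G) ∈ (P : Subgroup G) ⊔ L →
        (t : G) ^ p ^ a ∈ L := by
      intro L _ ht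
      obtain ⟨x, hx, l, hl, hxl⟩ := Subgroup.mem_sup_of_normal_right.1 ht
      have h3 : (QuotientGroup.mk' L) ((t : G) ^ p ^ a) = 1 := by
        rw [map_pow, ← hxl, map_mul]
        have h4 : QuotientGroup.mk' L l = 1 := by
          rw [QuotientGroup.mk'_apply, QuotientGroup.eq_one_iff]; exact hl
        rw [h4, mul_one, ← map_pow]
        have h5 : x ^ p ^ a = 1 := by
          have h6 : (⟨x, hx⟩ : ↥(P : Subgroup G)) ^ p ^ a = 1 := by
            rw [← ha]; exact pow_card_eq_one'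
          have h7 := congrArg Subtype.val h6
          rw [Subgroup.coe_pow, Subgroup.coe_one] at h7
          exact h7
        rw [h5, map_one]
      rw [QuotientGroup.mk'_apply, QuotientGroup.eq_one_iff] at h3
      exact h3
    have h8 : (t : G) ^ p ^ a ∈ M ⊓ N := Subgroup.mem_inf.2 ⟨key M h1, key N h2⟩
    rw [hMN, Subgroup.mem_bot] at h8
    exact h8
  exact P.3 hT (le_inf le_sup_left le_sup_left)

theorem decomp [Finite G] (p : ℕ) [Fact p.Prime] (M N : Subgroup G) [M.Normal] [hN : N.Normal]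
    (hMN : M ⊓ N = ⊥) (P : Sylow p G) (u : G)
    (hu : u ∈ Subgroup.normalizer ((P : Subgroup G) : Set G)) (m n : G) (hm : m ∈ M)
    (hn : n ∈ N) (humn : m * n = u) : m ∈ Subgroup.normalizer ((P : Subgroup G) : Set G) := by
  apply mem_normalizer_of_conj_le
  intro x hx
  rw [← sylow_sup_inf p M N hMN P]
  refine Subgroup.mem_inf.2 ⟨?_, ?_⟩
  · exact Subgroup.mul_mem _ (Subgroup.mul_mem _ (Subgroup.mem_sup_right hm)
      (Subgroup.mem_sup_left hx)) (Subgroup.inv_mem _ (Subgroup.mem_sup_right hm))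
  · have h1 : n⁻¹ * x * n ∈ (P : Subgroup G) ⊔ N :=
      Subgroup.mul_mem _ (Subgroup.mul_mem _ (Subgroup.mem_sup_right (N.inv_mem hn))
        (Subgroup.mem_sup_left hx)) (Subgroup.mem_sup_right hn)
    have h2 : ∀ z ∈ (P : Subgroup G) ⊔ N, u * z * u⁻¹ ∈ (P : Subgroup G) ⊔ N := by
      intro z hz
      obtain ⟨a, ha, b, hb, hab⟩ := Subgroup.mem_sup_of_normal_right.1 hz
      have e : u * z * u⁻¹ = (u * a * u⁻¹) * (u * b * u⁻¹) := by rw [← hab]; group
      rw [e]
      exact Subgroup.mul_mem _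
        (Subgroup.mem_sup_left ((Subgroup.mem_normalizer_iff.1 hu a).1 ha))
        (Subgroup.mem_sup_right (hN.conj_mem b hb u))
    have e : m * x * m⁻¹ = u * (n⁻¹ * x * n) * u⁻¹ := by rw [← humn]; group
    rw [e]
    exact h2 _ h1

theorem relIndex_sup_mul [Finite G] (p : ℕ) [Fact p.Prime] (M N : Subgroup G) [M.Normal]
    [N.Normal] (hMN : M ⊓ N = ⊥) (P : Sylow p G) :
    (Subgroup.normalizer ((P : Subgroup G) : Set G)).relIndex (M ⊔ N) =
      (Subgroup.normalizer ((P : Subgroup G) : Set G)).relIndex M *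
      (Subgroup.normalizer ((P : Subgroup G) : Set G)).relIndex N := by
  obtain ⟨H, hH⟩ : ∃ H : Subgroup G, H = Subgroup.normalizer ((P : Subgroup G) : Set G) :=
    ⟨_, rfl⟩
  rw [← hH]
  have h1 : Nat.card ↥(H ⊓ (M ⊔ N)) * H.relIndex (M ⊔ N) = Nat.card ↥(M ⊔ N) := by
    have h := WNormal.card_mul_relIndex'' (inf_le_right : H ⊓ (M ⊔ N) ≤ M ⊔ N)
    rwa [Subgroup.inf_relIndex_right] at h
  have h2 : Nat.card ↥(H ⊓ M) * H.relIndex M = Nat.card ↥M := by
    have h := WNormal.card_mul_relIndex'' (inf_le_right : H ⊓ M ≤ M)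
    rwa [Subgroup.inf_relIndex_right] at h
  have h3 : Nat.card ↥(H ⊓ N) * H.relIndex N = Nat.card ↥N := by
    have h := WNormal.card_mul_relIndex'' (inf_le_right : H ⊓ N ≤ N)
    rwa [Subgroup.inf_relIndex_right] at h
  have h4 : Nat.card ↥(M ⊔ N) = Nat.card ↥M * Nat.card ↥N :=
    card_of_prod_bij M N (M ⊔ N) le_sup_left le_sup_right hMN
      (fun x hx => Subgroup.mem_sup_of_normal_right.1 hx)
  have h5 : Nat.card ↥(H ⊓ (M ⊔ N)) = Nat.card ↥(H ⊓ M) * Nat.card ↥(H ⊓ N) := by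
    apply card_of_prod_bij (H ⊓ M) (H ⊓ N) (H ⊓ (M ⊔ N)) (inf_le_inf_left H le_sup_left)
      (inf_le_inf_left H le_sup_right)
    · rw [eq_bot_iff, ← hMN]
      exact inf_le_inf inf_le_right inf_le_right
    · intro u hu
      obtain ⟨huH, huMN⟩ := Subgroup.mem_inf.1 hu
      obtain ⟨m, hm, n, hn, hmn⟩ := Subgroup.mem_sup_of_normal_right.1 huMN
      have hmH : m ∈ H := by
        rw [hH]
        rw [hH] at huH
        exact decomp p M N hMN P u huH m n hm hn hmn
      have hnH : n ∈ H := by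
        have e : n = m⁻¹ * u := by rw [← hmn]; group
        rw [e]
        exact H.mul_mem (H.inv_mem hmH) huH
      exact ⟨m, Subgroup.mem_inf.2 ⟨hmH, hm⟩, n, Subgroup.mem_inf.2 ⟨hnH, hn⟩, hmn⟩
  have hpos : 0 < Nat.card ↥(H ⊓ M) * Nat.card ↥(H ⊓ N) := Nat.mul_pos Nat.card_pos Nat.card_pos
  apply Nat.eq_of_mul_eq_mul_left hpos
  calc Nat.card ↥(H ⊓ M) * Nat.card ↥(H ⊓ N) * H.relIndex (M ⊔ N) = Nat.card ↥(M ⊔ N) := by
        rw [← h5, h1]
    _ = Nat.card ↥M * Nat.card ↥N := h4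
    _ = (Nat.card ↥(H ⊓ M) * H.relIndex M) * (Nat.card ↥(H ⊓ N) * H.relIndex N) := by
        rw [h2, h3]
    _ = Nat.card ↥(H ⊓ M) * Nat.card ↥(H ⊓ N) * (H.relIndex M * H.relIndex N) := by ring

/-- S3867 -/
theorem main [Finite G] (p : ℕ) [Fact p.Prime] (M N : Subgroup G) [M.Normal] [N.Normal]
    (hMN : M ⊓ N = ⊥) :
    Nat.card (Sylow p G) * Nat.card (Sylow p (G ⧸ (M ⊔ N))) =
      Nat.card (Sylow p (G ⧸ M)) * Nat.card (Sylow p (G ⧸ N)) := by
  obtain ⟨P⟩ : Nonempty (Sylow p G) := inferInstance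
  have hFM := card_sylow_quot p M P
  have hFN := card_sylow_quot p N P
  have hFMN := card_sylow_quot p (M ⊔ N) P
  have hC := relIndex_sup_mul p M N hMN P
  obtain ⟨H, hH⟩ : ∃ H : Subgroup G, H = Subgroup.normalizer ((P : Subgroup G) : Set G) :=
    ⟨_, rfl⟩
  rw [← hH] at hFM hFN hFMN hC
  have hposM : 0 < H.relIndex M :=
    Nat.pos_of_ne_zero (show (H.subgroupOf M).index ≠ 0 from Subgroup.index_ne_zero_of_finite)
  have hposN : 0 < H.relIndex N :=
    Nat.pos_of_ne_zero (show (H.subgroupOf N).index ≠ 0 from Subgroup.index_ne_zero_of_finite)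
  apply Nat.eq_of_mul_eq_mul_right (Nat.mul_pos hposM hposN)
  calc Nat.card (Sylow p G) * Nat.card (Sylow p (G ⧸ (M ⊔ N))) *
        (H.relIndex M * H.relIndex N)
      = Nat.card (Sylow p G) * (Nat.card (Sylow p (G ⧸ (M ⊔ N))) * H.relIndex (M ⊔ N)) := by
        rw [hC]; ring
    _ = Nat.card (Sylow p G) * Nat.card (Sylow p G) := by rw [← hFMN]
    _ = (Nat.card (Sylow p (G ⧸ M)) * H.relIndex M) *
        (Nat.card (Sylow p (G ⧸ N)) * H.relIndex N) := by rw [← hFM, ← hFN]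
    _ = Nat.card (Sylow p (G ⧸ M)) * Nat.card (Sylow p (G ⧸ N)) *
        (H.relIndex M * H.relIndex N) := by ring

end Cfsg.Agent.Lib.Helper8.SylQuot
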